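import Cfsg.Agent.Helper19.Twist.ClassElts

set_option autoImplicit false
set_option maxRecDepth 100000
set_option linter.unusedSectionVars false

/-!
The class elements of `³D₄(q)`: `n_J(t)`, `h_J(t)` for `J = {p₁, p₃, p₄}` and `n_{p₂}(t)`,
`h_{p₂}(t)` for `t` in the fixed field lie in the twisted group.
-/

namespace Cfsg.Agent.Helper19.Twist

open Cfsg Cfsg.Lie Cfsg.Agent.Helper18 Cfsg.Agent.S1081

section D4

variable {K : Type*} [Field K] {q : ℕ} (f : K ≃+* K) (hf : ∀ t, f t = t ^ q)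

theorem wordGL_mem_twistedD4 (w : List (ℕ × K)) (hw : w ∈ d4Words K q) :
    wordGL chevD4 K w ∈ twistedD4 K q :=
  Subgroup.subset_closure ⟨w, hw, wordGL_val chevD4 _ (triOK_of_mem chevD4 memD4) w⟩

include hf in
theorem xJpD4_mem (t : K) :
    xGL chevD4 K 18 t * xGL chevD4 K 13 (f t) * xGL chevD4 K 12 (f (f t)) ∈ twistedD4 K q := by
  have h : wordGL chevD4 K [(18, t), (13, t ^ q), (12, t ^ (q ^ 2))] ∈ twistedD4 K q :=
    wordGL_mem_twistedD4 _ (Or.inr ⟨t, (d4p1, d4p3, d4p4), by simp, rfl⟩)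
  have e : wordGL chevD4 K [(18, t), (13, t ^ q), (12, t ^ (q ^ 2))] =
      xGL chevD4 K 18 t * xGL chevD4 K 13 (f t) * xGL chevD4 K 12 (f (f t)) := by
    rw [hf, hf, ← pow_mul, ← sq]
    simp [wordGL, mul_assoc]
  rw [← e]; exact h

include hf in
theorem xJmD4_mem (t : K) :
    xGL chevD4 K 5 t * xGL chevD4 K 10 (f t) * xGL chevD4 K 11 (f (f t)) ∈ twistedD4 K q := by
  have h : wordGL chevD4 K [(5, t), (10, t ^ q), (11, t ^ (q ^ 2))] ∈ twistedD4 K q :=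
    wordGL_mem_twistedD4 _ (Or.inr ⟨t, (d4m1, d4m3, d4m4), by simp, rfl⟩)
  have e : wordGL chevD4 K [(5, t), (10, t ^ q), (11, t ^ (q ^ 2))] =
      xGL chevD4 K 5 t * xGL chevD4 K 10 (f t) * xGL chevD4 K 11 (f (f t)) := by
    rw [hf, hf, ← pow_mul, ← sq]
    simp [wordGL, mul_assoc]
  rw [← e]; exact h

include hf in
theorem x2pD4_mem (t : K) (ht : f t = t) : xGL chevD4 K 14 t ∈ twistedD4 K q := by
  have h : wordGL chevD4 K [(14, t)] ∈ twistedD4 K q :=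
    wordGL_mem_twistedD4 _ (Or.inl ⟨t, by rw [← hf, ht], d4p2, by simp [d4p2], rfl⟩)
  have e : wordGL chevD4 K [(14, t)] = xGL chevD4 K 14 t := by simp [wordGL]
  rw [← e]; exact h

include hf in
theorem x2mD4_mem (t : K) (ht : f t = t) : xGL chevD4 K 9 t ∈ twistedD4 K q := by
  have h : wordGL chevD4 K [(9, t)] ∈ twistedD4 K q :=
    wordGL_mem_twistedD4 _ (Or.inl ⟨t, by rw [← hf, ht], d4m2, by simp [d4m2], rfl⟩)
  have e : wordGL chevD4 K [(9, t)] = xGL chevD4 K 9 t := by simp [wordGL]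
  rw [← e]; exact h

theorem orth_18_13 : orthOK chevD4 18 13 = true := by decide +kernel
theorem orth_18_12 : orthOK chevD4 18 12 = true := by decide +kernel
theorem orth_13_12 : orthOK chevD4 13 12 = true := by decide +kernel

include hf in
/-- `n_J(t) = n_{p₁}(t) n_{p₃}(t^q) n_{p₄}(t^{q²}) ∈ G¹` -/
theorem nJD4_mem (t : K) :
    nG chevD4 K 18 t * nG chevD4 K 13 (f t) * nG chevD4 K 12 (f (f t)) ∈ twistedD4 K q := by
  have h1 := xJpD4_mem f hf t
  have h2 := xJmD4_mem f hf (-t⁻¹)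
  have h3 := mul_mem (mul_mem h1 h2) h1
  have e := nprod3 (K := K) chevD4 memD4 18 13 12 orth_18_13 orth_18_12 orth_13_12 t (f t) (f (f t))
    (-t⁻¹) (f (-t⁻¹)) (f (f (-t⁻¹)))
  have n1 : chevD4.neg 18 = 5 := rfl
  have n2 : chevD4.neg 13 = 10 := rfl
  have n3 : chevD4.neg 12 = 11 := rfl
  rw [n1, n2, n3] at e
  rw [e] at h3
  rw [nG_eq, nG_eq, nG_eq, n1, n2, n3]
  have e1 : f (-t⁻¹) = -(f t)⁻¹ := by rw [map_neg, map_inv₀]
  have e2 : f (f (-t⁻¹)) = -(f (f t))⁻¹ := by rw [e1, map_neg, map_inv₀]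
  rw [e2, e1] at h3
  exact h3

include hf in
/-- `h_J(t) = h_{p₁}(t) h_{p₃}(t^q) h_{p₄}(t^{q²}) ∈ G¹` -/
theorem hJD4_mem (t : K) :
    hG chevD4 K 18 t * hG chevD4 K 13 (f t) * hG chevD4 K 12 (f (f t)) ∈ twistedD4 K q := by
  have h1 := nJD4_mem f hf t
  have h2 := nJD4_mem f hf (-1)
  have e1 : f (-1) = -1 := by rw [map_neg, map_one]
  rw [e1, e1] at h2
  have h3 := mul_mem h1 h2
  rw [hprod3 (K := K) chevD4 memD4 18 13 12 orth_18_13 orth_18_12 orth_13_12] at h3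
  exact h3

include hf in
theorem n2D4_mem (t : K) (ht : f t = t) : nG chevD4 K 14 t ∈ twistedD4 K q := by
  rw [nG_eq]
  have n1 : chevD4.neg 14 = 9 := rfl
  rw [n1]
  have e1 : f (-t⁻¹) = -t⁻¹ := by rw [map_neg, map_inv₀, ht]
  exact mul_mem (mul_mem (x2pD4_mem f hf t ht) (x2mD4_mem f hf _ e1)) (x2pD4_mem f hf t ht)

include hf in
theorem h2D4_mem (t : K) (ht : f t = t) : hG chevD4 K 14 t ∈ twistedD4 K q := by
  rw [hG_eq]
  exact mul_mem (n2D4_mem f hf t ht) (n2D4_mem f hf (-1) (by rw [map_neg, map_one]))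

end D4

end Cfsg.Agent.Helper19.Twist
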