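import Cfsg.Agent.Helper19.Twist.UD4
import Cfsg.Agent.Helper19.Twist.ClassD4

/-!
`U^σ ≤ ³D₄(q)`: the fixed points of every class of positive roots lie in the twisted group.
-/

set_option autoImplicit false
set_option maxRecDepth 100000
set_option linter.unusedSectionVars false

namespace Cfsg.Agent.Helper19.Twist

open Cfsg Cfsg.Lie Cfsg.Agent.Helper18 Cfsg.Agent.Helper40.GraphAut Cfsg.Agent.Helper40.UProd
  Cfsg.Agent.Helper40.UData Cfsg.Agent.S1081 Cfsg.Agent.Helper19.Cox Cfsg.Agent.Helper19.Poinc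

section Reps

variable {K : Type*} [Field K] [Fintype K] {q : ℕ} (f : K ≃+* K) (hf : ∀ t, f t = t ^ q)
  (h31 : NConjHyp chevD4 K) [hn : (HN chevD4 K).Normal]

/-- representatives in `N ∩ G¹` of the two generators of the twisted Weyl group -/
noncomputable def repGenD4 (K : Type*) [Field K] (a : ℕ) : ↥(chevD4.monomialSubgroup K) :=
  if a = 0 then nN chevD4 K 18 * nN chevD4 K 13 * nN chevD4 K 12 else nN chevD4 K 14

/-- representatives in `N ∩ G¹` of the words in the generators of the twisted Weyl group -/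
noncomputable def repD4 (K : Type*) [Field K] (w : List ℕ) : ↥(chevD4.monomialSubgroup K) :=
  (w.map (repGenD4 K)).prod

include hf in
theorem repGenD4_mem (a : ℕ) : ((repGenD4 K a : ↥(chevD4.monomialSubgroup K)) : GL chevD4.Idx K) ∈ twistedD4 K q := by
  have f1 : f 1 = 1 := map_one f
  unfold repGenD4
  split_ifs with ha
  · rw [Subgroup.coe_mul, Subgroup.coe_mul, nN_val chevD4 memD4 18 (by decide), nN_val chevD4 memD4 13 (by decide),
      nN_val chevD4 memD4 12 (by decide)]
    have := nJD4_mem f hf (1 : K)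
    rw [f1, f1] at this
    exact this
  · rw [nN_val chevD4 memD4 14 (by decide)]
    exact n2D4_mem f hf (1 : K) f1

include hf in
theorem repD4_mem (w : List ℕ) : ((repD4 K w : ↥(chevD4.monomialSubgroup K)) : GL chevD4.Idx K) ∈ twistedD4 K q := by
  induction w with
  | nil => simp [repD4]
  | cons a w ih =>
    have : repD4 K (a :: w) = repGenD4 K a * repD4 K w := by simp [repD4]
    rw [this, Subgroup.coe_mul]
    exact mul_mem (repGenD4_mem f hf a) ih

theorem theta_repGenD4 (a : ℕ) (ha : a < 2) :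
    theta chevD4 memD4 certD4 h31 (repGenD4 K a) = gp certD4.M (JD4 a) := by
  have e0 := theta_nN (F := K) chevD4 memD4 certD4 h31 0 (by decide)
  have e1 := theta_nN (F := K) chevD4 memD4 certD4 h31 1 (by decide)
  have e2 := theta_nN (F := K) chevD4 memD4 certD4 h31 2 (by decide)
  have e3 := theta_nN (F := K) chevD4 memD4 certD4 h31 3 (by decide)
  have s0 : chevD4.simple 0 = 18 := rfl
  have s1 : chevD4.simple 1 = 14 := rfl
  have s2 : chevD4.simple 2 = 13 := rfl
  have s3 : chevD4.simple 3 = 12 := rfl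
  rw [s0] at e0; rw [s1] at e1; rw [s2] at e2; rw [s3] at e3
  interval_cases a
  · have : repGenD4 K 0 = nN chevD4 K 18 * nN chevD4 K 13 * nN chevD4 K 12 := by simp [repGenD4]
    rw [this, map_mul, map_mul, e0, e2, e3]
    have : JD4 0 = [0, 2, 3] := rfl
    rw [this, gp_cons, gp_cons, gp_singleton, mul_assoc]
  · have : repGenD4 K 1 = nN chevD4 K 14 := by simp [repGenD4]
    rw [this, e1]
    have : JD4 1 = [1] := rfl
    rw [this, gp_singleton]

theorem theta_repD4 (w : List ℕ) (hw : ∀ a ∈ w, a < 2) :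
    theta chevD4 memD4 certD4 h31 (repD4 K w) = gp certD4.M (w.flatMap JD4) := by
  induction w with
  | nil => simp [repD4]
  | cons a w ih =>
    have : repD4 K (a :: w) = repGenD4 K a * repD4 K w := by simp [repD4]
    rw [this, map_mul, theta_repGenD4 h31 a (hw a List.mem_cons_self),
      ih (fun b hb => hw b (List.mem_cons_of_mem _ hb)), List.flatMap_cons, gp_append]

end Reps

section Classes

variable {K : Type*} [Field K] [Fintype K] {q : ℕ} (f : K ≃+* K) (hf : ∀ t, f t = t ^ q)
  (h31 : NConjHyp chevD4 K) [hn : (HN chevD4 K).Normal]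

theorem flatten_singleton (S : List ℕ) : [S].flatten = S := by simp

include hf in
theorem card_class_D4 (hq : 1 ≤ q) (hK : Fintype.card K = q ^ 3) (S : List ℕ) (hS : S ∈ ClD4) :
    Nat.card ↥(listSubgroup chevD4 K S ⊓ FixD4 f) = q ^ S.length := by
  have c1 : ClosedList chevD4 phiTD4 [S].flatten := by
    rw [flatten_singleton]; exact closedOK_spec (List.all_eq_true.mp closedOK_D4_each S hS)
  have c2 : classOK chevD4 pi1 [S] = true := List.all_eq_true.mp classOK_D4_each S hS
  have c3 : [S].all (cycOK piInv1 eps1 3) = true := by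
    rw [List.all_cons, List.all_nil, Bool.and_true]
    exact List.all_eq_true.mp cycOK_D4 S hS
  have c4 : [S].flatten.Nodup := by
    rw [flatten_singleton]
    have := nodup_D4
    exact (List.nodup_flatten.mp this).1 S hS
  have h1 := ncard_fix_listSubgroup (K := K) memD4 gradeOK'_D4 rho1 rhoInv1 pi1 piInv1 eps1 permsOK_D4 f allOK1 [S]
    c1 c2
  have h2 := ncard_TS_classes piInv1 eps1 f (ncard_fix_field f hf hq hK) hK (by omega) (fun _ => frob3 f hf hK) [S]
    c4 c3
  rw [flatten_singleton] at h1 h2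
  unfold FixD4
  rw [h1, h2]

include hf in
theorem simpleJ_le_D4 : listSubgroup chevD4 K [18, 13, 12] ⊓ FixD4 f ≤ twistedD4 K q := by
  intro g hg
  have c1 : ClosedList chevD4 phiTD4 [[18, 13, 12]].flatten := by
    rw [flatten_singleton]; exact closedOK_spec (List.all_eq_true.mp closedOK_D4_each _ (by decide))
  have c2 : classOK chevD4 pi1 [[18, 13, 12]] = true := List.all_eq_true.mp classOK_D4_each _ (by decide)
  have h1 := fix_listSubgroup_eq (K := K) memD4 gradeOK'_D4 rho1 rhoInv1 pi1 piInv1 eps1 permsOK_D4 f allOK1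
    [[18, 13, 12]] c1 c2
  rw [flatten_singleton] at h1
  have hg' : g ∈ ((listSubgroup chevD4 K [18, 13, 12] ⊓ Fix chevD4 rho1 rhoInv1 pi1 piInv1 eps1 permsOK_D4 f :
      Subgroup (GL chevD4.Idx K)) : Set (GL chevD4.Idx K)) := hg
  rw [h1] at hg'
  obtain ⟨t, ht, rfl⟩ := hg'
  obtain ⟨-, ht2⟩ := mem_TS' piInv1 eps1 f _ t ht
  have e13 := ht2 13 (by decide)
  have e12 := ht2 12 (by decide)
  have p13 : piInv1 13 = 18 := rfl
  have p12 : piInv1 12 = 13 := rfl
  have s18 : eps1 18 = 1 := rfl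
  have s13 : eps1 13 = 1 := rfl
  rw [p13, s18, Int.cast_one, one_mul] at e13
  rw [p12, s13, Int.cast_one, one_mul, e13] at e12
  have : pwG chevD4 K [18, 13, 12] t =
      xGL chevD4 K 18 (t 18) * xGL chevD4 K 13 (f (t 18)) * xGL chevD4 K 12 (f (f (t 18))) := by
    simp only [pwG, List.map_cons, List.map_nil, List.prod_cons, List.prod_nil, mul_one]
    rw [e13, e12, mul_assoc]
  rw [this]
  exact xJpD4_mem f hf (t 18)

include hf in
theorem simple2_le_D4 : listSubgroup chevD4 K [14] ⊓ FixD4 f ≤ twistedD4 K q := by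
  intro g hg
  have c1 : ClosedList chevD4 phiTD4 [[14]].flatten := by
    rw [flatten_singleton]; exact closedOK_spec (List.all_eq_true.mp closedOK_D4_each _ (by decide))
  have c2 : classOK chevD4 pi1 [[14]] = true := List.all_eq_true.mp classOK_D4_each _ (by decide)
  have h1 := fix_listSubgroup_eq (K := K) memD4 gradeOK'_D4 rho1 rhoInv1 pi1 piInv1 eps1 permsOK_D4 f allOK1
    [[14]] c1 c2
  rw [flatten_singleton] at h1
  have hg' : g ∈ ((listSubgroup chevD4 K [14] ⊓ Fix chevD4 rho1 rhoInv1 pi1 piInv1 eps1 permsOK_D4 f :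
      Subgroup (GL chevD4.Idx K)) : Set (GL chevD4.Idx K)) := hg
  rw [h1] at hg'
  obtain ⟨t, ht, rfl⟩ := hg'
  obtain ⟨-, ht2⟩ := mem_TS' piInv1 eps1 f _ t ht
  have e14 := ht2 14 (by decide)
  have p14 : piInv1 14 = 14 := rfl
  have s14 : eps1 14 = 1 := rfl
  rw [p14, s14, Int.cast_one, one_mul] at e14
  have : pwG chevD4 K [14] t = xGL chevD4 K 14 (t 14) := by
    simp only [pwG, List.map_cons, List.map_nil, List.prod_cons, List.prod_nil, mul_one]
  rw [this]
  exact x2pD4_mem f hf (t 14) e14.symm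

include hf h31 hn in
/-- conjugating a simple class by a representative of a word -/
theorem class_le_of_word_D4 (hq : 1 ≤ q) (hK : Fintype.card K = q ^ 3) (w : List ℕ) (hw : ∀ a ∈ w, a < 2)
    (J S : List ℕ) (hJ : J ∈ ClD4) (hS : S ∈ ClD4) (hlen : S.length = J.length)
    (hmap : ∀ r ∈ J, actW certD4.tabs chevD4.rank chevD4.nroots (w.flatMap JD4) r ∈ S)
    (hJle : listSubgroup chevD4 K J ⊓ FixD4 f ≤ twistedD4 K q) :
    listSubgroup chevD4 K S ⊓ FixD4 f ≤ twistedD4 K q := by
  have hJlt : ∀ r ∈ J, r < chevD4.nroots := by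
    intro r hr
    have : r ∈ ClD4.flatten := List.mem_flatten.mpr ⟨J, hJ, hr⟩
    exact ((mem_ClD4_iff r).mp this).1
  have hmem := repD4_mem f hf w
  have hfix : sigD4 f ((repD4 K w : ↥(chevD4.monomialSubgroup K)) : GL chevD4.Idx K) = _ :=
    (mem_FixD4 f _).mp (twistedD4_le_FixD4 f hf hK hmem)
  refine class_fix_le_of_conj memD4 certD4 h31 rho1 rhoInv1 pi1 piInv1 eps1 permsOK_D4 f (twistedD4 K q)
    (repD4 K w) hmem hfix J S hJlt ?_ hJle ?_
  · intro r hr
    rw [theta_repD4 h31 w hw, phi_gp]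
    exact hmap r hr
  · have a1 := card_class_D4 f hf hq hK S hS
    have a2 := card_class_D4 f hf hq hK J hJ
    unfold FixD4 at a1 a2
    rw [a1, a2, hlen]

include hf h31 hn in
theorem class_le_D4 (hq : 1 ≤ q) (hK : Fintype.card K = q ^ 3) (S : List ℕ) (hS : S ∈ ClD4) :
    listSubgroup chevD4 K S ⊓ FixD4 f ≤ twistedD4 K q := by
  have hS' := hS
  simp only [ClD4, List.mem_cons, List.not_mem_nil, or_false] at hS'
  rcases hS' with rfl | rfl | rfl | rfl | rfl | rfl
  · exact simpleJ_le_D4 f hf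
  · exact simple2_le_D4 f hf
  · exact class_le_of_word_D4 f hf h31 hq hK [1] (by decide) [18, 13, 12] _ (by decide) hS rfl (by decide)
      (simpleJ_le_D4 f hf)
  · exact class_le_of_word_D4 f hf h31 hq hK [0, 1] (by decide) [18, 13, 12] _ (by decide) hS rfl (by decide)
      (simpleJ_le_D4 f hf)
  · exact class_le_of_word_D4 f hf h31 hq hK [0] (by decide) [14] _ (by decide) hS rfl (by decide)
      (simple2_le_D4 f hf)
  · exact class_le_of_word_D4 f hf h31 hq hK [1, 0] (by decide) [14] _ (by decide) hS rfl (by decide)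
      (simple2_le_D4 f hf)

include hf h31 hn in
/-- `U^σ ≤ G¹` -/
theorem U_fix_le_D4 (hq : 1 ≤ q) (hK : Fintype.card K = q ^ 3) :
    chevD4.posUnipotent K ⊓ FixD4 f ≤ twistedD4 K q := by
  have := fix_le_of_classes (K := K) memD4 gradeOK'_D4 rho1 rhoInv1 pi1 piInv1 eps1 permsOK_D4 f allOK1
    (twistedD4 K q) (k := 3) ClD4 nodup_D4 cycOK_D4 (closedOK_spec closedOK_D4) classOK_D4 (by
      intro S hS
      refine ⟨closedOK_spec (List.all_eq_true.mp closedOK_D4_each S hS),
        List.all_eq_true.mp classOK_D4_each S hS, ?_⟩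
      exact class_le_D4 f hf h31 hq hK S hS)
  rw [listSubgroup_ClD4] at this
  exact this

include hf h31 hn in
/-- `U ∩ G¹ = U^σ` -/
theorem U_inf_twisted_D4 (hq : 1 ≤ q) (hK : Fintype.card K = q ^ 3) :
    chevD4.posUnipotent K ⊓ twistedD4 K q = chevD4.posUnipotent K ⊓ FixD4 f := by
  apply le_antisymm
  · exact inf_le_inf_left _ (twistedD4_le_FixD4 f hf hK)
  · exact le_inf inf_le_left (U_fix_le_D4 f hf h31 hq hK)

end Classes

end Cfsg.Agent.Helper19.Twist
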