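import Cfsg.Agent.Helper19.Twist.TwCount
import Cfsg.Agent.Helper19.Twist.UD4b
import Cfsg.Agent.S1043

/-!
The order of `³D₄(q)`: the twelve elements of the Weyl group of `D₄` commuting with triality,
their sets of inverted positive roots, and the resulting count.
-/

set_option autoImplicit false
set_option maxRecDepth 100000
set_option linter.unusedSectionVars false

namespace Cfsg.Agent.Helper19.Twist

open Cfsg Cfsg.Lie Cfsg.Agent.Helper18 Cfsg.Agent.Helper40.GraphAut Cfsg.Agent.Helper40.UProd
  Cfsg.Agent.Helper40.UData Cfsg.Agent.S1081 Cfsg.Agent.Helper19.Cox Cfsg.Agent.Helper19.Poinc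

/-! ### generalities -/

section Gen

variable {D : ChevalleyDatum} (C : Cert D)

/-- two words with the same action on the roots give the same element of the Weyl group -/
theorem gp_eq_of_actW (w₁ w₂ : List ℕ)
    (h : ∀ x < D.nroots, actW C.tabs D.rank D.nroots w₁ x = actW C.tabs D.rank D.nroots w₂ x) :
    gp C.M w₁ = gp C.M w₂ := by
  apply C.hinj
  apply Equiv.ext
  intro x
  by_cases hx : x < D.nroots
  · rw [phi_gp, phi_gp, h x hx]
  · rw [phi_ge' C.M C.Mx C.hI C.hB C.hMx _ x hx, phi_ge' C.M C.Mx C.hI C.hB C.hMx _ x hx]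

theorem actW_eq_of_gp (w₁ w₂ : List ℕ) (h : gp C.M w₁ = gp C.M w₂) (x : ℕ) :
    actW C.tabs D.rank D.nroots w₁ x = actW C.tabs D.rank D.nroots w₂ x := by
  rw [← phi_gp C.M C.Mx C.hI C.hB C.hMx, ← phi_gp C.M C.Mx C.hI C.hB C.hMx, h]

theorem genSubgroup_le_group {F : Type*} [Field F] (hD : D ∈ [chevG2, chevB2, chevD4, chevF4, chevE6, chevE7, chevE8])
    (S : Set (List (ℕ × F))) : D.genSubgroup F S ≤ D.group F := by
  unfold ChevalleyDatum.genSubgroup
  rw [Subgroup.closure_le]
  rintro g ⟨w, -, hg⟩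
  have e : g = wordGL D F w := Units.ext (by rw [hg, wordGL_val D _ (triOK_of_mem D hD)])
  rw [e, SetLike.mem_coe]
  unfold wordGL
  apply Subgroup.list_prod_mem
  intro x hx
  obtain ⟨p, -, rfl⟩ := List.mem_map.mp hx
  exact xGL_mem_group' D hD p.1 p.2

end Gen

/-! ### the twelve elements -/

/-- words in the two generators of the Weyl group of `G₂` representing its twelve elements -/
def W12 : List (List ℕ) := [[], [0], [1], [0, 1], [1, 0], [0, 1, 0], [1, 0, 1], [0, 1, 0, 1], [1, 0, 1, 0],
  [0, 1, 0, 1, 0], [1, 0, 1, 0, 1], [0, 1, 0, 1, 0, 1]]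

/-- the corresponding words in the generators of the Weyl group of `D₄` -/
def wordD4 (i : ℕ) : List ℕ := (W12.getD i []).flatMap JD4

/-- left multiplication by a generator permutes the twelve elements -/
def closedW12 : Bool :=
  (List.range 2).all fun a => (List.range 12).all fun i => (List.range 12).any fun j =>
    (List.range 24).all fun x => actW reflTabsD4 4 24 (JD4 a ++ wordD4 i) x == actW reflTabsD4 4 24 (wordD4 j) x

/-- the twelve elements are distinct -/
def distinctW12 : Bool :=
  (List.range 12).all fun i => (List.range 12).all fun j => (i == j) ||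
    (List.range 24).any fun x => actW reflTabsD4 4 24 (wordD4 i) x != actW reflTabsD4 4 24 (wordD4 j) x

theorem closedW12_ok : closedW12 = true := by decide +kernel
theorem distinctW12_ok : distinctW12 = true := by decide +kernel
theorem W12_lt : ∀ i < 12, ∀ a ∈ W12.getD i [], a < 2 := by decide +kernel

theorem iotaD4_gp (word : List ℕ) (hw : ∀ a ∈ word, a < 2) :
    iota certD4 certG2 JD4 relOK_D4 (gp certG2.M word) = gp certD4.M (word.flatMap JD4) := by
  induction word with
  | nil => simp [gp]
  | cons a word ih =>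
    rw [gp_cons, map_mul, ih (fun b hb => hw b (List.mem_cons_of_mem _ hb)), List.flatMap_cons, gp_append]
    congr 1
    exact iota_sg certD4 certG2 JD4 relOK_D4 a (hw a List.mem_cons_self)

theorem exists_index_word (word : List ℕ) (hw : ∀ a ∈ word, a < 2) :
    ∃ i < 12, gp certD4.M (word.flatMap JD4) = gp certD4.M (wordD4 i) := by
  induction word with
  | nil => exact ⟨0, by norm_num, rfl⟩
  | cons a word ih =>
    obtain ⟨i, hi, e⟩ := ih (fun b hb => hw b (List.mem_cons_of_mem _ hb))
    have ha : a < 2 := hw a List.mem_cons_self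
    have h1 := closedW12_ok
    unfold closedW12 at h1
    rw [List.all_eq_true] at h1
    have h2 := h1 a (List.mem_range.mpr ha)
    rw [List.all_eq_true] at h2
    have h3 := h2 i (List.mem_range.mpr hi)
    rw [List.any_eq_true] at h3
    obtain ⟨j, hj, h4⟩ := h3
    rw [List.all_eq_true] at h4
    refine ⟨j, List.mem_range.mp hj, ?_⟩
    rw [List.flatMap_cons, gp_append, e, ← gp_append]
    apply gp_eq_of_actW
    intro x hx
    exact beq_iff_eq.mp (h4 x (List.mem_range.mpr hx))

/-- every element commuting with triality is one of the twelve -/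
theorem exists_index (w : (Cfsg.Lie.coxeterD4).Group) (hw : IsFix certD4 pi1 w) :
    ∃ i < 12, gp certD4.M (wordD4 i) = w := by
  obtain ⟨w', rfl⟩ := isFix_le_range (by simp) certD4 certG2 JD4 pi1 piOK_D4 relOK_D4 orbOK_D4 orthOK_D4 w hw
  obtain ⟨word, hword, rfl⟩ := exists_word certG2.M w'
  obtain ⟨i, hi, e⟩ := exists_index_word word hword
  exact ⟨i, hi, by rw [← e, iotaD4_gp word hword]⟩

theorem wordD4_injective (i j : ℕ) (hi : i < 12) (hj : j < 12)
    (e : gp certD4.M (wordD4 i) = gp certD4.M (wordD4 j)) : i = j := by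
  have h1 := distinctW12_ok
  unfold distinctW12 at h1
  rw [List.all_eq_true] at h1
  have h2 := h1 i (List.mem_range.mpr hi)
  rw [List.all_eq_true] at h2
  have h3 := h2 j (List.mem_range.mpr hj)
  rw [Bool.or_eq_true] at h3
  rcases h3 with h3 | h3
  · exact beq_iff_eq.mp h3
  · rw [List.any_eq_true] at h3
    obtain ⟨x, -, hx⟩ := h3
    exact absurd (actW_eq_of_gp certD4 _ _ e x) (bne_iff_ne.mp hx)

/-! ### the sets of inverted roots -/

/-- the classes of positive roots made negative by the `i`-th element -/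
def NClD4 (i : ℕ) : List (List ℕ) :=
  ClD4.filter fun S => S.all fun r => decide (actW reflTabsD4 4 24 (wordD4 i) r < 12)

/-- the lengths of the twelve elements -/
def lenD4 : List ℕ := [0, 3, 1, 4, 4, 7, 5, 8, 8, 11, 9, 12]

theorem NClD4_mem : ∀ i < 12, ∀ r < 24, (r ∈ (NClD4 i).flatten ↔
    ((12 ≤ r ∧ r < 24) ∧ actW reflTabsD4 4 24 (wordD4 i) r < 12)) := by decide +kernel
theorem NClD4_lt : ∀ i < 12, ∀ r ∈ (NClD4 i).flatten, r < 24 := by decide +kernel
theorem NClD4_closed : (List.range 12).all (fun i => closedOK chevD4 phiTD4 (NClD4 i).flatten) = true := by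
  decide +kernel
theorem NClD4_class : (List.range 12).all (fun i => classOK chevD4 pi1 (NClD4 i)) = true := by decide +kernel
theorem NClD4_cyc : (List.range 12).all (fun i => (NClD4 i).all (cycOK piInv1 eps1 3)) = true := by decide +kernel
theorem NClD4_nodup : ∀ i < 12, (NClD4 i).flatten.Nodup := by decide +kernel
theorem NClD4_length : ∀ i < 12, (NClD4 i).flatten.length = lenD4.getD i 0 := by decide +kernel

theorem UnegW_D4 (K : Type*) [Field K] (i : ℕ) (hi : i < 12) :
    UnegW chevD4 certD4 K (gp certD4.M (wordD4 i)) = listSubgroup chevD4 K (NClD4 i).flatten := by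
  have htri := triOK_of_mem chevD4 memD4
  unfold UnegW listSubgroup
  congr 1
  ext g
  constructor
  · rintro ⟨r, t, hr, hneg, rfl⟩
    refine ⟨r, t, ?_, xGL_val chevD4 _ htri r t⟩
    rw [phi_gp] at hneg
    exact (NClD4_mem i hi r hr.2).mpr ⟨hr, hneg⟩
  · rintro ⟨r, t, hr, hg⟩
    have hr24 := NClD4_lt i hi r hr
    obtain ⟨h1, h2⟩ := (NClD4_mem i hi r hr24).mp hr
    refine ⟨r, t, h1, ?_, Units.ext (by rw [hg, xGL_val chevD4 _ htri])⟩
    rw [phi_gp]
    exact h2

section Count

variable {K : Type*} [Field K] [Fintype K] {q : ℕ} (f : K ≃+* K) (hf : ∀ t, f t = t ^ q)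

include hf in
theorem card_UnegW_fix_D4 (hq : 1 ≤ q) (hK : Fintype.card K = q ^ 3) (i : ℕ) (hi : i < 12) :
    Nat.card ↥(UnegW chevD4 certD4 K (gp certD4.M (wordD4 i)) ⊓ FixD4 f) = q ^ (lenD4.getD i 0) := by
  have hi' := List.mem_range.mpr hi
  have c1 := closedOK_spec (List.all_eq_true.mp NClD4_closed i hi')
  have c2 := List.all_eq_true.mp NClD4_class i hi'
  have c3 := List.all_eq_true.mp NClD4_cyc i hi'
  have h1 := ncard_fix_listSubgroup (K := K) memD4 gradeOK'_D4 rho1 rhoInv1 pi1 piInv1 eps1 permsOK_D4 f allOK1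
    (NClD4 i) c1 c2
  have h2 := ncard_TS_classes piInv1 eps1 f (ncard_fix_field f hf hq hK) hK (by omega) (fun _ => frob3 f hf hK)
    (NClD4 i) (NClD4_nodup i hi) c3
  rw [UnegW_D4 K i hi]
  unfold FixD4
  rw [h1, h2, NClD4_length i hi]

end Count

end Cfsg.Agent.Helper19.Twist
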