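import Cfsg.Agent.Helper18.TriAll
import Cfsg.Agent.Helper18.Tri

set_option autoImplicit false
set_option maxRecDepth 100000

/-!
A non-trivial root element determines its root: `x_a(s) = x_b(s')` with `s ≠ 0` forces `a = b`.
-/

namespace Cfsg.Agent.Helper19.Twist

open Cfsg Cfsg.Lie Cfsg.Agent.Helper18

/-- for `b ≠ a`, the matrix of `x_b(t)` has no entry in position `(e_a, e_{-a})` -/
def rootInjOK (D : ChevalleyDatum) : Bool :=
  (List.range D.nroots).all fun a => (List.range D.nroots).all fun b =>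
    (a == b) || (D.chainCoeff b (D.neg a) a).isEmpty

theorem rootInjOK_D4 : rootInjOK chevD4 = true := by decide +kernel
theorem rootInjOK_E6 : rootInjOK chevE6 = true := by decide +kernel

variable {F : Type*} [Field F]

theorem x_entry_self (D : ChevalleyDatum) (hlf : ℕ) (htri : triOK D hlf = true) (a : ℕ) (ha : a < D.nroots) (s : F) :
    D.x F a s (Sum.inr ⟨a, ha⟩) (Sum.inr ⟨D.neg a, (triOK_spec D hlf htri a ha).1⟩) = -(s ^ 2) := by
  obtain ⟨h1, h2, h3, h4⟩ := triOK_spec D hlf htri a ha
  have hne : D.neg a ≠ a := by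
    intro e
    by_cases hc : a < hlf
    · have := h3 hc; omega
    · have := h4 (by omega); omega
  unfold ChevalleyDatum.x
  rw [dif_pos ha]
  simp only [ChevalleyDatum.xMat, Matrix.of_apply]
  rw [if_neg (by intro e; exact hne (Fin.ext_iff.mp e)), if_pos (by rfl),
    if_neg (by intro e; exact hne (Fin.ext_iff.mp e).symm)]
  simp

theorem x_entry_other (D : ChevalleyDatum) (hlf : ℕ) (htri : triOK D hlf = true) (hOK : rootInjOK D = true)
    (a b : ℕ) (ha : a < D.nroots) (hb : b < D.nroots) (hab : a ≠ b) (s : F) :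
    D.x F b s (Sum.inr ⟨a, ha⟩) (Sum.inr ⟨D.neg a, (triOK_spec D hlf htri a ha).1⟩) = 0 := by
  obtain ⟨h1, h2, h3, h4⟩ := triOK_spec D hlf htri a ha
  have hne : D.neg a ≠ a := by
    intro e
    by_cases hc : a < hlf
    · have := h3 hc; omega
    · have := h4 (by omega); omega
  unfold rootInjOK at hOK
  rw [List.all_eq_true] at hOK
  have k1 := hOK a (List.mem_range.mpr ha)
  rw [List.all_eq_true] at k1
  have k2 := k1 b (List.mem_range.mpr hb)
  rw [Bool.or_eq_true, beq_iff_eq, List.isEmpty_iff] at k2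
  have k3 : D.chainCoeff b (D.neg a) a = [] := k2.resolve_left hab
  unfold ChevalleyDatum.x
  rw [dif_pos hb]
  simp only [ChevalleyDatum.xMat, Matrix.of_apply]
  by_cases c1 : (⟨D.neg a, h1⟩ : Fin D.nroots) = ⟨b, hb⟩
  · rw [if_pos c1, if_neg (by intro e; exact hab (Fin.ext_iff.mp e))]
  · rw [if_neg c1]
    by_cases c2 : D.neg a = D.negIdx.getD b 0
    · exfalso
      have e1 : D.neg a = D.neg b := c2
      have e2 := (triOK_spec D hlf htri b hb).2.1
      rw [← e1, h2] at e2
      exact hab e2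
    · rw [if_neg c2, if_neg (by intro e; exact hne (Fin.ext_iff.mp e).symm), k3]
      simp

theorem xGL_root_inj (D : ChevalleyDatum) (hlf : ℕ) (htri : triOK D hlf = true) (hOK : rootInjOK D = true)
    (a b : ℕ) (ha : a < D.nroots) (hb : b < D.nroots) (s s' : F) (hs : s ≠ 0)
    (h : xGL D F a s = xGL D F b s') : a = b := by
  by_contra hab
  have h1 := congrArg (fun g : GL D.Idx F => (g : Matrix D.Idx D.Idx F) (Sum.inr ⟨a, ha⟩)
    (Sum.inr ⟨D.neg a, (triOK_spec D hlf htri a ha).1⟩)) h
  simp only [xGL_val D hlf htri] at h1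
  rw [x_entry_self D hlf htri a ha s, x_entry_other D hlf htri hOK a b ha hb hab s'] at h1
  exact hs (pow_eq_zero_iff (two_ne_zero) |>.mp (neg_eq_zero.mp h1))

end Cfsg.Agent.Helper19.Twist
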