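import Mathlib

set_option autoImplicit false

/-!
The `q`-power map of a finite field with `q ^ e` elements as a ring automorphism.
-/

namespace Cfsg.Agent.Helper19.Twist

theorem exists_frob {K : Type*} [Field K] [Fintype K] {q e : ℕ} (hq : IsPrimePow q)
    (hK : Fintype.card K = q ^ e) : ∃ f : K ≃+* K, ∀ t, f t = t ^ q := by
  obtain ⟨p, a, hp, ha, rfl⟩ := hq
  have hp' : p.Prime := Nat.prime_iff.mpr hp
  have : Fact p.Prime := ⟨hp'⟩
  have : CharP K p := by
    obtain ⟨r, hr⟩ := CharP.exists K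
    have := hr
    obtain ⟨n, hrp, hn⟩ := FiniteField.card K r
    have h1 : r ∣ (p ^ a) ^ e := by
      rw [← hK, hn]
      exact dvd_pow_self r n.ne_zero
    have h2 : r ∣ p := hrp.dvd_of_dvd_pow (hrp.dvd_of_dvd_pow h1)
    have h3 : r = p := (Nat.prime_dvd_prime_iff_eq hrp hp').mp h2
    rw [← h3]
    exact hr
  have : PerfectRing K p := inferInstance
  exact ⟨iterateFrobeniusEquiv K p a, fun t => by rw [iterateFrobeniusEquiv_def]⟩

end Cfsg.Agent.Helper19.Twist
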