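import Cfsg.Agent.Helper40.GraphAut
import Cfsg.Agent.S1080
import Cfsg.Agent.S1081
import Cfsg.Agent.Helper18.Monomial
import Cfsg.Agent.S1023
import Cfsg.Agent.Helper19.Twist.Frob

set_option autoImplicit false
set_option maxRecDepth 100000
set_option linter.unusedSectionVars false

/-!
The graph-field automorphism `σ : g ↦ P f(g) P⁻¹` of `GL`, where `P` is the signed permutation
matrix of a graph automorphism (helper40) and `f` is a field automorphism applied entrywise; its
effect on root elements, and the stability of `U`, `V`, `H`, `N`, `B` and of the Chevalley group.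
-/

namespace Cfsg.Agent.Helper19.Twist

open Cfsg Cfsg.Lie Cfsg.Agent.Helper18 Cfsg.Agent.Helper40.GraphAut

section Sigma

variable {K : Type*} [Field K] (D : ChevalleyDatum) (ρ ρ' π π' : ℕ → ℕ) (ε : ℕ → ℤ)
  (hp : permsOK D ρ ρ' π π' ε = true) (f : K ≃+* K)

/-- the graph-field automorphism of the general linear group -/
noncomputable def sigmaGL : GL D.Idx K ≃* GL D.Idx K :=
  (Cfsg.Agent.S1080.glEquiv D f).trans (MulAut.conj (sgnPermGL D K ρ ρ' π π' ε hp))

/-- the subgroup of fixed points -/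
noncomputable def Fix : Subgroup (GL D.Idx K) :=
  ((sigmaGL D ρ ρ' π π' ε hp f : GL D.Idx K ≃* GL D.Idx K) : GL D.Idx K →* GL D.Idx K).eqLocus
    (MonoidHom.id _)

theorem mem_Fix (g : GL D.Idx K) : g ∈ Fix D ρ ρ' π π' ε hp f ↔ sigmaGL D ρ ρ' π π' ε hp f g = g :=
  Iff.rfl

variable (hD : D ∈ [chevG2, chevB2, chevD4, chevF4, chevE6, chevE7, chevE8])
  (h : allOK D ρ ρ' π π' ε = true)

include hD h in
theorem sigmaGL_xGL (r : ℕ) (hr : r < D.nroots) (t : K) :
    sigmaGL D ρ ρ' π π' ε hp f (xGL D K r t) = xGL D K (π r) (((ε r : ℤ) : K) * f t) := by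
  have htri := triOK_of_mem D hD
  apply Units.ext
  rw [xGL_val D _ htri]
  exact conj_x D ρ ρ' π π' ε h hp (Cfsg.Agent.S1080.glEquiv D f (xGL D K r t)) r hr (f t) (by
    rw [Cfsg.Agent.S1080.glEquiv_coe, xGL_val D _ htri]
    exact Cfsg.Agent.S1080.x_map D (f : K →+* K) r t)

include hD h in
theorem sigmaGL_symm_xGL (r : ℕ) (hr : r < D.nroots) (t : K) :
    (sigmaGL D ρ ρ' π π' ε hp f).symm (xGL D K r t) =
      xGL D K (π' r) (((ε (π' r) : ℤ) : K) * f.symm t) := by
  obtain ⟨hp1, -⟩ := permsOK_spec hp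
  obtain ⟨-, h2, -, h4, -⟩ := hp1 r hr
  rw [MulEquiv.symm_apply_eq, sigmaGL_xGL D ρ ρ' π π' ε hp f hD h _ h2, h4]
  congr 1
  rw [map_mul, RingEquiv.apply_symm_apply, map_intCast, ← mul_assoc]
  rcases (hp1 _ h2).2.2.2.2 with e | e <;> rw [e] <;> simp

end Sigma

/-- table facts: `π` preserves positivity and commutes with `r ↦ -r`, `ε` is even -/
def twistOK (D : ChevalleyDatum) (π : ℕ → ℕ) (ε : ℕ → ℤ) (hlf : ℕ) : Bool :=
  (List.range D.nroots).all fun r => (decide (hlf ≤ r) == decide (hlf ≤ π r)) &&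
    decide (π (D.neg r) = D.neg (π r)) && decide (ε (D.neg r) = ε r)

theorem twistOK_spec {D : ChevalleyDatum} {π : ℕ → ℕ} {ε : ℕ → ℤ} {hlf : ℕ}
    (h : twistOK D π ε hlf = true) (r : ℕ) (hr : r < D.nroots) :
    (hlf ≤ r ↔ hlf ≤ π r) ∧ π (D.neg r) = D.neg (π r) ∧ ε (D.neg r) = ε r := by
  unfold twistOK at h
  rw [List.all_eq_true] at h
  have h1 := h r (List.mem_range.mpr hr)
  simp only [Bool.and_eq_true, beq_iff_eq, decide_eq_true_eq, decide_eq_decide] at h1
  exact ⟨h1.1.1, h1.1.2, h1.2⟩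

section Stable

variable {K : Type*} [Field K] (D : ChevalleyDatum) (ρ ρ' π π' : ℕ → ℕ) (ε : ℕ → ℤ)
  (hp : permsOK D ρ ρ' π π' ε = true) (f : K ≃+* K)
  (hD : D ∈ [chevG2, chevB2, chevD4, chevF4, chevE6, chevE7, chevE8])
  (h : allOK D ρ ρ' π π' ε = true) (htw : twistOK D π ε (hlfOf D) = true)

include hD h htw

theorem sigmaGL_posUnipotent (g : GL D.Idx K) (hg : g ∈ D.posUnipotent K) :
    sigmaGL D ρ ρ' π π' ε hp f g ∈ D.posUnipotent K := by
  have htri := triOK_of_mem D hD
  have hpos := posOK_of_mem D hD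
  obtain ⟨hp1, -⟩ := permsOK_spec hp
  unfold ChevalleyDatum.posUnipotent at hg
  induction hg using Subgroup.closure_induction with
  | mem x hx =>
    obtain ⟨r, t, hr, hx⟩ := hx
    have hr' := (isPosRoot_iff D _ hpos r).mp hr
    have e : x = xGL D K r t := Units.ext (by rw [hx, xGL_val D _ htri])
    rw [e, sigmaGL_xGL D ρ ρ' π π' ε hp f hD h r hr'.2]
    apply Subgroup.subset_closure
    refine ⟨π r, _, (isPosRoot_iff D _ hpos _).mpr ⟨(twistOK_spec htw r hr'.2).1.mp hr'.1,
      (hp1 r hr'.2).1⟩, xGL_val D _ htri _ _⟩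
  | one => rw [map_one]; exact Subgroup.one_mem _
  | mul a b _ _ ha hb => rw [map_mul]; exact Subgroup.mul_mem _ ha hb
  | inv a _ ha => rw [map_inv]; exact Subgroup.inv_mem _ ha

theorem sigmaGL_negUnipotent (g : GL D.Idx K) (hg : g ∈ D.negUnipotent K) :
    sigmaGL D ρ ρ' π π' ε hp f g ∈ D.negUnipotent K := by
  have htri := triOK_of_mem D hD
  have hpos := posOK_of_mem D hD
  obtain ⟨hp1, -⟩ := permsOK_spec hp
  unfold ChevalleyDatum.negUnipotent at hg
  induction hg using Subgroup.closure_induction with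
  | mem x hx =>
    obtain ⟨r, t, hr, hx⟩ := hx
    have hr' := (isNegRoot_iff D _ hpos r).mp hr
    have e : x = xGL D K r t := Units.ext (by rw [hx, xGL_val D _ htri])
    rw [e, sigmaGL_xGL D ρ ρ' π π' ε hp f hD h r hr'.2]
    apply Subgroup.subset_closure
    refine ⟨π r, _, (isNegRoot_iff D _ hpos _).mpr ⟨?_, (hp1 r hr'.2).1⟩, xGL_val D _ htri _ _⟩
    have := (twistOK_spec htw r hr'.2).1
    omega
  | one => rw [map_one]; exact Subgroup.one_mem _
  | mul a b _ _ ha hb => rw [map_mul]; exact Subgroup.mul_mem _ ha hb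
  | inv a _ ha => rw [map_inv]; exact Subgroup.inv_mem _ ha

/-- `σ(n_r(t)) = n_{π r}(ε_r f(t))` -/
theorem sigmaGL_nWord (r : ℕ) (hr : r < D.nroots) (t : K) :
    sigmaGL D ρ ρ' π π' ε hp f (wordGL D K (D.nWord r t)) =
      wordGL D K (D.nWord (π r) (((ε r : ℤ) : K) * f t)) := by
  obtain ⟨hp1, -⟩ := permsOK_spec hp
  have hnr : D.neg r < D.nroots := (triOK_spec D _ (triOK_of_mem D hD) r hr).1
  obtain ⟨-, e2, e3⟩ := twistOK_spec htw r hr
  rw [wordGL_nWord', wordGL_nWord', map_mul, map_mul, sigmaGL_xGL D ρ ρ' π π' ε hp f hD h r hr,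
    sigmaGL_xGL D ρ ρ' π π' ε hp f hD h _ hnr, e2, e3]
  congr 3
  rw [map_neg, map_inv₀]
  rcases (hp1 r hr).2.2.2.2 with e | e <;> rw [e] <;> simp

end Stable


section Diag

variable {K : Type*} [Field K] (D : ChevalleyDatum) (ρ ρ' π π' : ℕ → ℕ) (ε : ℕ → ℤ)
  (hp : permsOK D ρ ρ' π π' ε = true) (f : K ≃+* K)

include hp in
/-- the signed permutation matrix moves a diagonal matrix (trivial on the Cartan part) to the
permuted diagonal matrix -/
theorem sgnPerm_mul_diagonal (c : ℕ → K) :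
    sgnPerm D K ρ π ε * Matrix.diagonal (Sum.elim (fun _ => (1 : K)) (fun s : Fin D.nroots => c s.val)) =
      Matrix.diagonal (Sum.elim (fun _ => (1 : K)) (fun s : Fin D.nroots => c (π' s.val))) *
        sgnPerm D K ρ π ε := by
  obtain ⟨hp1, -⟩ := permsOK_spec hp
  ext a b
  rw [Matrix.mul_diagonal, Matrix.diagonal_mul]
  rcases a with j | u <;> rcases b with i | s
  · simp
  · simp [sgnPerm]
  · simp [sgnPerm]
  · simp only [sgnPerm, Matrix.of_apply, Sum.elim_inr]
    split_ifs with hu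
    · rw [hu, (hp1 s.val s.2).2.2.1, mul_comm]
    · simp

include hp in
/-- `σ` of a diagonal element (trivial on the Cartan part) -/
theorem sigmaGL_diag (k : GL D.Idx K) (c : ℕ → K)
    (hk : (k : Matrix D.Idx D.Idx K) =
      Matrix.diagonal (Sum.elim (fun _ => (1 : K)) (fun s : Fin D.nroots => c s.val))) :
    ((sigmaGL D ρ ρ' π π' ε hp f k : GL D.Idx K) : Matrix D.Idx D.Idx K) =
      Matrix.diagonal (Sum.elim (fun _ => (1 : K)) (fun s : Fin D.nroots => f (c (π' s.val)))) := by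
  have e1 : ((sgnPermGL D K ρ ρ' π π' ε hp : GL D.Idx K) : Matrix D.Idx D.Idx K) = sgnPerm D K ρ π ε := rfl
  have e2 : ((Cfsg.Agent.S1080.glEquiv D f k : GL D.Idx K) : Matrix D.Idx D.Idx K) =
      Matrix.diagonal (Sum.elim (fun _ => (1 : K)) (fun s : Fin D.nroots => f (c s.val))) := by
    rw [Cfsg.Agent.S1080.glEquiv_coe, hk, Matrix.diagonal_map (map_zero f)]
    congr 1
    funext a
    rcases a with j | s <;> simp
  show ((MulAut.conj (sgnPermGL D K ρ ρ' π π' ε hp) (Cfsg.Agent.S1080.glEquiv D f k) : GL D.Idx K) :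
    Matrix D.Idx D.Idx K) = _
  rw [MulAut.conj_apply, Units.val_mul, Units.val_mul, e1, e2,
    sgnPerm_mul_diagonal D ρ ρ' π π' ε hp (fun s => f (c s)), mul_assoc, ← e1, ← Units.val_mul,
    mul_inv_cancel, Units.val_one, mul_one]

end Diag

/-- `π` is an isometry: `⟨π r, s⟩ = ⟨r, π' s⟩` -/
def isoOK (D : ChevalleyDatum) (π π' : ℕ → ℕ) : Bool :=
  (List.range D.nroots).all fun r => (List.range D.nroots).all fun s =>
    decide (pairing' D (π r) s = pairing' D r (π' s))

theorem isoOK_spec {D : ChevalleyDatum} {π π' : ℕ → ℕ} (h : isoOK D π π' = true) (r s : ℕ)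
    (hr : r < D.nroots) (hs : s < D.nroots) : pairing' D (π r) s = pairing' D r (π' s) := by
  unfold isoOK at h
  rw [List.all_eq_true] at h
  have h1 := h r (List.mem_range.mpr hr)
  rw [List.all_eq_true] at h1
  exact of_decide_eq_true (h1 s (List.mem_range.mpr hs))

section Stable2

variable {K : Type*} [Field K] (D : ChevalleyDatum) (ρ ρ' π π' : ℕ → ℕ) (ε : ℕ → ℤ)
  (hp : permsOK D ρ ρ' π π' ε = true) (f : K ≃+* K)
  (hD : D ∈ [chevG2, chevB2, chevD4, chevF4, chevE6, chevE7, chevE8])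
  (h : allOK D ρ ρ' π π' ε = true) (htw : twistOK D π ε (hlfOf D) = true)
  (hiso : isoOK D π π' = true)

include hD hiso in
/-- `σ(h_r(t)) = h_{π r}(f(t))` -/
theorem sigmaGL_hWord (r : ℕ) (hr : r < D.nroots) (t : K) (ht : t ≠ 0) :
    sigmaGL D ρ ρ' π π' ε hp f (wordGL D K (D.hWord r t)) = wordGL D K (D.hWord (π r) (f t)) := by
  obtain ⟨hp1, -⟩ := permsOK_spec hp
  have hft : f t ≠ 0 := by simpa using ht
  apply Units.ext
  rw [hWordGL_val D hD, hMat_eq_wDiag D hD (π r) (hp1 r hr).1 (f t) hft]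
  rw [sigmaGL_diag D ρ ρ' π π' ε hp f (wordGL D K (D.hWord r t)) (fun s => t ^ pairing' D r s) (by
    rw [hWordGL_val D hD, hMat_eq_wDiag D hD r hr t ht]; rfl)]
  unfold wDiag
  congr 1
  funext a
  rcases a with j | s
  · rfl
  · simp only [Sum.elim_inr]
    rw [map_zpow₀, isoOK_spec hiso r s.val hr s.2]

include hD hiso in
theorem sigmaGL_diagonalSubgroup (g : GL D.Idx K) (hg : g ∈ D.diagonalSubgroup K) :
    sigmaGL D ρ ρ' π π' ε hp f g ∈ D.diagonalSubgroup K := by
  obtain ⟨hp1, -⟩ := permsOK_spec hp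
  unfold ChevalleyDatum.diagonalSubgroup at hg
  induction hg using Subgroup.closure_induction with
  | mem x hx =>
    obtain ⟨r, t, hr, ht, hx⟩ := hx
    have e : x = wordGL D K (D.hWord r t) := Units.ext (by rw [hx, hWordGL_val D hD])
    rw [e, sigmaGL_hWord D ρ ρ' π π' ε hp f hD hiso r hr t ht]
    exact hWordGL_mem_diagonalSubgroup D hD _ (hp1 r hr).1 _ (by simpa using ht)
  | one => rw [map_one]; exact Subgroup.one_mem _
  | mul a b _ _ ha hb => rw [map_mul]; exact Subgroup.mul_mem _ ha hb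
  | inv a _ ha => rw [map_inv]; exact Subgroup.inv_mem _ ha

include hD h htw in
/-- `n_r(-t) = n_r(t)⁻¹` -/
theorem nWord_neg (r : ℕ) (hr : r < D.nroots) (t : K) :
    wordGL D K (D.nWord r (-t)) = (wordGL D K (D.nWord r t))⁻¹ := by
  have htri := triOK_of_mem D hD
  have hnr : D.neg r < D.nroots := (triOK_spec D _ htri r hr).1
  have hx : ∀ s < D.nroots, ∀ a : K, (xGL D K s a)⁻¹ = xGL D K s (-a) := by
    intro s hs a
    rw [inv_eq_iff_mul_eq_one]
    apply Units.ext
    rw [Units.val_mul, xGL_val D _ htri, xGL_val D _ htri, Cfsg.Agent.S1023.result D hD s hs,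
      add_neg_cancel, Units.val_one, x_zero]
  rw [wordGL_nWord', wordGL_nWord', mul_inv_rev, mul_inv_rev, hx r hr, hx _ hnr, mul_assoc]
  congr 3
  simp

include hD h htw hiso in
theorem sigmaGL_monomialSubgroup (g : GL D.Idx K) (hg : g ∈ D.monomialSubgroup K) :
    sigmaGL D ρ ρ' π π' ε hp f g ∈ D.monomialSubgroup K := by
  obtain ⟨hp1, -⟩ := permsOK_spec hp
  have hgen : ∀ s < D.nroots, wordGL D K (D.nWord s (1 : K)) ∈ D.monomialSubgroup K := by
    intro s hs
    apply Subgroup.mem_sup_right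
    apply Subgroup.subset_closure
    exact ⟨s, hs, nWordGL_val D hD _ _⟩
  unfold ChevalleyDatum.monomialSubgroup at hg
  rw [Subgroup.sup_eq_closure] at hg
  induction hg using Subgroup.closure_induction with
  | mem x hx =>
    rcases hx with hx | hx
    · exact Subgroup.mem_sup_left (sigmaGL_diagonalSubgroup D ρ ρ' π π' ε hp f hD hiso x hx)
    · induction hx using Subgroup.closure_induction with
      | mem y hy =>
        obtain ⟨r, hr, hy⟩ := hy
        have e : y = wordGL D K (D.nWord r 1) := Units.ext (by rw [hy, nWordGL_val D hD])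
        rw [e, sigmaGL_nWord D ρ ρ' π π' ε hp f hD h htw r hr, map_one, mul_one]
        rcases (hp1 r hr).2.2.2.2 with e' | e'
        · rw [e', Int.cast_one]; exact hgen _ (hp1 r hr).1
        · rw [e', Int.cast_neg, Int.cast_one, nWord_neg D ρ ρ' π π' ε hD h htw _ (hp1 r hr).1]
          exact Subgroup.inv_mem _ (hgen _ (hp1 r hr).1)
      | one => rw [map_one]; exact Subgroup.one_mem _
      | mul a b _ _ ha hb => rw [map_mul]; exact Subgroup.mul_mem _ ha hb
      | inv a _ ha => rw [map_inv]; exact Subgroup.inv_mem _ ha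
  | one => rw [map_one]; exact Subgroup.one_mem _
  | mul a b _ _ ha hb => rw [map_mul]; exact Subgroup.mul_mem _ ha hb
  | inv a _ ha => rw [map_inv]; exact Subgroup.inv_mem _ ha

include hD h htw hiso in
theorem sigmaGL_borelSubgroup (g : GL D.Idx K) (hg : g ∈ D.borelSubgroup K) :
    sigmaGL D ρ ρ' π π' ε hp f g ∈ D.borelSubgroup K := by
  unfold ChevalleyDatum.borelSubgroup at hg
  rw [Subgroup.sup_eq_closure] at hg
  induction hg using Subgroup.closure_induction with
  | mem x hx =>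
    rcases hx with hx | hx
    · exact Subgroup.mem_sup_left (sigmaGL_posUnipotent D ρ ρ' π π' ε hp f hD h htw x hx)
    · exact Subgroup.mem_sup_right (sigmaGL_diagonalSubgroup D ρ ρ' π π' ε hp f hD hiso x hx)
  | one => rw [map_one]; exact Subgroup.one_mem _
  | mul a b _ _ ha hb => rw [map_mul]; exact Subgroup.mul_mem _ ha hb
  | inv a _ ha => rw [map_inv]; exact Subgroup.inv_mem _ ha

include hD h in
theorem sigmaGL_group (g : GL D.Idx K) (hg : g ∈ D.group K) :
    sigmaGL D ρ ρ' π π' ε hp f g ∈ D.group K := by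
  have htri := triOK_of_mem D hD
  obtain ⟨hp1, -⟩ := permsOK_spec hp
  unfold ChevalleyDatum.group at hg
  induction hg using Subgroup.closure_induction with
  | mem x hx =>
    obtain ⟨r, t, hx⟩ := hx
    have e : x = xGL D K r.val t := Units.ext (by
      rw [hx, xGL_val D _ htri, ChevalleyDatum.x, dif_pos r.2])
    rw [e, sigmaGL_xGL D ρ ρ' π π' ε hp f hD h r.val r.2]
    apply Subgroup.subset_closure
    refine ⟨⟨π r.val, (hp1 r.val r.2).1⟩, ((ε r.val : ℤ) : K) * f t, ?_⟩
    rw [xGL_val D _ htri, ChevalleyDatum.x, dif_pos (hp1 r.val r.2).1]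
  | one => rw [map_one]; exact Subgroup.one_mem _
  | mul a b _ _ ha hb => rw [map_mul]; exact Subgroup.mul_mem _ ha hb
  | inv a _ ha => rw [map_inv]; exact Subgroup.inv_mem _ ha

end Stable2

end Cfsg.Agent.Helper19.Twist
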