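import Cfsg.Agent.Helper19.Twist.FoldFix
import Cfsg.Agent.Helper19.Twist.RootInj
import Cfsg.Agent.Helper19.Twist.Sigma
import Cfsg.Agent.S1024

set_option autoImplicit false
set_option maxRecDepth 100000
set_option linter.unusedSectionVars false

/-!
The homomorphism `N → W` (inverse of helper18's `W ≅ N / H`), and the fact that the image of an
element of `N` fixed by the graph-field automorphism commutes with the symmetry of the diagram.
-/

namespace Cfsg.Agent.Helper19.Twist

open Cfsg Cfsg.Lie Cfsg.Agent.Helper18 Cfsg.Agent.Helper19.Cox Cfsg.Agent.Helper19.Poinc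
open Cfsg.Agent.Helper40.GraphAut

section Theta

variable {F : Type*} [Field F] (D : ChevalleyDatum)
  (hD : D ∈ [chevG2, chevB2, chevD4, chevF4, chevE6, chevE7, chevE8]) (C : Cert D)
  (h31 : NConjHyp D F) [hn : (HN D F).Normal]
include hD

theorem psiC_bijective : Function.Bijective (psiC D hD C h31) :=
  ⟨psi_injective D hD C.M C.Mx C.hMx C.tabs C.ht C.hbr h31 C.hI C.hB C.hinj,
   psi_surjective D hD C.M C.Mx C.hMx C.tabs C.ht C.hbr h31 C.words C.hreach⟩

/-- `W ≃ N / H` -/
noncomputable def psiE : C.M.Group ≃* (↥(D.monomialSubgroup F) ⧸ HN D F) :=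
  MulEquiv.ofBijective (psiC D hD C h31) (psiC_bijective D hD C h31)

/-- `N → W` -/
noncomputable def theta : ↥(D.monomialSubgroup F) →* C.M.Group :=
  (psiE D hD C h31).symm.toMonoidHom.comp (QuotientGroup.mk' (HN D F))

theorem theta_spec (n : ↥(D.monomialSubgroup F)) :
    (QuotientGroup.mk n : ↥(D.monomialSubgroup F) ⧸ HN D F) = psiC D hD C h31 (theta D hD C h31 n) := by
  have : psiC D hD C h31 (theta D hD C h31 n) = psiE D hD C h31 (theta D hD C h31 n) := rfl
  rw [this]
  unfold theta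
  rw [MonoidHom.comp_apply]
  exact ((psiE D hD C h31).apply_symm_apply _).symm

theorem theta_surjective : Function.Surjective (theta D hD C h31) :=
  (psiE D hD C h31).symm.surjective.comp (QuotientGroup.mk'_surjective _)

theorem theta_eq_one_iff (n : ↥(D.monomialSubgroup F)) :
    theta D hD C h31 n = 1 ↔ (n : GL D.Idx F) ∈ D.diagonalSubgroup F := by
  unfold theta
  rw [MonoidHom.comp_apply]
  change (psiE D hD C h31).symm (QuotientGroup.mk' (HN D F) n) = 1 ↔ _
  rw [MulEquiv.map_eq_one_iff, QuotientGroup.mk'_apply, QuotientGroup.eq_one_iff, Subgroup.mem_subgroupOf]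

theorem theta_eq_of_mk (n : ↥(D.monomialSubgroup F)) (w : C.M.Group)
    (h : (QuotientGroup.mk n : ↥(D.monomialSubgroup F) ⧸ HN D F) = psiC D hD C h31 w) :
    theta D hD C h31 n = w := by
  apply (psiC_bijective D hD C h31).1
  rw [← theta_spec D hD C h31 n, h]

theorem theta_nN (i : ℕ) (hi : i < D.rank) : theta D hD C h31 (nN D F (D.simple i)) = sg C.M i := by
  apply theta_eq_of_mk
  unfold psiC
  rw [psi_sg D hD C.M C.Mx C.hMx C.tabs C.ht C.hbr h31 i hi]
  rfl

end Theta

section Fixed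

variable {K : Type*} [Field K] (D : ChevalleyDatum)
  (hD : D ∈ [chevG2, chevB2, chevD4, chevF4, chevE6, chevE7, chevE8]) (C : Cert D)
  (h31 : NConjHyp D K) [hn : (HN D K).Normal]
  (ρ ρ' π π' : ℕ → ℕ) (ε : ℕ → ℤ) (hp : permsOK D ρ ρ' π π' ε = true) (f : K ≃+* K)
  (h : allOK D ρ ρ' π π' ε = true) (hOK : rootInjOK D = true)

include hD h hOK in
/-- the Weyl group element of an element of `N` fixed by `σ` commutes with the symmetry -/
theorem theta_isFix (n : ↥(D.monomialSubgroup K))
    (hfix : sigmaGL D ρ ρ' π π' ε hp f (n : GL D.Idx K) = n) :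
    IsFix C π (theta D hD C h31 n) := by
  have htri := triOK_of_mem D hD
  obtain ⟨hp1, -⟩ := permsOK_spec hp
  intro r hr
  set w := theta D hD C h31 n with hw
  have hspec := theta_spec D hD C h31 n
  obtain ⟨hlt, t', e1⟩ := conj_rep D hD C h31 w n hspec r hr 1
  have hπr : π r < D.nroots := (hp1 r hr).1
  obtain ⟨hlt2, t'', e2⟩ := conj_rep D hD C h31 w n hspec (π r) hπr (((ε r : ℤ) : K) * f 1)
  have e3 := congrArg (sigmaGL D ρ ρ' π π' ε hp f) e1
  rw [map_mul, map_mul, map_inv, hfix, sigmaGL_xGL D ρ ρ' π π' ε hp f hD h r hr,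
    sigmaGL_xGL D ρ ρ' π π' ε hp f hD h _ hlt, e2] at e3
  -- the element is non-trivial
  have hne : t'' ≠ 0 := by
    intro h0
    rw [h0] at e3
    have e4 : sigmaGL D ρ ρ' π π' ε hp f (xGL D K (phi C.M C.Mx C.hI C.hB C.hMx w r) t') = 1 := by
      rw [sigmaGL_xGL D ρ ρ' π π' ε hp f hD h _ hlt, ← e3]
      apply Units.ext
      rw [xGL_val D _ htri, Units.val_one]
      exact (Cfsg.Agent.S1024.result D hD _ hlt2 0).mpr rfl
    have e5 : xGL D K (phi C.M C.Mx C.hI C.hB C.hMx w r) t' = 1 :=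
      (MulEquiv.map_eq_one_iff _).mp e4
    rw [← e1] at e5
    have e6 : xGL D K r (1 : K) = 1 := by
      have : xGL D K r (1 : K) = (n : GL D.Idx K)⁻¹ * ((n : GL D.Idx K) * xGL D K r 1 * (n : GL D.Idx K)⁻¹) *
          (n : GL D.Idx K) := by group
      rw [this, e5]; group
    have e7 := congrArg (fun g : GL D.Idx K => (g : Matrix D.Idx D.Idx K)) e6
    simp only [xGL_val D _ htri, Units.val_one] at e7
    exact one_ne_zero ((Cfsg.Agent.S1024.result D hD r hr (1 : K)).mp e7)
  exact xGL_root_inj D _ htri hOK _ _ hlt2 ((hp1 _ hlt).1) t'' _ hne e3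

end Fixed

end Cfsg.Agent.Helper19.Twist
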