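import Cfsg.Agent.Helper19.Twist.Fold

set_option autoImplicit false
set_option maxRecDepth 100000
set_option linter.unusedSectionVars false

/-!
Every element of the Weyl group commuting with the symmetry of the diagram lies in the range of
the folding homomorphism: induction on the number of positive roots made negative.
-/

namespace Cfsg.Agent.Helper19.Twist

open Cfsg Cfsg.Lie Cfsg.Agent.Helper18 Cfsg.Agent.Helper19.Cox Cfsg.Agent.Helper19.Poinc

section Fix

variable {D : ChevalleyDatum} (hD : D ∈ [chevG2, chevB2, chevD4, chevF4, chevE6, chevE7, chevE8])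
  (C : Cert D)

include hD in
/-- a non-trivial element makes some simple root negative -/
theorem exists_neg_simple (w : C.M.Group) (hw : w ≠ 1) :
    ∃ i < D.rank, phi C.M C.Mx C.hI C.hB C.hMx w (D.simple i) < hlfOf D := by
  have htri := triOK_of_mem D hD
  have key : ∀ w : C.M.Group, w = 1 ∨ ∃ i < D.rank, phi C.M C.Mx C.hI C.hB C.hMx w (D.simple i) < hlfOf D := by
    refine good_induction C.M C.Mx C.hIT C.hBT C.hI C.hB C.hMx C.levels C.hlen C.hchk C.hch
      (fun w => w = 1 ∨ ∃ i < D.rank, phi C.M C.Mx C.hI C.hB C.hMx w (D.simple i) < hlfOf D) (Or.inl rfl) ?_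
    intro w i hi hgood _
    right
    refine ⟨i, hi, ?_⟩
    rw [C.halpha i hi] at hgood
    unfold posB at hgood
    simp only [Bool.and_eq_true, decide_eq_true_eq] at hgood
    have hp := simple_lt D (simpleOK_of_mem D hD) i hi
    rw [map_mul, Equiv.Perm.mul_apply, phi_sg_eq D hD C i _ hi hp, reflectRoot_simple, phi_neg D hD C w _ hp]
    exact (triOK_spec D _ htri _ hgood.2).2.2.2 hgood.1
  exact (key w).resolve_left hw

/-- the number of positive roots made negative -/
noncomputable def inv (w : C.M.Group) : ℕ :=
  ((Finset.range D.nroots).filter fun r => hlfOf D ≤ r ∧ phi C.M C.Mx C.hI C.hB C.hMx w r < hlfOf D).card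

include hD C in
theorem reflect_reflect (i s : ℕ) (hi : i < D.rank) (hs : s < D.nroots) :
    D.reflectRoot i (D.reflectRoot i s) = s := by
  have h1 := phi_sg_eq D hD C i s hi hs
  have h2 := phi_sg_eq D hD C i _ hi (reflectRoot_lt D hD i s hi hs)
  rw [← h1] at h2 ⊢
  rw [← h2, ← Equiv.Perm.mul_apply, ← map_mul, sg_mul_self, map_one, Equiv.Perm.one_apply]

include hD in
theorem inv_step (w : C.M.Group) (i : ℕ) (hi : i < D.rank)
    (hneg : phi C.M C.Mx C.hI C.hB C.hMx w (D.simple i) < hlfOf D) :
    inv C (w * sg C.M i) + 1 = inv C w := by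
  classical
  have htri := triOK_of_mem D hD
  have hpos := posOK_of_mem D hD
  have hp := simple_lt D (simpleOK_of_mem D hD) i hi
  have hppos : hlfOf D ≤ D.simple i := ((isPosRoot_iff D _ hpos _).mp (simpleSign_spec D hD i hi).1).1
  set p := D.simple i with hpdef
  set A := (Finset.range D.nroots).filter fun r => hlfOf D ≤ r ∧
    phi C.M C.Mx C.hI C.hB C.hMx (w * sg C.M i) r < hlfOf D with hA
  set B := (Finset.range D.nroots).filter fun r => hlfOf D ≤ r ∧
    phi C.M C.Mx C.hI C.hB C.hMx w r < hlfOf D with hB
  have hmul : ∀ r < D.nroots, phi C.M C.Mx C.hI C.hB C.hMx (w * sg C.M i) r =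
      phi C.M C.Mx C.hI C.hB C.hMx w (D.reflectRoot i r) := by
    intro r hr
    rw [map_mul, Equiv.Perm.mul_apply, phi_sg_eq D hD C i r hi hr]
  -- elements of `A` are different from `p`
  have hAp : ∀ a ∈ A, a ≠ p := by
    intro a ha hap
    rw [hA, Finset.mem_filter] at ha
    obtain ⟨h1, -, h3⟩ := ha
    rw [hmul a (Finset.mem_range.mp h1), hap, hpdef, reflectRoot_simple, phi_neg D hD C w _ hp] at h3
    have := (triOK_spec D _ htri _ (phi_lt D hD C w _ hp)).2.2.1 hneg
    omega
  have hBeq : B = insert p (A.image (D.reflectRoot i)) := by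
    ext r
    rw [Finset.mem_insert, Finset.mem_image]
    constructor
    · intro hr
      rw [hB, Finset.mem_filter] at hr
      obtain ⟨h1, h2, h3⟩ := hr
      have hr' := Finset.mem_range.mp h1
      by_cases hrp : r = p
      · left; exact hrp
      · right
        obtain ⟨q1, q2, -⟩ := reflectRoot_pos D hD i r hi ⟨h2, hr'⟩ hrp
        refine ⟨D.reflectRoot i r, ?_, reflect_reflect hD C i r hi hr'⟩
        rw [hA, Finset.mem_filter]
        refine ⟨Finset.mem_range.mpr q2, q1, ?_⟩
        rw [hmul _ q2, reflect_reflect hD C i r hi hr']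
        exact h3
    · rintro (rfl | ⟨a, ha, rfl⟩)
      · rw [hB, Finset.mem_filter]
        exact ⟨Finset.mem_range.mpr hp, hppos, hneg⟩
      · have hap := hAp a ha
        rw [hA, Finset.mem_filter] at ha
        obtain ⟨h1, h2, h3⟩ := ha
        have ha' := Finset.mem_range.mp h1
        obtain ⟨q1, q2, -⟩ := reflectRoot_pos D hD i a hi ⟨h2, ha'⟩ hap
        rw [hB, Finset.mem_filter]
        refine ⟨Finset.mem_range.mpr q2, q1, ?_⟩
        rw [← hmul a ha']
        exact h3
  have hnot : p ∉ A.image (D.reflectRoot i) := by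
    intro hmem
    rw [Finset.mem_image] at hmem
    obtain ⟨a, ha, hap⟩ := hmem
    have hap' := hAp a ha
    rw [hA, Finset.mem_filter] at ha
    obtain ⟨h1, h2, -⟩ := ha
    exact (reflectRoot_pos D hD i a hi ⟨h2, Finset.mem_range.mp h1⟩ hap').2.2 hap
  have hinj : Set.InjOn (D.reflectRoot i) (A : Set ℕ) := by
    intro a ha b hb hab
    have ha' : a < D.nroots := by
      have := Finset.mem_coe.mp ha
      rw [hA, Finset.mem_filter] at this
      exact Finset.mem_range.mp this.1
    have hb' : b < D.nroots := by
      have := Finset.mem_coe.mp hb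
      rw [hA, Finset.mem_filter] at this
      exact Finset.mem_range.mp this.1
    rw [← reflect_reflect hD C i a hi ha', hab, reflect_reflect hD C i b hi hb']
  unfold inv
  rw [← hA, ← hB, hBeq, Finset.card_insert_of_notMem hnot, Finset.card_image_of_injOn hinj]

include hD in
theorem inv_steps (L : List ℕ) (hL : ∀ i ∈ L, i < D.rank) : ∀ (w : C.M.Group),
    (∀ k (hk : k < L.length), phi C.M C.Mx C.hI C.hB C.hMx (w * gp C.M (L.take k)) (D.simple L[k]) < hlfOf D) →
    inv C (w * gp C.M L) + L.length = inv C w := by
  induction L with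
  | nil => intro w _; simp
  | cons i L ih =>
    intro w h
    have hi := hL i List.mem_cons_self
    have hL' : ∀ j ∈ L, j < D.rank := fun j hj => hL j (List.mem_cons_of_mem _ hj)
    have h0 := h 0 (by simp)
    simp only [List.take_zero, gp_nil, mul_one, List.getElem_cons_zero] at h0
    have h1 := inv_step hD C w i hi h0
    have h2 := ih hL' (w * sg C.M i) (by
      intro k hk
      have := h (k + 1) (by simp; omega)
      simpa [gp_cons, mul_assoc] using this)
    rw [gp_cons, ← mul_assoc, List.length_cons]
    omega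

end Fix

section Range

variable {D D1 : ChevalleyDatum} (hD : D ∈ [chevG2, chevB2, chevD4, chevF4, chevE6, chevE7, chevE8])
  (C : Cert D) (C1 : Cert D1) (J : ℕ → List ℕ) (π : ℕ → ℕ)

/-- the elements of the Weyl group commuting with the symmetry -/
def IsFix (w : C.M.Group) : Prop :=
  ∀ r < D.nroots, phi C.M C.Mx C.hI C.hB C.hMx w (π r) = π (phi C.M C.Mx C.hI C.hB C.hMx w r)

theorem isFix_mul (w w' : C.M.Group) (hw : IsFix C π w) (hw' : IsFix C π w') : IsFix C π (w * w') := by
  intro r hr
  rw [map_mul, Equiv.Perm.mul_apply, Equiv.Perm.mul_apply, hw' r hr,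
    hw _ (phi_lt' C.M C.Mx C.hI C.hB C.hMx w' r hr)]

variable (hpi : foldPiOK C.tabs D.rank D.nroots (hlfOf D) D1.rank J π = true)

include hpi in
theorem pi_spec (x : ℕ) (hx : x < D.nroots) : π x < D.nroots ∧ (x < hlfOf D → π x < hlfOf D) ∧
    ∀ a < D1.rank, actW C.tabs D.rank D.nroots (J a) (π x) = π (actW C.tabs D.rank D.nroots (J a) x) := by
  unfold foldPiOK at hpi
  rw [List.all_eq_true] at hpi
  have h1 := hpi x (List.mem_range.mpr hx)
  simp only [Bool.and_eq_true, Bool.or_eq_true, decide_eq_true_eq, List.all_eq_true, List.mem_range] at h1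
  refine ⟨h1.1.1, fun hlt => ?_, h1.2⟩
  rcases h1.1.2 with h | h
  · omega
  · exact h

include hpi in
theorem isFix_gen (a : ℕ) (ha : a < D1.rank) : IsFix C π (gp C.M (J a)) := by
  intro r hr
  rw [phi_gp, phi_gp]
  exact (pi_spec C J π hpi r hr).2.2 a ha

variable (hrel : foldRelOK C1.Mx C.tabs D.rank D.nroots D1.rank J = true)
  (horb : foldOrbOK D.rank D1.rank J π C.alphas = true)
  (horth : foldOrthOK C.tabs D.rank D.nroots D1.rank J C.alphas = true)

include hD hpi horb horth in
/-- every element commuting with the symmetry is in the range of the folding homomorphism -/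
theorem isFix_le_range (w : C.M.Group) (hw : IsFix C π w) : w ∈ (iota C C1 J hrel).range := by
  have hpos := posOK_of_mem D hD
  induction hm : inv C w using Nat.strong_induction_on generalizing w with
  | _ m ih =>
    by_cases hw1 : w = 1
    · rw [hw1]; exact one_mem _
    obtain ⟨i, hi, hneg⟩ := exists_neg_simple hD C w hw1
    unfold foldOrbOK at horb
    rw [Bool.and_eq_true, List.all_eq_true, List.all_eq_true] at horb
    have h1 := horb.1 i (List.mem_range.mpr hi)
    rw [List.any_eq_true] at h1
    obtain ⟨a, ha, hia⟩ := h1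
    have ha' := List.mem_range.mp ha
    have hia' : i ∈ J a := List.contains_iff_mem.mp hia
    have h2 := horb.2 a ha
    rw [List.all_eq_true] at h2
    have hJlt : ∀ j ∈ J a, j < D.rank := by
      intro j hj
      have := h2 j hj
      rw [Bool.and_eq_true, decide_eq_true_eq] at this
      exact this.1
    have hp := simple_lt D (simpleOK_of_mem D hD) i hi
    have hlt := phi_lt D hD C w _ hp
    -- all simple roots of the class are made negative
    have hJneg : ∀ j ∈ J a, phi C.M C.Mx C.hI C.hB C.hMx w (D.simple j) < hlfOf D := by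
      intro j hj
      have h3 := h2 i hia'
      rw [Bool.and_eq_true, List.all_eq_true] at h3
      have h4 := h3.2 j hj
      simp only [Bool.or_eq_true, beq_iff_eq] at h4
      rw [C.halpha i hi, C.halpha j (hJlt j hj)] at h4
      rcases h4 with (h4 | h4) | h4
      · rw [← h4]; exact hneg
      · rw [← h4, hw _ hp]
        exact (pi_spec C J π hpi _ hlt).2.1 hneg
      · have hp' := (pi_spec C J π hpi _ hp).1
        rw [← h4, hw _ hp', hw _ hp]
        exact (pi_spec C J π hpi _ (pi_spec C J π hpi _ hlt).1).2.1 ((pi_spec C J π hpi _ hlt).2.1 hneg)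
    set w' := w * gp C.M (J a) with hw'
    have hfix' : IsFix C π w' := isFix_mul C π _ _ hw (isFix_gen C J π hpi a ha')
    have hinv : inv C w' + (J a).length = inv C w := by
      apply inv_steps hD C (J a) hJlt w
      intro k hk
      unfold foldOrthOK at horth
      rw [List.all_eq_true] at horth
      have h5 := horth a ha
      rw [List.all_eq_true] at h5
      have h6 := of_decide_eq_true (h5 k (List.mem_range.mpr hk))
      have hget : (J a).getD k 0 = (J a)[k] := by
        rw [List.getD_eq_getElem?_getD, List.getElem?_eq_getElem hk]; rfl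
      rw [hget, C.halpha _ (hJlt _ (List.getElem_mem hk))] at h6
      rw [map_mul, Equiv.Perm.mul_apply, phi_gp, h6]
      exact hJneg _ (List.getElem_mem hk)
    have hlen : 0 < (J a).length := List.length_pos_of_mem hia'
    have hmem' : w' ∈ (iota C C1 J hrel).range := ih (inv C w') (by omega) w' hfix' rfl
    have hgen : gp C.M (J a) ∈ (iota C C1 J hrel).range := ⟨sg C1.M a, iota_sg C C1 J hrel a ha'⟩
    have : w = w' * (gp C.M (J a))⁻¹ := by rw [hw']; group
    rw [this]
    exact mul_mem hmem' (inv_mem hgen)

end Range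

end Cfsg.Agent.Helper19.Twist
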