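import Cfsg.Agent.Helper19.Twist.UFix
import Cfsg.Agent.Helper19.Twist.FoldFix
import Cfsg.Agent.Helper19.Poinc.Bruhat

/-!
For an element `w` of the Weyl group commuting with the symmetry, the `σ`-fixed points of `U_w⁻`
number `q ^ (number of positive roots made negative by w)`.
-/

set_option autoImplicit false
set_option maxRecDepth 100000
set_option linter.unusedSectionVars false

namespace Cfsg.Agent.Helper19.Twist

open Cfsg Cfsg.Lie Cfsg.Agent.Helper18 Cfsg.Agent.Helper40.GraphAut Cfsg.Agent.Helper40.UProd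
  Cfsg.Agent.Helper19.Cox Cfsg.Agent.Helper19.Poinc

/-- the roots occurring in the commutator formula are permuted by the simple reflections -/
def commEquivOK (D : ChevalleyDatum) (T : List ℕ) : Bool :=
  (List.range D.rank).all fun i => (List.range D.nroots).all fun r => (List.range D.nroots).all fun s =>
    (D.commTerms r s).all fun c =>
      (D.commTerms (tact T D.rank D.nroots i r) (tact T D.rank D.nroots i s)).any fun c' =>
        c'.1 == tact T D.rank D.nroots i c.1

/-- the roots occurring in the commutator formula of two negative roots are negative -/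
def negClosedOK (D : ChevalleyDatum) : Bool :=
  (List.range (hlfOf D)).all fun r => (List.range (hlfOf D)).all fun s =>
    (D.commTerms r s).all fun c => decide (c.1 < hlfOf D)

section Equiv

variable {D : ChevalleyDatum} (C : Cert D) (heqc : commEquivOK D C.tabs = true)

include heqc in
theorem commTerms_tact (i : ℕ) (hi : i < D.rank) (r s : ℕ) (hr : r < D.nroots) (hs : s < D.nroots)
    (c : ℕ × ℤ × ℕ × ℕ) (hc : c ∈ D.commTerms r s) :
    ∃ c' ∈ D.commTerms (tact C.tabs D.rank D.nroots i r) (tact C.tabs D.rank D.nroots i s),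
      c'.1 = tact C.tabs D.rank D.nroots i c.1 := by
  unfold commEquivOK at heqc
  rw [List.all_eq_true] at heqc
  have h1 := heqc i (List.mem_range.mpr hi)
  rw [List.all_eq_true] at h1
  have h2 := h1 r (List.mem_range.mpr hr)
  rw [List.all_eq_true] at h2
  have h3 := h2 s (List.mem_range.mpr hs)
  rw [List.all_eq_true] at h3
  have h4 := h3 c hc
  rw [List.any_eq_true] at h4
  obtain ⟨c', hc', e⟩ := h4
  exact ⟨c', hc', beq_iff_eq.mp e⟩

include heqc in
theorem commTerms_actW (word : List ℕ) (hw : ∀ i ∈ word, i < D.rank) (r s : ℕ) (hr : r < D.nroots)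
    (hs : s < D.nroots) (c : ℕ × ℤ × ℕ × ℕ) (hc : c ∈ D.commTerms r s) :
    ∃ c' ∈ D.commTerms (actW C.tabs D.rank D.nroots word r) (actW C.tabs D.rank D.nroots word s),
      c'.1 = actW C.tabs D.rank D.nroots word c.1 := by
  induction word with
  | nil => exact ⟨c, hc, rfl⟩
  | cons i word ih =>
    obtain ⟨c₁, hc₁, e₁⟩ := ih (fun j hj => hw j (List.mem_cons_of_mem _ hj))
    obtain ⟨c₂, hc₂, e₂⟩ := commTerms_tact C heqc i (hw i List.mem_cons_self) _ _
      (actW_lt' C.hI word r hr) (actW_lt' C.hI word s hs) c₁ hc₁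
    refine ⟨c₂, hc₂, ?_⟩
    rw [e₂, e₁]
    rfl

variable (hnegc : negClosedOK D = true)

include heqc hnegc in
/-- the set of roots made negative by `w` is closed -/
theorem neg_closed (w : C.M.Group) (r s : ℕ) (hr : r < D.nroots) (hs : s < D.nroots)
    (hrn : phi C.M C.Mx C.hI C.hB C.hMx w r < hlfOf D) (hsn : phi C.M C.Mx C.hI C.hB C.hMx w s < hlfOf D)
    (c : ℕ × ℤ × ℕ × ℕ) (hc : c ∈ D.commTerms r s) :
    phi C.M C.Mx C.hI C.hB C.hMx w c.1 < hlfOf D := by
  obtain ⟨word, hword, rfl⟩ := exists_word C.M w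
  rw [phi_gp] at hrn hsn ⊢
  obtain ⟨c', hc', e⟩ := commTerms_actW C heqc word hword r s hr hs c hc
  rw [← e]
  unfold negClosedOK at hnegc
  rw [List.all_eq_true] at hnegc
  have h1 := hnegc _ (List.mem_range.mpr hrn)
  rw [List.all_eq_true] at h1
  have h2 := h1 _ (List.mem_range.mpr hsn)
  rw [List.all_eq_true] at h2
  exact of_decide_eq_true (h2 c' hc')

end Equiv

section Orbit

variable (π' : ℕ → ℕ) (ε : ℕ → ℤ)

theorem cycOK_orbit {k : ℕ} {S : List ℕ} (h : cycOK π' ε k S = true) :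
    ∀ r ∈ S, ∀ r' ∈ S, r' = r ∨ r' = π' r ∨ r' = π' (π' r) := by
  match S, h with
  | [a], h =>
    intro r hr r' hr'
    rw [List.mem_singleton] at hr hr'
    left; rw [hr, hr']
  | [a, b], h =>
    simp only [cycOK, Bool.and_eq_true, beq_iff_eq, bne_iff_ne, ne_eq] at h
    obtain ⟨⟨⟨⟨-, -⟩, h1⟩, h2⟩, -⟩ := h
    intro r hr r' hr'
    simp only [List.mem_cons, List.not_mem_nil, or_false] at hr hr'
    rcases hr with rfl | rfl <;> rcases hr' with rfl | rfl
    · left; rfl
    · right; left; exact h1.symm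
    · right; left; exact h2.symm
    · left; rfl
  | [a, b, c], h =>
    simp only [cycOK, Bool.and_eq_true, Bool.or_eq_true, beq_iff_eq, bne_iff_ne, ne_eq] at h
    obtain ⟨⟨⟨⟨⟨-, -⟩, -⟩, -⟩, hor⟩, -⟩ := h
    intro r hr r' hr'
    simp only [List.mem_cons, List.not_mem_nil, or_false] at hr hr'
    rcases hor with ⟨⟨h1, h2⟩, h3⟩ | ⟨⟨h1, h2⟩, h3⟩
    · -- a → c → b → a
      rcases hr with rfl | rfl | rfl <;> rcases hr' with rfl | rfl | rfl
      · left; rfl
      · right; right; rw [h1, h3]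
      · right; left; exact h1.symm
      · right; left; exact h2.symm
      · left; rfl
      · right; right; rw [h2, h1]
      · right; right; rw [h3, h2]
      · right; left; exact h3.symm
      · left; rfl
    · -- a → b → c → a
      rcases hr with rfl | rfl | rfl <;> rcases hr' with rfl | rfl | rfl
      · left; rfl
      · right; left; exact h1.symm
      · right; right; rw [h1, h3]
      · right; right; rw [h3, h2]
      · left; rfl
      · right; left; exact h3.symm
      · right; left; exact h2.symm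
      · right; right; rw [h2, h1]
      · left; rfl

end Orbit

section Main

variable {K : Type*} [Field K] [Fintype K] {D : ChevalleyDatum}
  (hD : D ∈ [chevG2, chevB2, chevD4, chevF4, chevE6, chevE7, chevE8]) (C : Cert D)
  {φT : ℕ → ℤ} {wit : ℕ → ℕ × ℕ} (hg : gradeOK' D φT wit = true)
  (ρ ρ' π π' : ℕ → ℕ) (ε : ℕ → ℤ) (hp : permsOK D ρ ρ' π π' ε = true) (f : K ≃+* K)
  (h : allOK D ρ ρ' π π' ε = true) (htw : twistOK D π ε (hlfOf D) = true)
  (Cl : List (List ℕ)) {k q : ℕ}
  (hnd : Cl.flatten.Nodup) (hcyc : Cl.all (cycOK π' ε k) = true)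
  (hclosed : ClosedList D φT Cl.flatten) (hclass : classOK D π Cl = true)
  (hmemCl : ∀ r, r ∈ Cl.flatten ↔ D.IsPosRoot r)
  (heqc : commEquivOK D C.tabs = true) (hnegc : negClosedOK D = true)

include hD hp in
/-- an element commuting with `π` commutes with its inverse -/
theorem isFix_inv' (w : C.M.Group) (hw : IsFix C π w) (r : ℕ) (hr : r < D.nroots) :
    phi C.M C.Mx C.hI C.hB C.hMx w (π' r) = π' (phi C.M C.Mx C.hI C.hB C.hMx w r) := by
  obtain ⟨hp1, -⟩ := permsOK_spec hp
  obtain ⟨-, h2, -, h4, -⟩ := hp1 r hr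
  have h5 := hw (π' r) h2
  rw [h4] at h5
  rw [h5]
  exact ((hp1 _ (phi_lt D hD C w _ h2)).2.2.1).symm

include hD hp htw in
theorem neg_of_orbit (w : C.M.Group) (hw : IsFix C π w) (r : ℕ) (hr : r < D.nroots)
    (hneg : phi C.M C.Mx C.hI C.hB C.hMx w r < hlfOf D) :
    phi C.M C.Mx C.hI C.hB C.hMx w (π' r) < hlfOf D := by
  obtain ⟨hp1, -⟩ := permsOK_spec hp
  rw [isFix_inv' hD C ρ ρ' π π' ε hp w hw r hr]
  have hlt := phi_lt D hD C w r hr
  obtain ⟨-, h2, -, h4, -⟩ := hp1 _ hlt
  have h5 := (twistOK_spec htw _ h2).1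
  rw [h4] at h5
  by_contra hcon
  have := h5.mp (not_lt.mp hcon)
  omega

open Classical in
/-- the classes of positive roots made negative by `w` -/
noncomputable def NCl (w : C.M.Group) : List (List ℕ) :=
  Cl.filter fun S => decide (∀ r ∈ S, phi C.M C.Mx C.hI C.hB C.hMx w r < hlfOf D)

include hD hp htw hcyc hmemCl in
theorem mem_NCl_flatten (w : C.M.Group) (hw : IsFix C π w) (r : ℕ) :
    r ∈ (NCl C Cl w).flatten ↔
      ((hlfOf D ≤ r ∧ r < D.nroots) ∧ phi C.M C.Mx C.hI C.hB C.hMx w r < hlfOf D) := by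
  have hpos := posOK_of_mem D hD
  obtain ⟨hp1, -⟩ := permsOK_spec hp
  constructor
  · intro hr
    obtain ⟨S, hS, hrS⟩ := List.mem_flatten.mp hr
    unfold NCl at hS
    rw [List.mem_filter, decide_eq_true_eq] at hS
    have h1 : r ∈ Cl.flatten := List.mem_flatten.mpr ⟨S, hS.1, hrS⟩
    exact ⟨(isPosRoot_iff D _ hpos r).mp ((hmemCl r).mp h1), hS.2 r hrS⟩
  · rintro ⟨hr, hneg⟩
    have h1 : r ∈ Cl.flatten := (hmemCl r).mpr ((isPosRoot_iff D _ hpos r).mpr hr)
    obtain ⟨S, hS, hrS⟩ := List.mem_flatten.mp h1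
    refine List.mem_flatten.mpr ⟨S, ?_, hrS⟩
    unfold NCl
    rw [List.mem_filter, decide_eq_true_eq]
    refine ⟨hS, ?_⟩
    intro r' hr'
    have hc := List.all_eq_true.mp hcyc S hS
    have hn1 := neg_of_orbit hD C ρ ρ' π π' ε hp htw w hw r hr.2 hneg
    have hn2 := neg_of_orbit hD C ρ ρ' π π' ε hp htw w hw (π' r) (hp1 r hr.2).2.1 hn1
    rcases cycOK_orbit π' ε hc r hrS r' hr' with rfl | rfl | rfl
    · exact hneg
    · exact hn1
    · exact hn2

theorem NCl_sublist (w : C.M.Group) : (NCl C Cl w).flatten.Sublist Cl.flatten := by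
  unfold NCl
  exact List.Sublist.flatten List.filter_sublist

include hD hp htw hcyc hmemCl hclosed heqc hnegc in
theorem NCl_closed (w : C.M.Group) (hw : IsFix C π w) : ClosedList D φT (NCl C Cl w).flatten := by
  have hpos := posOK_of_mem D hD
  have hsub := NCl_sublist C Cl w
  refine ⟨hclosed.sorted.sublist hsub, fun r hr => hclosed.pos r (hsub.subset hr), ?_⟩
  intro r hr s hs c hc
  have hc1 := hclosed.closed r (hsub.subset hr) s (hsub.subset hs) c hc
  obtain ⟨hr1, hr2⟩ := (mem_NCl_flatten hD C ρ ρ' π π' ε hp htw Cl hcyc hmemCl w hw r).mp hr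
  obtain ⟨hs1, hs2⟩ := (mem_NCl_flatten hD C ρ ρ' π π' ε hp htw Cl hcyc hmemCl w hw s).mp hs
  rw [mem_NCl_flatten hD C ρ ρ' π π' ε hp htw Cl hcyc hmemCl w hw]
  exact ⟨(isPosRoot_iff D _ hpos _).mp ((hmemCl _).mp hc1),
    neg_closed C heqc hnegc w r s hr1.2 hs1.2 hr2 hs2 c hc⟩

include hclass in
theorem NCl_class (w : C.M.Group) : classOK D π (NCl C Cl w) = true := by
  unfold classOK at hclass ⊢
  rw [List.all_eq_true] at hclass ⊢
  intro S hS
  unfold NCl at hS
  exact hclass S (List.mem_filter.mp hS).1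

include hcyc in
theorem NCl_cyc (w : C.M.Group) : (NCl C Cl w).all (cycOK π' ε k) = true := by
  rw [List.all_eq_true] at hcyc ⊢
  intro S hS
  unfold NCl at hS
  exact hcyc S (List.mem_filter.mp hS).1

include hD hp htw hcyc hmemCl in
theorem UnegW_eq_listSubgroup (w : C.M.Group) (hw : IsFix C π w) :
    UnegW D C K w = listSubgroup D K (NCl C Cl w).flatten := by
  have htri := triOK_of_mem D hD
  unfold UnegW listSubgroup
  congr 1
  ext g
  constructor
  · rintro ⟨r, t, hr, hneg, rfl⟩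
    exact ⟨r, t, (mem_NCl_flatten hD C ρ ρ' π π' ε hp htw Cl hcyc hmemCl w hw r).mpr ⟨hr, hneg⟩,
      xGL_val D _ htri r t⟩
  · rintro ⟨r, t, hr, hg'⟩
    obtain ⟨h1, h2⟩ := (mem_NCl_flatten hD C ρ ρ' π π' ε hp htw Cl hcyc hmemCl w hw r).mp hr
    exact ⟨r, t, h1, h2, Units.ext (by rw [hg', xGL_val D _ htri])⟩

include hD hp htw hcyc hmemCl hnd in
theorem NCl_length (w : C.M.Group) (hw : IsFix C π w) : (NCl C Cl w).flatten.length = inv C w := by
  classical
  have hnd' : (NCl C Cl w).flatten.Nodup := hnd.sublist (NCl_sublist C Cl w)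
  rw [← List.toFinset_card_of_nodup hnd']
  unfold inv
  congr 1
  ext r
  rw [List.mem_toFinset, mem_NCl_flatten hD C ρ ρ' π π' ε hp htw Cl hcyc hmemCl w hw, Finset.mem_filter,
    Finset.mem_range]
  tauto

variable (hfix : {a : K | f a = a}.ncard = q) (hcard : Fintype.card K = q ^ k)
  (hf2 : k = 2 → ∀ x : K, f (f x) = x) (hf3 : k = 3 → ∀ x : K, f (f (f x)) = x)

include hD hg hp h htw hnd hcyc hclosed hclass hmemCl heqc hnegc hfix hcard hf2 hf3 in
/-- `|(U_w⁻)^σ| = q ^ ℓ(w)` for `w` commuting with the symmetry -/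
theorem card_UnegW_fix (w : C.M.Group) (hw : IsFix C π w) :
    Nat.card ↥(UnegW D C K w ⊓ Fix D ρ ρ' π π' ε hp f) = q ^ inv C w := by
  have c1 := NCl_closed hD C ρ ρ' π π' ε hp htw Cl hcyc hclosed hmemCl heqc hnegc w hw
  have c2 := NCl_class C π Cl hclass w
  have c3 := NCl_cyc C π' ε Cl hcyc w
  have c4 : (NCl C Cl w).flatten.Nodup := hnd.sublist (NCl_sublist C Cl w)
  rw [UnegW_eq_listSubgroup hD C ρ ρ' π π' ε hp htw Cl hcyc hmemCl w hw,
    ncard_fix_listSubgroup (K := K) hD hg ρ ρ' π π' ε hp f h (NCl C Cl w) c1 c2,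
    ncard_TS_classes π' ε f hfix hcard hf2 hf3 (NCl C Cl w) c4 c3,
    NCl_length hD C ρ ρ' π π' ε hp htw Cl hnd hcyc hmemCl w hw]

end Main

end Cfsg.Agent.Helper19.Twist
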