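import Cfsg.Agent.Helper19.Twist.CellFix
import Cfsg.Agent.Helper19.Twist.InvCount

/-!
The Bruhat cell subgroups `U_n⁻` in terms of the Weyl group: `U_n⁻ = U_w⁻` for `w` the image of `n`,
`|U_w⁻| = |K| ^ ℓ(w)`, and the root-level conditions for the factorisation of `CellFix`.
-/

set_option autoImplicit false
set_option maxRecDepth 100000
set_option linter.unusedSectionVars false

namespace Cfsg.Agent.Helper19.Twist

open Cfsg Cfsg.Lie Cfsg.Agent.Helper18 Cfsg.Agent.Helper19.Cox Cfsg.Agent.Helper19.Poinc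
open Cfsg.Agent.Helper36 Cfsg.Agent.Helper36.FieldFix Cfsg.Agent.Helper36.SigmaChev

section Supp

variable {K : Type*} [Field K] [Fintype K]

/-- the number of coefficient families supported on a list without repetitions -/
theorem card_supp (P : List ℕ) (hnd : P.Nodup) :
    Nat.card {t : ℕ → K // ∀ r, r ∉ P → t r = 0} = Fintype.card K ^ P.length := by
  classical
  have e : {t : ℕ → K // ∀ r, r ∉ P → t r = 0} ≃ ({r // r ∈ P.toFinset} → K) :=
    { toFun := fun t r => t.1 r.1
      invFun := fun f => ⟨fun r => if h : r ∈ P.toFinset then f ⟨r, h⟩ else 0, fun r hr => by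
        have : r ∉ P.toFinset := by rwa [List.mem_toFinset]
        simp [this]⟩
      left_inv := by
        rintro ⟨t, ht⟩
        apply Subtype.ext
        funext r
        by_cases h : r ∈ P.toFinset
        · simp [h]
        · have h' : r ∉ P := by rwa [List.mem_toFinset] at h
          simp [h, ht r h']
      right_inv := by
        intro f
        funext ⟨r, h⟩
        simp [h] }
  rw [Nat.card_congr e, Nat.card_fun, Nat.card_eq_fintype_card, Nat.card_eq_fintype_card, Fintype.card_coe,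
    List.toFinset_card_of_nodup hnd]

end Supp

section Weyl

variable {K : Type*} [Field K] (D : ChevalleyDatum)
  (hD : D ∈ [chevG2, chevB2, chevD4, chevF4, chevE6, chevE7, chevE8]) (C : Cert D)
  (h31 : NConjHyp D K) [hn : (HN D K).Normal]

include hD in
/-- `U_n⁻ = U_w⁻` for `w` the image of `n` in the Weyl group -/
theorem Um_eq_UnegW (n : ↥(D.monomialSubgroup K)) :
    Um D K (n : GL D.Idx K) = UnegW D C K (theta D hD C h31 n) := by
  have htri := triOK_of_mem D hD
  have hpos := posOK_of_mem D hD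
  have hUV : D.posUnipotent K ⊓ D.negUnipotent K = ⊥ := by
    rw [eq_bot_iff, ← (Cfsg.Agent.S1037.result (F := K) D hD).1]
    exact inf_le_inf_right _ le_sup_left
  apply le_antisymm
  · unfold Um UnegW
    apply Subgroup.closure_mono
    rintro x ⟨r, t, hr, hle, hx⟩
    have hr' := (isPosRoot_iff D _ hpos r).mp hr
    refine ⟨r, t, hr', ?_, Units.ext (by rw [hx, xGL_val D _ htri])⟩
    by_contra hge
    rw [not_lt] at hge
    obtain ⟨hlt, t', e1⟩ := conj_rep D hD C h31 _ n (theta_spec D hD C h31 n) r hr'.2 1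
    have hV : (n : GL D.Idx K) * xGL D K r 1 * (n : GL D.Idx K)⁻¹ ∈ D.negUnipotent K := by
      apply hle
      exact ⟨xGL D K r 1, xGL_mem_rootSubgroup D hD r 1, by simp [MulAut.conj_apply]⟩
    have hU : (n : GL D.Idx K) * xGL D K r 1 * (n : GL D.Idx K)⁻¹ ∈ D.posUnipotent K := by
      rw [e1]
      exact rootSubgroup_le_posUnipotent D hD _ ((isPosRoot_iff D _ hpos _).mpr ⟨hge, hlt⟩)
        (xGL_mem_rootSubgroup D hD _ _)
    have h1 : (n : GL D.Idx K) * xGL D K r 1 * (n : GL D.Idx K)⁻¹ ∈ D.posUnipotent K ⊓ D.negUnipotent K :=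
      ⟨hU, hV⟩
    rw [hUV, Subgroup.mem_bot] at h1
    have e6 : xGL D K r (1 : K) = 1 := by
      have : xGL D K r (1 : K) = (n : GL D.Idx K)⁻¹ * ((n : GL D.Idx K) * xGL D K r 1 * (n : GL D.Idx K)⁻¹) *
          (n : GL D.Idx K) := by group
      rw [this, h1]; group
    have e7 := congrArg (fun g : GL D.Idx K => (g : Matrix D.Idx D.Idx K)) e6
    simp only [xGL_val D _ htri, Units.val_one] at e7
    exact one_ne_zero ((Cfsg.Agent.S1024.result D hD r hr'.2 (1 : K)).mp e7)
  · exact UnegW_le D hD C h31 _ n (theta_spec D hD C h31 n)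

variable {φ : ℕ → ℤ} {wit : ℕ → ℕ × ℕ} (hg : gradeOK' D φ wit = true)
  (heqc : commEquivOK D C.tabs = true) (hnegc : negClosedOK D = true)
  (posList : List ℕ) (hsorted : posList.Pairwise fun a b => φ a < φ b)
  (hmem : ∀ r, r ∈ posList ↔ D.IsPosRoot r)

/-- the positive roots made negative by `w`, in the order of the grading -/
noncomputable def negList (w : C.M.Group) : List ℕ :=
  posList.filter fun r => decide (phi C.M C.Mx C.hI C.hB C.hMx w r < hlfOf D)

include hD hg heqc hnegc hsorted hmem in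
theorem negList_closed (w : C.M.Group) : ClosedList D φ (negList D C posList w) := by
  have hpos := posOK_of_mem D hD
  refine ⟨hsorted.sublist List.filter_sublist, ?_, ?_⟩
  · intro r hr
    exact (hmem r).mp (List.mem_filter.mp hr).1
  · intro r hr s hs c hc
    obtain ⟨hr1, hr2⟩ := List.mem_filter.mp hr
    obtain ⟨hs1, hs2⟩ := List.mem_filter.mp hs
    have hrp := (hmem r).mp hr1
    have hsp := (hmem s).mp hs1
    rw [decide_eq_true_eq] at hr2 hs2
    refine List.mem_filter.mpr ⟨(hmem _).mpr (commTerms_pos' hg r s hrp hsp c hc).1, ?_⟩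
    rw [decide_eq_true_eq]
    exact neg_closed C heqc hnegc w r s hrp.1 hsp.1 hr2 hs2 c hc

include hD hmem in
theorem UnegW_eq_negList (w : C.M.Group) : UnegW D C K w = listSubgroup D K (negList D C posList w) := by
  have htri := triOK_of_mem D hD
  have hpos := posOK_of_mem D hD
  unfold UnegW listSubgroup
  congr 1
  ext g
  constructor
  · rintro ⟨r, t, hr, hneg, rfl⟩
    refine ⟨r, t, List.mem_filter.mpr ⟨(hmem r).mpr ((isPosRoot_iff D _ hpos r).mpr hr), ?_⟩,
      xGL_val D _ htri r t⟩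
    rw [decide_eq_true_eq]; exact hneg
  · rintro ⟨r, t, hr, hg'⟩
    obtain ⟨h1, h2⟩ := List.mem_filter.mp hr
    rw [decide_eq_true_eq] at h2
    exact ⟨r, t, (isPosRoot_iff D _ hpos r).mp ((hmem r).mp h1), h2, Units.ext (by rw [hg', xGL_val D _ htri])⟩

include hD hsorted hmem in
theorem negList_length (w : C.M.Group) : (negList D C posList w).length = inv C w := by
  classical
  have hpos := posOK_of_mem D hD
  have hnd : posList.Nodup := hsorted.imp (fun h => ne_of_lt h) |>.imp (fun h e => h (by rw [e]))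
  have hnd' : (negList D C posList w).Nodup := hnd.sublist List.filter_sublist
  rw [← List.toFinset_card_of_nodup hnd']
  unfold inv
  congr 1
  ext r
  rw [List.mem_toFinset, Finset.mem_filter, Finset.mem_range]
  unfold negList
  rw [List.mem_filter, decide_eq_true_eq, hmem r, isPosRoot_iff D _ hpos r]
  tauto

variable [Fintype K]

include hD hg heqc hnegc hsorted hmem in
/-- `|U_w⁻| = |K| ^ ℓ(w)` -/
theorem card_UnegW (w : C.M.Group) : Nat.card ↥(UnegW D C K w) = Fintype.card K ^ inv C w := by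
  have hcl := negList_closed D hD C hg heqc hnegc posList hsorted hmem w
  have hnd : (negList D C posList w).Nodup :=
    (hcl.sorted.imp (fun h => ne_of_lt h)).imp (fun h e => h (by rw [e]))
  rw [UnegW_eq_negList D hD C posList hmem w, ← negList_length D hD C posList hsorted hmem w,
    ← card_supp (K := K) _ hnd]
  symm
  apply Nat.card_congr
  refine Equiv.ofBijective (fun t => ⟨pwG D K _ t.1, pwG_mem_listSubgroup hD _ t.1⟩) ⟨?_, ?_⟩
  · rintro ⟨t, ht⟩ ⟨t', ht'⟩ e
    apply Subtype.ext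
    exact pwG_injOn hD hg _ hcl t t' ht ht' (congrArg Subtype.val e)
  · rintro ⟨g, hgm⟩
    obtain ⟨t, ht, e⟩ := exists_pwG hD hg _ hcl g hgm
    exact ⟨⟨t, ht⟩, Subtype.ext e.symm⟩

end Weyl

section Step

variable {K : Type*} [Field K] [Fintype K] (D : ChevalleyDatum)
  (hD : D ∈ [chevG2, chevB2, chevD4, chevF4, chevE6, chevE7, chevE8]) (C : Cert D)
  (h31 : NConjHyp D K) [hn : (HN D K).Normal]
  {φ : ℕ → ℤ} {wit : ℕ → ℕ × ℕ} (hg : gradeOK' D φ wit = true)
  (heqc : commEquivOK D C.tabs = true) (hnegc : negClosedOK D = true)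
  (posList : List ℕ) (hsorted : posList.Pairwise fun a b => φ a < φ b)
  (hmem : ∀ r, r ∈ posList ↔ D.IsPosRoot r)
  {σ : ↥(D.group K) ≃* ↥(D.group K)} {π : ℕ → ℕ} {c : ℕ → K →+* K}

include hD hg heqc hnegc hsorted hmem in
/-- the three conditions of `CellFix` from conditions on the images in the Weyl group -/
theorem cell_conditions (n s : ↥(D.monomialSubgroup K))
    (H1 : ∀ r, hlfOf D ≤ r → r < D.nroots →
      phi C.M C.Mx C.hI C.hB C.hMx (theta D hD C h31 s) r < hlfOf D →
      phi C.M C.Mx C.hI C.hB C.hMx (theta D hD C h31 n * theta D hD C h31 s) r < hlfOf D)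
    (H2 : ∀ r, hlfOf D ≤ r → r < D.nroots →
      phi C.M C.Mx C.hI C.hB C.hMx (theta D hD C h31 n) r < hlfOf D →
      hlfOf D ≤ phi C.M C.Mx C.hI C.hB C.hMx (theta D hD C h31 s)⁻¹ r)
    (H3 : inv C (theta D hD C h31 n * theta D hD C h31 s) =
      inv C (theta D hD C h31 s) + inv C (theta D hD C h31 n)) :
    Um D K (s : GL D.Idx K) ≤ Um D K ((n : GL D.Idx K) * s) ∧
    (∀ v ∈ Um D K (n : GL D.Idx K), (s : GL D.Idx K)⁻¹ * v * s ∈ Um D K ((n : GL D.Idx K) * s)) ∧
    Nat.card ↥(Um D K ((n : GL D.Idx K) * s)) =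
      Nat.card ↥(Um D K (s : GL D.Idx K)) * Nat.card ↥(Um D K (n : GL D.Idx K)) := by
  have htri := triOK_of_mem D hD
  have e1 : Um D K ((n : GL D.Idx K) * s) = UnegW D C K (theta D hD C h31 n * theta D hD C h31 s) := by
    rw [← Subgroup.coe_mul, Um_eq_UnegW D hD C h31 (n * s), map_mul]
  rw [e1, Um_eq_UnegW D hD C h31 s, Um_eq_UnegW D hD C h31 n]
  refine ⟨?_, ?_, ?_⟩
  · unfold UnegW
    apply Subgroup.closure_mono
    rintro x ⟨r, t, hr, hneg, rfl⟩
    exact ⟨r, t, hr, H1 r hr.1 hr.2 hneg, rfl⟩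
  · intro v hv
    unfold UnegW at hv
    induction hv using Subgroup.closure_induction with
    | mem x hx =>
      obtain ⟨r, t, hr, hneg, rfl⟩ := hx
      obtain ⟨hlt, t', e2⟩ := conj_rep D hD C h31 _ s⁻¹ (theta_spec D hD C h31 s⁻¹) r hr.2 t
      rw [map_inv] at hlt e2
      have e3 : (s : GL D.Idx K)⁻¹ * xGL D K r t * s =
          xGL D K (phi C.M C.Mx C.hI C.hB C.hMx (theta D hD C h31 s)⁻¹ r) t' := by
        rw [← e2]
        simp
      rw [e3]
      apply Subgroup.subset_closure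
      refine ⟨_, t', ⟨H2 r hr.1 hr.2 hneg, hlt⟩, ?_, rfl⟩
      rw [← Equiv.Perm.mul_apply, ← map_mul, mul_assoc, mul_inv_cancel, mul_one]
      exact hneg
    | one => simp
    | mul a b _ _ ha hb =>
      have : (s : GL D.Idx K)⁻¹ * (a * b) * s = ((s : GL D.Idx K)⁻¹ * a * s) * ((s : GL D.Idx K)⁻¹ * b * s) := by
        group
      rw [this]; exact Subgroup.mul_mem _ ha hb
    | inv a _ ha =>
      have : (s : GL D.Idx K)⁻¹ * a⁻¹ * s = ((s : GL D.Idx K)⁻¹ * a * s)⁻¹ := by group
      rw [this]; exact Subgroup.inv_mem _ ha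
  · rw [card_UnegW D hD C hg heqc hnegc posList hsorted hmem, card_UnegW D hD C hg heqc hnegc posList hsorted hmem,
      card_UnegW D hD C hg heqc hnegc posList hsorted hmem, H3, pow_add]

include hD hg heqc hnegc hsorted hmem in
/-- one step of the computation of the fixed points of the Bruhat cell subgroups -/
theorem spec_cell_step (hσ : Spec D σ π c) (n s : ↥(D.monomialSubgroup K))
    (hnG : (n : GL D.Idx K) ∈ D.group K) (hsG : (s : GL D.Idx K) ∈ D.group K)
    (hnfix : σ ⟨(n : GL D.Idx K), hnG⟩ = ⟨(n : GL D.Idx K), hnG⟩)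
    (hsfix : σ ⟨(s : GL D.Idx K), hsG⟩ = ⟨(s : GL D.Idx K), hsG⟩)
    (H1 : ∀ r, hlfOf D ≤ r → r < D.nroots →
      phi C.M C.Mx C.hI C.hB C.hMx (theta D hD C h31 s) r < hlfOf D →
      phi C.M C.Mx C.hI C.hB C.hMx (theta D hD C h31 n * theta D hD C h31 s) r < hlfOf D)
    (H2 : ∀ r, hlfOf D ≤ r → r < D.nroots →
      phi C.M C.Mx C.hI C.hB C.hMx (theta D hD C h31 n) r < hlfOf D →
      hlfOf D ≤ phi C.M C.Mx C.hI C.hB C.hMx (theta D hD C h31 s)⁻¹ r)
    (H3 : inv C (theta D hD C h31 n * theta D hD C h31 s) =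
      inv C (theta D hD C h31 s) + inv C (theta D hD C h31 n)) :
    Nat.card ↥(Um D K ((n : GL D.Idx K) * s) ⊓ specFix D σ) =
      Nat.card ↥(Um D K (s : GL D.Idx K) ⊓ specFix D σ) * Nat.card ↥(Um D K (n : GL D.Idx K) ⊓ specFix D σ) ∧
    ∀ G1 : Subgroup (GL D.Idx K), (s : GL D.Idx K) ∈ G1 → Um D K (s : GL D.Idx K) ⊓ specFix D σ ≤ G1 →
      Um D K (n : GL D.Idx K) ⊓ specFix D σ ≤ G1 → Um D K ((n : GL D.Idx K) * s) ⊓ specFix D σ ≤ G1 := by
  obtain ⟨c1, c2, c3⟩ := cell_conditions D hD C h31 hg heqc hnegc posList hsorted hmem n s H1 H2 H3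
  exact ⟨spec_cell_card hD hσ ⟨_, hnG⟩ ⟨_, hsG⟩ hsfix hnfix c1 c2 c3,
    fun G1 hs1 h1 h2 => spec_cell_le hD hσ ⟨_, hnG⟩ ⟨_, hsG⟩ hsfix hnfix c1 c2 c3 G1 hs1 h1 h2⟩

end Step

end Cfsg.Agent.Helper19.Twist
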