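import Cfsg.Agent.Helper36.SigmaFix

/-!
Counting a group `G¹` of fixed points of an automorphism `σ` of a Chevalley group (in the sense of
`Cfsg.Agent.Helper36.SigmaChev.Spec`) by means of the Bruhat normal form:
`|G¹| = |U ∩ G¹| · |H ∩ G¹| · ∑_w |U_w⁻ ∩ G¹|`, the sum running over representatives in `N ∩ G¹` of the
elements of the Weyl group of `G¹`.
-/

set_option autoImplicit false
set_option maxRecDepth 100000

namespace Cfsg.Agent.Helper19.Twist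

open Cfsg Cfsg.Lie Cfsg.Agent.Helper18 Cfsg.Agent.Helper36 Cfsg.Agent.Helper36.FieldFix
open Cfsg.Agent.Helper36.SigmaChev Cfsg.Agent.Helper36.SigmaBruhat

/-- counting a subgroup by a normal form `g = b · n_i · u` with uniqueness -/
theorem card_of_bruhat {Γ : Type*} [Group Γ] [Finite Γ] (B : Subgroup Γ) (Um : Γ → Subgroup Γ) (G1 : Subgroup Γ)
    {I : Type*} [Fintype I] (rep : I → Γ) (hrep : ∀ i, rep i ∈ G1)
    (hex : ∀ g ∈ G1, ∃ i, ∃ b ∈ B ⊓ G1, ∃ u ∈ Um (rep i) ⊓ G1, g = b * rep i * u)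
    (huniq : ∀ i j, ∀ b ∈ B, ∀ b' ∈ B, ∀ u ∈ Um (rep i), ∀ u' ∈ Um (rep j),
      b * rep i * u = b' * rep j * u' → i = j ∧ b = b' ∧ u = u') :
    Nat.card ↥G1 = Nat.card ↥(B ⊓ G1) * ∑ i, Nat.card ↥(Um (rep i) ⊓ G1) := by
  rw [Finset.mul_sum]
  have e1 : ∀ i, Nat.card ↥(B ⊓ G1) * Nat.card ↥(Um (rep i) ⊓ G1) =
      Nat.card (↥(B ⊓ G1) × ↥(Um (rep i) ⊓ G1)) := fun i => (Nat.card_prod _ _).symm
  simp_rw [e1]
  rw [← Nat.card_sigma]
  symm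
  have hmem : ∀ p : (Σ i, ↥(B ⊓ G1) × ↥(Um (rep i) ⊓ G1)),
      (p.2.1 : Γ) * rep p.1 * (p.2.2 : Γ) ∈ G1 := fun p =>
    Subgroup.mul_mem _ (Subgroup.mul_mem _ p.2.1.2.2 (hrep p.1)) p.2.2.2.2
  apply Nat.card_congr
  refine Equiv.ofBijective (fun p => ⟨(p.2.1 : Γ) * rep p.1 * (p.2.2 : Γ), hmem p⟩) ⟨?_, ?_⟩
  · rintro ⟨i, ⟨b, hb⟩, ⟨u, hu⟩⟩ ⟨j, ⟨b', hb'⟩, ⟨u', hu'⟩⟩ e
    have e2 : b * rep i * u = b' * rep j * u' := congrArg Subtype.val e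
    obtain ⟨hij, h1, h2⟩ := huniq i j b hb.1 b' hb'.1 u hu.1 u' hu'.1 e2
    subst hij
    subst h1
    subst h2
    rfl
  · rintro ⟨g, hg⟩
    obtain ⟨i, b, hb, u, hu, e⟩ := hex g hg
    exact ⟨⟨i, ⟨b, hb⟩, ⟨u, hu⟩⟩, Subtype.ext e.symm⟩

section Chev

variable {K : Type*} [Field K] [Fintype K] (D : ChevalleyDatum)
  (hD : D ∈ [chevG2, chevB2, chevD4, chevF4, chevE6, chevE7, chevE8])
  (G1 : Subgroup (GL D.Idx K))
  {I : Type*} [Fintype I] (rep : I → GL D.Idx K)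
  (hrepN : ∀ i, rep i ∈ D.monomialSubgroup K) (hrepG : ∀ i, rep i ∈ G1)
  (hdist : ∀ i j, (rep i)⁻¹ * rep j ∈ D.diagonalSubgroup K → i = j)

include hD hrepN hrepG hdist in
/-- `|G¹| = |B ∩ G¹| · ∑_i |U_{n_i}⁻ ∩ G¹|` for a subgroup `G¹` of a Chevalley group all of whose elements have
a Bruhat normal form with factors in `G¹` -/
theorem card_twisted_of_decomp
    (hex : ∀ g ∈ G1, ∃ i, ∃ b ∈ D.borelSubgroup K ⊓ G1, ∃ u ∈ Um D K (rep i) ⊓ G1, g = b * rep i * u) :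
    Nat.card ↥G1 = Nat.card ↥(D.borelSubgroup K ⊓ G1) * ∑ i, Nat.card ↥(Um D K (rep i) ⊓ G1) := by
  obtain ⟨-, huniq⟩ := Cfsg.Agent.S1100.result (F := K) D hD
  apply card_of_bruhat (D.borelSubgroup K) (Um D K) G1 rep hrepG hex
  intro i j b hb b' hb' u hu u' hu' e
  obtain ⟨h1, h2⟩ := huniq b b' (rep i) (rep j) u u' hb hb' (hrepN i) (hrepN j) hu hu' e
  have hij := hdist i j h1
  subst hij
  exact ⟨rfl, h2 rfl⟩

omit [Fintype K] in
/-- `|B ∩ G¹| = |U ∩ G¹| · |H ∩ G¹|` when the factors of the elements of `B ∩ G¹` lie in `G¹` -/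
theorem card_borel_of_decomp
    (hB : ∀ b ∈ D.borelSubgroup K ⊓ G1, ∃ u ∈ D.posUnipotent K ⊓ G1, ∃ h ∈ D.diagonalSubgroup K ⊓ G1, b = u * h)
    (hUH : D.posUnipotent K ⊓ D.diagonalSubgroup K = ⊥) :
    Nat.card ↥(D.borelSubgroup K ⊓ G1) =
      Nat.card ↥(D.posUnipotent K ⊓ G1) * Nat.card ↥(D.diagonalSubgroup K ⊓ G1) := by
  rw [← Nat.card_prod]
  symm
  have hmem : ∀ p : ↥(D.posUnipotent K ⊓ G1) × ↥(D.diagonalSubgroup K ⊓ G1),
      (p.1 : GL D.Idx K) * (p.2 : GL D.Idx K) ∈ D.borelSubgroup K ⊓ G1 := fun p =>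
    ⟨Subgroup.mul_mem _ (Subgroup.mem_sup_left p.1.2.1) (Subgroup.mem_sup_right p.2.2.1),
      Subgroup.mul_mem _ p.1.2.2 p.2.2.2⟩
  apply Nat.card_congr
  refine Equiv.ofBijective (fun p => ⟨(p.1 : GL D.Idx K) * (p.2 : GL D.Idx K), hmem p⟩) ⟨?_, ?_⟩
  · rintro ⟨⟨u, hu⟩, ⟨k, hk⟩⟩ ⟨⟨u', hu'⟩, ⟨k', hk'⟩⟩ e
    have e1 : u * k = u' * k' := congrArg Subtype.val e
    have e2 : u'⁻¹ * u = k' * k⁻¹ := by
      have : u'⁻¹ * u = u'⁻¹ * (u * k) * k⁻¹ := by group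
      rw [this, e1]; group
    have h1 : u'⁻¹ * u ∈ D.posUnipotent K ⊓ D.diagonalSubgroup K :=
      ⟨Subgroup.mul_mem _ (Subgroup.inv_mem _ hu'.1) hu.1, by
        rw [e2]; exact Subgroup.mul_mem _ hk'.1 (Subgroup.inv_mem _ hk.1)⟩
    rw [hUH, Subgroup.mem_bot] at h1
    have h2 : u = u' := by
      have : u = u' * (u'⁻¹ * u) := by group
      rw [this, h1, mul_one]
    subst h2
    have h3 : k = k' := mul_left_cancel e1
    subst h3
    rfl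
  · rintro ⟨b, hb⟩
    obtain ⟨u, hu, k, hk, e⟩ := hB b hb
    exact ⟨(⟨u, hu⟩, ⟨k, hk⟩), Subtype.ext e.symm⟩

end Chev

section Sigma

variable {K : Type*} [Field K] (D : ChevalleyDatum)
  (hD : D ∈ [chevG2, chevB2, chevD4, chevF4, chevE6, chevE7, chevE8])
  {σ : ↥(D.group K) ≃* ↥(D.group K)} {π : ℕ → ℕ} {c : ℕ → K →+* K}
  (G1 : Subgroup (GL D.Idx K)) (hG1 : G1 ≤ D.group K)
  (hG1fix : ∀ g : ↥(D.group K), (g : GL D.Idx K) ∈ G1 → σ g = g)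
  (hU : ∀ u : ↥(D.group K), (u : GL D.Idx K) ∈ D.posUnipotent K → σ u = u → (u : GL D.Idx K) ∈ G1)

include hD hG1fix hU in
/-- the factors of an element of `B ∩ G¹` lie in `G¹` -/
theorem spec_borel_decomp_fixed (hσ : Spec D σ π c) :
    ∀ b ∈ D.borelSubgroup K ⊓ G1, ∃ u ∈ D.posUnipotent K ⊓ G1, ∃ h ∈ D.diagonalSubgroup K ⊓ G1, b = u * h := by
  obtain ⟨hBG, -, -⟩ := Cfsg.Agent.S1043.result (F := K) D hD
  have hUB : D.posUnipotent K ≤ D.borelSubgroup K := le_sup_left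
  have hHB : D.diagonalSubgroup K ≤ D.borelSubgroup K := le_sup_right
  have hUH := (Cfsg.Agent.S1036.result (F := K) D hD).2
  rintro b ⟨hb, hbG⟩
  obtain ⟨u, hu, h, hh, rfl⟩ := borel_decomp D hD b hb
  set u' : ↥(D.group K) := ⟨u, hBG (hUB hu)⟩ with hu'
  set h' : ↥(D.group K) := ⟨h, hBG (hHB hh)⟩ with hh'
  have hfix : σ (u' * h') = u' * h' := hG1fix (u' * h') hbG
  rw [map_mul] at hfix
  have hσu : ((σ u' : ↥(D.group K)) : GL D.Idx K) ∈ D.posUnipotent K := hσ.stable_pos hD u' hu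
  have hσh : ((σ h' : ↥(D.group K)) : GL D.Idx K) ∈ D.diagonalSubgroup K := hσ.stable_diag hD h' hh
  have e1 : ((σ u' : ↥(D.group K)) : GL D.Idx K) * ((σ h' : ↥(D.group K)) : GL D.Idx K) = u * h :=
    congrArg Subtype.val hfix
  have e2 : u⁻¹ * ((σ u' : ↥(D.group K)) : GL D.Idx K) = h * ((σ h' : ↥(D.group K)) : GL D.Idx K)⁻¹ := by
    have : u⁻¹ * ((σ u' : ↥(D.group K)) : GL D.Idx K) =
        u⁻¹ * (((σ u' : ↥(D.group K)) : GL D.Idx K) * ((σ h' : ↥(D.group K)) : GL D.Idx K)) *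
          ((σ h' : ↥(D.group K)) : GL D.Idx K)⁻¹ := by group
    rw [this, e1]; group
  have h1 : u⁻¹ * ((σ u' : ↥(D.group K)) : GL D.Idx K) ∈ D.posUnipotent K ⊓ D.diagonalSubgroup K :=
    ⟨Subgroup.mul_mem _ (Subgroup.inv_mem _ hu) hσu, by
      rw [e2]; exact Subgroup.mul_mem _ hh (Subgroup.inv_mem _ hσh)⟩
  rw [hUH, Subgroup.mem_bot] at h1
  have h2 : ((σ u' : ↥(D.group K)) : GL D.Idx K) = u := by
    have : ((σ u' : ↥(D.group K)) : GL D.Idx K) = u * (u⁻¹ * ((σ u' : ↥(D.group K)) : GL D.Idx K)) := by group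
    rw [this, h1, mul_one]
  have huG : u ∈ G1 := hU u' hu (Subtype.ext h2)
  have hhG : h ∈ G1 := by
    have : h = u⁻¹ * (u * h) := by group
    rw [this]
    exact Subgroup.mul_mem _ (Subgroup.inv_mem _ huG) hbG
  exact ⟨u, ⟨hu, huG⟩, h, ⟨hh, hhG⟩, rfl⟩

variable {I : Type*} (rep : I → GL D.Idx K)
  (hrepN : ∀ i, rep i ∈ D.monomialSubgroup K) (hrepG : ∀ i, rep i ∈ G1)
  (hcover : ∀ n ∈ D.monomialSubgroup K ⊓ G1, ∃ i, (rep i)⁻¹ * n ∈ D.diagonalSubgroup K)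

include hD hG1 hG1fix hU hrepN hrepG hcover in
/-- the Bruhat normal form of an element of `G¹` with factors in `G¹` -/
theorem spec_exists_decomp (hσ : Spec D σ π c) :
    ∀ g ∈ G1, ∃ i, ∃ b ∈ D.borelSubgroup K ⊓ G1, ∃ u ∈ Um D K (rep i) ⊓ G1, g = b * rep i * u := by
  have hUB : D.posUnipotent K ≤ D.borelSubgroup K := le_sup_left
  have hHB : D.diagonalSubgroup K ≤ D.borelSubgroup K := le_sup_right
  have hHN : D.diagonalSubgroup K ≤ D.monomialSubgroup K := le_sup_left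
  have hnorm := mono_le_normalizer_diag (F := K) D hD
  intro g hg
  obtain ⟨u, h, n, v, hu, hh, hn, hv, e, hσu, hσv⟩ := hσ.fixed_bruhat hD ⟨g, hG1 hg⟩ (hG1fix _ hg)
  have e' : g = (u : GL D.Idx K) * h * n * v := by
    have := congrArg Subtype.val e
    simpa using this
  have huG : (u : GL D.Idx K) ∈ G1 := hU u hu hσu
  have hvU : (v : GL D.Idx K) ∈ D.posUnipotent K := bruhatU_le_pos D _ hv
  have hvG : (v : GL D.Idx K) ∈ G1 := hU v hvU hσv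
  have hmG : (h : GL D.Idx K) * n ∈ G1 := monomial_mem G1 _ _ _ _ (by rw [← e']; exact hg) huG hvG
  have hmN : (h : GL D.Idx K) * n ∈ D.monomialSubgroup K := Subgroup.mul_mem _ (hHN hh) hn
  obtain ⟨i, hi⟩ := hcover _ ⟨hmN, hmG⟩
  set k : GL D.Idx K := (rep i)⁻¹ * ((h : GL D.Idx K) * n) with hk
  have hkG : k ∈ G1 := Subgroup.mul_mem _ (Subgroup.inv_mem _ (hrepG i)) hmG
  -- `rep i * k * (rep i)⁻¹ ∈ H`
  have hk' : rep i * k * (rep i)⁻¹ ∈ D.diagonalSubgroup K := by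
    have := hnorm (hrepN i)
    rw [Subgroup.mem_normalizer_iff] at this
    exact (this k).mp hi
  -- the cell of `rep i`
  have hcell : Um D K (rep i) = Um D K (n : GL D.Idx K) := by
    have h1 : rep i = (n : GL D.Idx K) * ((n : GL D.Idx K)⁻¹ * h * n * k⁻¹) := by
      rw [hk]; group
    have h2 : (n : GL D.Idx K)⁻¹ * h * n * k⁻¹ ∈ D.diagonalSubgroup K := by
      refine Subgroup.mul_mem _ ?_ (Subgroup.inv_mem _ hi)
      have := hnorm (Subgroup.inv_mem _ hn)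
      rw [Subgroup.mem_normalizer_iff] at this
      have h3 := (this h).mp hh
      simpa using h3
    rw [h1, Um_mul_diag D hD _ _ h2]
  refine ⟨i, (u : GL D.Idx K) * (rep i * k * (rep i)⁻¹), ⟨?_, ?_⟩, (v : GL D.Idx K), ⟨?_, hvG⟩, ?_⟩
  · exact Subgroup.mul_mem _ (hUB hu) (hHB hk')
  · exact Subgroup.mul_mem _ huG (Subgroup.mul_mem _ (Subgroup.mul_mem _ (hrepG i) hkG) (Subgroup.inv_mem _ (hrepG i)))
  · rw [hcell]; exact hv
  · rw [e', hk]; group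

end Sigma

section Final

variable {K : Type*} [Field K] [Fintype K] (D : ChevalleyDatum)
  (hD : D ∈ [chevG2, chevB2, chevD4, chevF4, chevE6, chevE7, chevE8])
  {σ : ↥(D.group K) ≃* ↥(D.group K)} {π : ℕ → ℕ} {c : ℕ → K →+* K}
  (G1 : Subgroup (GL D.Idx K)) (hG1 : G1 ≤ D.group K)
  (hG1fix : ∀ g : ↥(D.group K), (g : GL D.Idx K) ∈ G1 → σ g = g)
  (hU : ∀ u : ↥(D.group K), (u : GL D.Idx K) ∈ D.posUnipotent K → σ u = u → (u : GL D.Idx K) ∈ G1)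
  {I : Type*} [Fintype I] (rep : I → GL D.Idx K)
  (hrepN : ∀ i, rep i ∈ D.monomialSubgroup K) (hrepG : ∀ i, rep i ∈ G1)
  (hdist : ∀ i j, (rep i)⁻¹ * rep j ∈ D.diagonalSubgroup K → i = j)
  (hcover : ∀ n ∈ D.monomialSubgroup K ⊓ G1, ∃ i, (rep i)⁻¹ * n ∈ D.diagonalSubgroup K)

include hD hG1 hG1fix hU hrepN hrepG hdist hcover in
/-- the order of a group `G¹` of `σ`-fixed points containing `U^σ`:
`|G¹| = |U ∩ G¹| · |H ∩ G¹| · ∑_i |U_{n_i}⁻ ∩ G¹|` -/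
theorem spec_card_twisted (hσ : Spec D σ π c) :
    Nat.card ↥G1 = Nat.card ↥(D.posUnipotent K ⊓ G1) * Nat.card ↥(D.diagonalSubgroup K ⊓ G1) *
      ∑ i, Nat.card ↥(Um D K (rep i) ⊓ G1) := by
  rw [card_twisted_of_decomp D hD G1 rep hrepN hrepG hdist
    (spec_exists_decomp D hD G1 hG1 hG1fix hU rep hrepN hrepG hcover hσ),
    card_borel_of_decomp D G1 (spec_borel_decomp_fixed D hD G1 hG1fix hU hσ)
      (Cfsg.Agent.S1036.result (F := K) D hD).2]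

end Final

end Cfsg.Agent.Helper19.Twist
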