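import Cfsg.Agent.Helper19.Twist.TwCount
import Cfsg.Agent.Helper18.BNMain

/-!
The double coset axiom and the covering `G¹ = B¹ N¹ B¹` for a group `G¹` of `σ`-fixed points of a
Chevalley group (containing `U^σ` and `σ`-fixed representatives of the `σ`-fixed part of the Weyl
group), derived from the `(B, N)`-pair of the big group and the `σ`-fixed normal form.
-/

set_option autoImplicit false
set_option maxRecDepth 100000
set_option linter.unusedSectionVars false

namespace Cfsg.Agent.Helper19.Twist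

open Cfsg Cfsg.Lie Cfsg.Agent.Helper18 Cfsg.Agent.Helper19.Cox Cfsg.Agent.Helper19.Poinc DoubleCoset
open Cfsg.Agent.Helper40.GraphAut

/-- the sublists of a class of nodes whose product commutes with the symmetry are trivial -/
def fixSubOK (T : List ℕ) (n d n1 : ℕ) (J : ℕ → List ℕ) (π : ℕ → ℕ) : Bool :=
  (List.range n1).all fun a => (J a).sublists.all fun S => (S == []) || (S == J a) ||
    (List.range d).any fun r => actW T n d S (π r) != π (actW T n d S r)

section List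

variable {K : Type*} [Field K] (D : ChevalleyDatum)
  (hD : D ∈ [chevG2, chevB2, chevD4, chevF4, chevE6, chevE7, chevE8]) (C : Cert D)
  (h31 : NConjHyp D K) [hn : (HN D K).Normal]

/-- the product of the representatives of the simple reflections along a list of nodes -/
noncomputable def sList (D : ChevalleyDatum) (K : Type*) [Field K] (L : List ℕ) : ↥(D.monomialSubgroup K) :=
  (L.map fun j => nN D K (D.simple j)).prod

theorem sList_cons (j : ℕ) (L : List ℕ) : sList D K (j :: L) = nN D K (D.simple j) * sList D K L := by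
  simp [sList]

include hD in
theorem theta_sList (L : List ℕ) (hL : ∀ j ∈ L, j < D.rank) :
    theta D hD C h31 (sList D K L) = gp C.M L := by
  induction L with
  | nil => simp [sList, gp]
  | cons j L ih =>
    rw [sList_cons, map_mul, theta_nN D hD C h31 j (hL j List.mem_cons_self),
      ih (fun i hi => hL i (List.mem_cons_of_mem _ hi)), gp_cons]

include hD in
/-- the double coset axiom of the big group, iterated along a list of nodes -/
theorem bn_mul_mem_list (h25 : CommHyp D K) (L : List ℕ) (hL : ∀ j ∈ L, j < D.rank)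
    (n : ↥(D.monomialSubgroup K)) (b : GL D.Idx K) (hb : b ∈ D.borelSubgroup K) :
    ∃ T : List ℕ, T.Sublist L ∧ ∃ b1 ∈ D.borelSubgroup K, ∃ b2 ∈ D.borelSubgroup K,
      (sList D K L : GL D.Idx K) * b * n = b1 * ((sList D K T * n : ↥(D.monomialSubgroup K)) : GL D.Idx K) * b2 := by
  induction L generalizing b with
  | nil =>
    refine ⟨[], List.Sublist.refl _, b, hb, 1, Subgroup.one_mem _, ?_⟩
    simp [sList]
  | cons j L ih =>
    have hj := hL j List.mem_cons_self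
    have hpj := simple_lt D (simpleOK_of_mem D hD) j hj
    obtain ⟨T, hT, b1, hb1, b2, hb2, e⟩ := ih (fun i hi => hL i (List.mem_cons_of_mem _ hi)) b hb
    obtain ⟨c1, hc1, c2, hc2, e2⟩ := bn_mul_mem D hD h25 j hj ((sList D K T * n : ↥(D.monomialSubgroup K)) : GL D.Idx K)
      (sList D K T * n).2 b1 hb1
    rw [← nN_val D hD (D.simple j) hpj] at e2
    have e0 : ((sList D K (j :: L) : ↥(D.monomialSubgroup K)) : GL D.Idx K) * b * n =
        (nN D K (D.simple j) : GL D.Idx K) * b1 * ((sList D K T * n : ↥(D.monomialSubgroup K)) : GL D.Idx K) * b2 := by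
      rw [sList_cons, Subgroup.coe_mul]
      calc (nN D K (D.simple j) : GL D.Idx K) * (sList D K L : GL D.Idx K) * b * n
          = (nN D K (D.simple j) : GL D.Idx K) * ((sList D K L : GL D.Idx K) * b * n) := by group
        _ = _ := by rw [e]; group
    rcases e2 with e2 | e2
    · refine ⟨j :: T, hT.cons_cons j, c1, hc1, c2 * b2, Subgroup.mul_mem _ hc2 hb2, ?_⟩
      rw [e0, e2, sList_cons]
      simp only [Subgroup.coe_mul]
      group
    · refine ⟨T, hT.cons j, c1, hc1, c2 * b2, Subgroup.mul_mem _ hc2 hb2, ?_⟩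
      rw [e0, e2]
      group

end List

section TwBN

variable {K : Type*} [Field K] (D : ChevalleyDatum)
  (hD : D ∈ [chevG2, chevB2, chevD4, chevF4, chevE6, chevE7, chevE8]) (C : Cert D)
  (h31 : NConjHyp D K) [hn : (HN D K).Normal]
  (ρ ρ' π π' : ℕ → ℕ) (ε : ℕ → ℤ) (hp : permsOK D ρ ρ' π π' ε = true) (f : K ≃+* K)
  (h : allOK D ρ ρ' π π' ε = true) (htw : twistOK D π ε (hlfOf D) = true) (hiso : isoOK D π π' = true)
  (hOK : rootInjOK D = true)

include hD in
theorem isFix_inv_elem (w : C.M.Group) (hw : IsFix C π w) : IsFix C π w⁻¹ := by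
  intro r hr
  have hy := phi_lt D hD C w⁻¹ r hr
  have h1 := hw _ hy
  have h2 : phi C.M C.Mx C.hI C.hB C.hMx w (phi C.M C.Mx C.hI C.hB C.hMx w⁻¹ r) = r := by
    rw [← Equiv.Perm.mul_apply, ← map_mul, mul_inv_cancel, map_one, Equiv.Perm.one_apply]
  rw [h2] at h1
  rw [← h1, ← Equiv.Perm.mul_apply, ← map_mul, inv_mul_cancel, map_one, Equiv.Perm.one_apply]

theorem fixSub_spec {J : ℕ → List ℕ} {n1 : ℕ} (hfs : fixSubOK C.tabs D.rank D.nroots n1 J π = true)
    (a : ℕ) (ha : a < n1) (S : List ℕ) (hS : S.Sublist (J a)) (hfix : IsFix C π (gp C.M S)) :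
    S = [] ∨ S = J a := by
  unfold fixSubOK at hfs
  rw [List.all_eq_true] at hfs
  have h1 := hfs a (List.mem_range.mpr ha)
  rw [List.all_eq_true] at h1
  have h2 := h1 S (List.mem_sublists.mpr hS)
  simp only [Bool.or_eq_true, beq_iff_eq, List.any_eq_true, bne_iff_ne, ne_eq, List.mem_range] at h2
  rcases h2 with (h2 | h2) | ⟨r, hr, h2⟩
  · left; exact h2
  · right; exact h2
  · exfalso
    apply h2
    have := hfix r hr
    rw [phi_gp, phi_gp] at this
    exact this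

variable (h42 : H42 D K) (h45 : H45 D K)

include hD h htw hiso hOK h42 h45 in
/-- the normal form of an element fixed by `σ`, with its double coset -/
theorem fixed_normal_form_dc (g : GL D.Idx K) (hg : g ∈ D.group K)
    (hfix : sigmaGL D ρ ρ' π π' ε hp f g = g) :
    ∃ w : C.M.Group, g ∈ DCgl D hD C h31 w ∧ IsFix C π w ∧
      ∀ n' : ↥(D.monomialSubgroup K), theta D hD C h31 n' = w →
      sigmaGL D ρ ρ' π π' ε hp f (n' : GL D.Idx K) = n' →
      ∃ b ∈ D.borelSubgroup K ⊓ Fix D ρ ρ' π π' ε hp f, ∃ u ∈ UnegW D C K w ⊓ Fix D ρ ρ' π π' ε hp f,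
        g = b * n' * u := by
  obtain ⟨w, hw, hform⟩ := fixed_normal_form D hD C h31 ρ ρ' π π' ε hp f h htw hiso hOK h42 h45 g hg hfix
  obtain ⟨w₀, n, hnw, hgn⟩ := DC_cover D hD C h31 h42 ⟨g, hg⟩
  -- the two elements of the Weyl group agree: compare the normal forms
  obtain ⟨b, hb, u, hu, e⟩ := bruhat_exists_aux D hD C h31 h45 w₀ n hnw g hgn
  have huN : u ∈ UnegN D K (n : GL D.Idx K) := UnegW_le D hD C h31 w₀ n hnw hu
  have hθn : theta D hD C h31 n = w₀ := theta_eq_of_mk D hD C h31 n w₀ hnw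
  have huniq := Cfsg.Agent.Helper36.bruhat_normal_form_unique_of_bn (F := K) D hD h42
  have e' : g = sigmaGL D ρ ρ' π π' ε hp f b * sigmaGL D ρ ρ' π π' ε hp f (n : GL D.Idx K) *
      sigmaGL D ρ ρ' π π' ε hp f u := by
    rw [← map_mul, ← map_mul, ← e, hfix]
  have hσn := sigmaGL_monomialSubgroup D ρ ρ' π π' ε hp f hD h htw hiso _ n.2
  have hσb := sigmaGL_borelSubgroup D ρ ρ' π π' ε hp f hD h htw hiso _ hb
  have hσu := sigmaGL_UnegN D hD ρ ρ' π π' ε hp f h htw _ _ huN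
  have h1 := (huniq b _ n _ u _ hb hσb n.2 hσn huN hσu (e.symm.trans e')).1
  let n₁ : ↥(D.monomialSubgroup K) := ⟨_, hσn⟩
  have hθ1 : theta D hD C h31 n₁ = theta D hD C h31 n := by
    have : theta D hD C h31 (n⁻¹ * n₁) = 1 := by
      rw [theta_eq_one_iff]
      exact h1
    rw [map_mul, map_inv, inv_mul_eq_one] at this
    exact this.symm
  have hfixw₀ : IsFix C π w₀ := by
    rw [← hθn]
    exact theta_isFix' D hD C h31 ρ ρ' π π' ε hp f h hOK n n₁ rfl hθ1
  refine ⟨w₀, ⟨n, hnw, hgn⟩, hfixw₀, ?_⟩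
  -- rerun the second half of the argument for `w₀`
  intro n' hn' hσn'
  have h2 : ((n * n'⁻¹ : ↥(D.monomialSubgroup K)) : GL D.Idx K) ∈ D.diagonalSubgroup K := by
    rw [← theta_eq_one_iff D hD C h31, map_mul, map_inv, hθn, hn', mul_inv_cancel]
  set h₂ : GL D.Idx K := (n : GL D.Idx K) * (n' : GL D.Idx K)⁻¹ with hh₂
  have h2' : h₂ ∈ D.diagonalSubgroup K := by simpa using h2
  have hb' : b * h₂ ∈ D.borelSubgroup K := Subgroup.mul_mem _ hb (Subgroup.mem_sup_right h2')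
  have e2 : g = b * h₂ * n' * u := by rw [e, hh₂]; group
  have hnw' : (QuotientGroup.mk n' : ↥(D.monomialSubgroup K) ⧸ HN D K) = psiC D hD C h31 w₀ := by
    rw [theta_spec D hD C h31 n', hn']
  have huN' : u ∈ UnegN D K (n' : GL D.Idx K) := UnegW_le D hD C h31 w₀ n' hnw' hu
  have e2' : g = sigmaGL D ρ ρ' π π' ε hp f (b * h₂) * (n' : GL D.Idx K) * sigmaGL D ρ ρ' π π' ε hp f u := by
    have := congrArg (sigmaGL D ρ ρ' π π' ε hp f) e2
    rw [hfix, map_mul, map_mul, hσn'] at this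
    exact this
  have hσb' := sigmaGL_borelSubgroup D ρ ρ' π π' ε hp f hD h htw hiso _ hb'
  have hσu' := sigmaGL_UnegN D hD ρ ρ' π π' ε hp f h htw _ _ huN'
  rw [hσn'] at hσu'
  obtain ⟨e3, e4⟩ := (huniq (b * h₂) _ n' n' u _ hb' hσb' n'.2 n'.2 huN' hσu' (e2.symm.trans e2')).2 rfl
  exact ⟨b * h₂, ⟨hb', e3.symm⟩, u, ⟨hu, e4.symm⟩, e2⟩

variable (G1 : Subgroup (GL D.Idx K)) (hG1fix : G1 ≤ Fix D ρ ρ' π π' ε hp f)
  (hU : D.posUnipotent K ⊓ Fix D ρ ρ' π π' ε hp f ≤ G1) (hG1 : G1 ≤ D.group K)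

include hD h htw hiso hOK h42 h45 hG1fix hU hG1 in
/-- an element of `G¹` in the big double coset of a `σ`-fixed representative `n' ∈ G¹` lies in `B¹ n' U¹` -/
theorem mem_cell_of_mem_DCgl (g : GL D.Idx K) (hg : g ∈ G1) (n' : ↥(D.monomialSubgroup K))
    (hn'G : (n' : GL D.Idx K) ∈ G1) (hdc : g ∈ DCgl D hD C h31 (theta D hD C h31 n')) :
    ∃ b ∈ D.borelSubgroup K ⊓ G1, ∃ u ∈ D.posUnipotent K ⊓ G1, g = b * n' * u := by
  obtain ⟨w, hgw, -, hform⟩ := fixed_normal_form_dc D hD C h31 ρ ρ' π π' ε hp f h htw hiso hOK h42 h45 g (hG1 hg)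
    (hG1fix hg)
  have hw : w = theta D hD C h31 n' := DCgl_disjoint D hD C h31 h42 _ _ g hgw hdc
  obtain ⟨b, hb, u, hu, e⟩ := hform n' hw.symm (hG1fix hn'G)
  have huG : u ∈ G1 := hU ⟨UnegW_le_pos D hD C _ hu.1, hu.2⟩
  have hbG : b ∈ G1 := by
    have : b = g * u⁻¹ * (n' : GL D.Idx K)⁻¹ := by rw [e]; group
    rw [this]
    exact Subgroup.mul_mem _ (Subgroup.mul_mem _ hg (Subgroup.inv_mem _ huG)) (Subgroup.inv_mem _ hn'G)
  exact ⟨b, ⟨hb.1, hbG⟩, u, ⟨UnegW_le_pos D hD C _ hu.1, huG⟩, e⟩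

include hD h31 h htw hiso hOK h42 h45 hG1fix hU hG1 in
/-- the double coset axiom for `G¹` -/
theorem twisted_bn_mul_mem (h25 : CommHyp D K) (L : List ℕ) (hL : ∀ j ∈ L, j < D.rank)
    (hsub : ∀ S : List ℕ, S.Sublist L → IsFix C π (gp C.M S) → S = [] ∨ S = L)
    (hsG : ((sList D K L : ↥(D.monomialSubgroup K)) : GL D.Idx K) ∈ G1)
    (n : ↥(D.monomialSubgroup K)) (hnG : (n : GL D.Idx K) ∈ G1)
    (b : GL D.Idx K) (hb : b ∈ D.borelSubgroup K ⊓ G1) :
    ∃ b1 ∈ D.borelSubgroup K ⊓ G1, ∃ b2 ∈ D.borelSubgroup K ⊓ G1,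
      (sList D K L : GL D.Idx K) * b * n = b1 * ((sList D K L : GL D.Idx K) * n) * b2 ∨
      (sList D K L : GL D.Idx K) * b * n = b1 * n * b2 := by
  set g := (sList D K L : GL D.Idx K) * b * n with hgdef
  have hgG : g ∈ G1 := Subgroup.mul_mem _ (Subgroup.mul_mem _ hsG hb.2) hnG
  obtain ⟨T, hT, c1, hc1, c2, hc2, e⟩ := bn_mul_mem_list D hD h25 L hL n b hb.1
  -- the big double coset of `g`
  have hdcT : g ∈ DCgl D hD C h31 (theta D hD C h31 (sList D K T * n)) :=
    ⟨sList D K T * n, theta_spec D hD C h31 _, by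
      rw [mem_doubleCoset]; exact ⟨c1, hc1, c2, hc2, e⟩⟩
  obtain ⟨w, hgw, hwfix, -⟩ := fixed_normal_form_dc D hD C h31 ρ ρ' π π' ε hp f h htw hiso hOK h42 h45 g
    (hG1 hgG) (hG1fix hgG)
  have hw : w = theta D hD C h31 (sList D K T * n) := DCgl_disjoint D hD C h31 h42 _ _ g hgw hdcT
  have hTlt : ∀ j ∈ T, j < D.rank := fun j hj => hL j (hT.subset hj)
  rw [map_mul, theta_sList D hD C h31 T hTlt] at hw
  have hnfix : IsFix C π (theta D hD C h31 n) := theta_isFix D hD C h31 ρ ρ' π π' ε hp f h hOK n (hG1fix hnG)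
  have hTfix : IsFix C π (gp C.M T) := by
    have : gp C.M T = w * (theta D hD C h31 n)⁻¹ := by rw [hw]; group
    rw [this]
    exact isFix_mul C π _ _ hwfix (isFix_inv_elem D hD C π _ hnfix)
  have hUB : D.posUnipotent K ⊓ G1 ≤ D.borelSubgroup K ⊓ G1 := inf_le_inf_right _ le_sup_left
  rcases hsub T hT hTfix with hT0 | hTL
  · -- `g ∈ B n B`
    have hdc : g ∈ DCgl D hD C h31 (theta D hD C h31 n) := by
      have : sList D K [] * n = n := by simp [sList]
      rw [hT0, this] at hdcT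
      exact hdcT
    obtain ⟨b1, hb1, u, hu, e1⟩ := mem_cell_of_mem_DCgl D hD C h31 ρ ρ' π π' ε hp f h htw hiso hOK h42 h45 G1
      hG1fix hU hG1 g hgG n hnG hdc
    exact ⟨b1, hb1, u, hUB hu, Or.inr e1⟩
  · -- `g ∈ B s n B`
    have hsnG : ((sList D K L * n : ↥(D.monomialSubgroup K)) : GL D.Idx K) ∈ G1 := by
      rw [Subgroup.coe_mul]; exact Subgroup.mul_mem _ hsG hnG
    rw [hTL] at hdcT
    obtain ⟨b1, hb1, u, hu, e1⟩ := mem_cell_of_mem_DCgl D hD C h31 ρ ρ' π π' ε hp f h htw hiso hOK h42 h45 G1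
      hG1fix hU hG1 g hgG (sList D K L * n) hsnG hdcT
    rw [Subgroup.coe_mul] at e1
    exact ⟨b1, hb1, u, hUB hu, Or.inl e1⟩

include hD h htw hiso hOK h42 h45 hG1fix hU hG1 in
/-- `G¹ = B¹ N¹ B¹` -/
theorem twisted_cover
    (hrep : ∀ w, IsFix C π w → ∃ n' : ↥(D.monomialSubgroup K), theta D hD C h31 n' = w ∧ (n' : GL D.Idx K) ∈ G1)
    (g : GL D.Idx K) (hg : g ∈ G1) :
    ∃ b1 ∈ D.borelSubgroup K ⊓ G1, ∃ n ∈ D.monomialSubgroup K ⊓ G1, ∃ b2 ∈ D.borelSubgroup K ⊓ G1,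
      g = b1 * n * b2 := by
  obtain ⟨w, hgw, hwfix, -⟩ := fixed_normal_form_dc D hD C h31 ρ ρ' π π' ε hp f h htw hiso hOK h42 h45 g
    (hG1 hg) (hG1fix hg)
  obtain ⟨n', rfl, hn'G⟩ := hrep w hwfix
  obtain ⟨b1, hb1, u, hu, e1⟩ := mem_cell_of_mem_DCgl D hD C h31 ρ ρ' π π' ε hp f h htw hiso hOK h42 h45 G1
    hG1fix hU hG1 g hg n' hn'G hgw
  have hUB : D.posUnipotent K ⊓ G1 ≤ D.borelSubgroup K ⊓ G1 := inf_le_inf_right _ le_sup_left
  exact ⟨b1, hb1, n', ⟨n'.2, hn'G⟩, u, hUB hu, e1⟩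

end TwBN

end Cfsg.Agent.Helper19.Twist
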