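import Cfsg.Agent.Helper36.SigmaF4
import Cfsg.Agent.Helper19.Twist.TwBN
import Cfsg.Agent.Helper19.Twist.OrdD4

/-!
The elements of the Weyl group of type `F₄` commuting with the permutation `ρ` of the roots which defines
the Ree groups `²F₄`: they form a dihedral group of order 16 generated by `s₀s₃` and `(s₁s₂)²`.
-/

set_option autoImplicit false
set_option maxRecDepth 100000

namespace Cfsg.Agent.Helper19.Twist

open Cfsg Cfsg.Lie Cfsg.Agent.Helper18 Cfsg.Agent.Helper19.Cox Cfsg.Agent.Helper19.Poinc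
open Cfsg.Agent.Helper36.SigmaF4 DihedralGroup

/-! ### homomorphisms from dihedral groups -/

section Lift

variable {G : Type*} [Group G] (n : ℕ) [NeZero n] (s c : G)

/-- the map `r i ↦ c^i`, `sr i ↦ s c^i` -/
def dihedralLiftFun : DihedralGroup n → G
  | r i => c ^ i.val
  | sr i => s * c ^ i.val

variable {n s c} (hs : s * s = 1) (hc : c ^ n = 1) (hsc : s * c * s = c⁻¹)

include hc in
theorem cpow_add (i j : ZMod n) : c ^ (i + j).val = c ^ i.val * c ^ j.val := by
  rw [ZMod.val_add, ← pow_add, ← pow_eq_pow_mod _ hc]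

include hc in
theorem cpow_sub (i j : ZMod n) : c ^ (j - i).val = c ^ j.val * (c ^ i.val)⁻¹ := by
  have h := cpow_add hc (j - i) i
  rw [sub_add_cancel] at h
  rw [h]; group

include hs hsc in
theorem cpow_conj (k : ℕ) : c ^ k * s = s * (c ^ k)⁻¹ := by
  have hs' : s⁻¹ = s := inv_eq_of_mul_eq_one_right hs
  have h1 : s * c ^ k * s⁻¹ = (c ^ k)⁻¹ := by
    rw [← conj_pow, hs', hsc, inv_pow]
  rw [hs'] at h1
  calc c ^ k * s = s * (s * c ^ k * s) := by
        rw [← mul_assoc, ← mul_assoc, hs, one_mul]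
    _ = s * (c ^ k)⁻¹ := by rw [h1]

include hs hc hsc in
/-- a pair `s`, `c` with `s² = cⁿ = 1` and `s c s = c⁻¹` defines a homomorphism from the dihedral group -/
theorem exists_dihedralLift : ∃ φ : DihedralGroup n →* G, (∀ i, φ (r i) = c ^ i.val) ∧ ∀ i, φ (sr i) = s * c ^ i.val := by
  refine ⟨MonoidHom.mk' (dihedralLiftFun n s c) ?_, fun _ => rfl, fun _ => rfl⟩
  rintro (i | i) (j | j)
  · rw [r_mul_r]
    exact cpow_add hc i j
  · rw [r_mul_sr]
    show s * c ^ (j - i).val = c ^ i.val * (s * c ^ j.val)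
    rw [cpow_sub hc, ← mul_assoc (c ^ i.val), cpow_conj hs hsc, mul_assoc]
    congr 1
    exact ((Commute.refl c).pow_pow _ _).inv_right.eq
  · rw [sr_mul_r]
    show s * c ^ (i + j).val = s * c ^ i.val * c ^ j.val
    rw [cpow_add hc, mul_assoc]
  · rw [sr_mul_sr]
    show c ^ (j - i).val = s * c ^ i.val * (s * c ^ j.val)
    rw [cpow_sub hc, mul_assoc s, ← mul_assoc (c ^ i.val), cpow_conj hs hsc, mul_assoc, ← mul_assoc s, hs, one_mul]
    exact ((Commute.refl c).pow_pow _ _).inv_right.eq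

end Lift

/-! ### the subsystem of type `B₂` -/

/-- the orbit under the Weyl group of the quadruple of positive roots `p₂, p₃, p₂+p₃, 2p₂+p₃` -/
def quadF4 : List (ℕ × ℕ × ℕ × ℕ) := [(27, 25, 28, 30), (34, 25, 35, 41), (20, 30, 28, 25), (28, 22, 27, 30), (27, 26, 29, 31), (13, 41, 35, 25), (35, 22, 34, 41), (34, 26, 36, 42),
  (33, 30, 37, 41), (28, 17, 20, 25), (20, 31, 29, 26), (19, 30, 27, 22), (28, 24, 29, 32), (29, 21, 27, 31), (14, 41, 37, 30), (35, 6, 13, 25),
  (13, 42, 36, 26), (12, 41, 34, 22), (35, 24, 36, 43), (36, 21, 34, 42), (37, 17, 33, 41), (33, 31, 38, 42), (19, 25, 20, 17), (29, 16, 20, 26),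
  (27, 17, 19, 22), (19, 32, 29, 24), (29, 23, 28, 32), (18, 31, 27, 21), (37, 6, 14, 30), (14, 42, 38, 31), (12, 25, 13, 6), (36, 5, 13, 26),
  (34, 6, 12, 22), (12, 43, 36, 24), (36, 23, 35, 43), (11, 42, 34, 21), (10, 41, 33, 17), (37, 24, 38, 45), (38, 16, 33, 42), (20, 22, 19, 17),
  (18, 26, 20, 16), (33, 32, 39, 43), (29, 15, 19, 24), (18, 32, 28, 23), (27, 16, 18, 21), (10, 30, 14, 6), (38, 5, 14, 31), (13, 22, 12, 6),
  (11, 26, 13, 5), (14, 43, 39, 32), (36, 4, 12, 24), (11, 43, 35, 23), (34, 5, 11, 21), (33, 6, 10, 17), (10, 45, 38, 24), (38, 23, 37, 45),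
  (9, 42, 33, 16), (34, 32, 40, 45), (20, 21, 18, 16), (37, 26, 39, 46), (39, 15, 33, 43), (18, 24, 19, 15), (28, 15, 18, 23), (14, 17, 10, 6),
  (9, 31, 14, 5), (27, 43, 44, 45), (13, 21, 11, 5), (39, 4, 14, 32), (11, 24, 12, 4), (35, 4, 11, 23), (13, 45, 40, 32), (38, 2, 10, 24),
  (9, 45, 37, 23), (33, 5, 9, 16), (35, 31, 40, 46), (40, 15, 34, 45), (10, 46, 39, 26), (39, 21, 37, 46), (8, 43, 33, 15), (19, 23, 18, 15),
  (38, 25, 39, 47), (20, 45, 44, 43), (14, 16, 9, 5), (28, 42, 44, 46), (44, 4, 27, 45), (8, 32, 14, 4), (12, 23, 11, 4), (40, 2, 13, 32),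
  (9, 24, 10, 2), (37, 2, 9, 23), (12, 46, 40, 31), (40, 16, 35, 46), (7, 45, 34, 15), (36, 30, 40, 47), (39, 1, 10, 26), (8, 46, 37, 21),
  (33, 4, 8, 15), (39, 22, 38, 47), (9, 47, 39, 25), (44, 2, 20, 43), (19, 46, 44, 42), (44, 5, 28, 46), (3, 45, 27, 4), (29, 41, 44, 47),
  (14, 15, 8, 4), (7, 32, 13, 2), (10, 23, 9, 2), (40, 1, 12, 31), (7, 46, 35, 16), (34, 2, 7, 15), (40, 17, 36, 47), (11, 47, 40, 30),
  (8, 26, 10, 1), (37, 1, 8, 21), (8, 47, 38, 22), (39, 0, 9, 25), (3, 43, 20, 2), (44, 1, 19, 42), (3, 46, 28, 5), (27, 2, 3, 4),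
  (44, 6, 29, 47), (18, 47, 44, 41), (13, 15, 7, 2), (7, 31, 12, 1), (35, 1, 7, 16), (7, 47, 36, 17), (40, 0, 11, 30), (10, 21, 8, 1),
  (38, 0, 8, 22), (8, 25, 9, 0), (20, 4, 3, 2), (3, 42, 19, 1), (28, 1, 3, 5), (3, 47, 29, 6), (44, 0, 18, 41), (12, 16, 7, 1),
  (36, 0, 7, 17), (7, 30, 11, 0), (9, 22, 8, 0), (19, 5, 3, 1), (29, 0, 3, 6), (3, 41, 18, 0), (11, 17, 7, 0), (18, 6, 3, 0)]

/-- a fundamental reflection applied to a quadruple of roots -/
def reflQuad (i : ℕ) (q : ℕ × ℕ × ℕ × ℕ) : ℕ × ℕ × ℕ × ℕ :=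
  (tact reflTabsF4 4 48 i q.1, tact reflTabsF4 4 48 i q.2.1, tact reflTabsF4 4 48 i q.2.2.1,
    tact reflTabsF4 4 48 i q.2.2.2)

theorem quadF4_closed : ∀ q ∈ quadF4, ∀ i < 4, reflQuad i q ∈ quadF4 := by decide +kernel
theorem quadF4_neg : ∀ q ∈ quadF4, q.1 < 24 → q.2.1 < 24 → q.2.2.1 < 24 ∧ q.2.2.2 < 24 := by decide +kernel

theorem quad_word_mem (word : List ℕ) (hw : ∀ i ∈ word, i < 4) :
    (actW reflTabsF4 4 48 word 27, actW reflTabsF4 4 48 word 25, actW reflTabsF4 4 48 word 28,
      actW reflTabsF4 4 48 word 30) ∈ quadF4 := by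
  induction word with
  | nil => decide +kernel
  | cons i word ih =>
    exact quadF4_closed _ (ih fun j hj => hw j (List.mem_cons_of_mem _ hj)) i (hw i List.mem_cons_self)

/-- an element making `p₂` and `p₃` negative makes `p₂+p₃` and `2p₂+p₃` negative -/
theorem quad_neg (w : certF4.M.Group)
    (h1 : phi certF4.M certF4.Mx certF4.hI certF4.hB certF4.hMx w 27 < 24)
    (h2 : phi certF4.M certF4.Mx certF4.hI certF4.hB certF4.hMx w 25 < 24) :
    phi certF4.M certF4.Mx certF4.hI certF4.hB certF4.hMx w 28 < 24 ∧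
      phi certF4.M certF4.Mx certF4.hI certF4.hB certF4.hMx w 30 < 24 := by
  obtain ⟨word, hword, rfl⟩ := exists_word certF4.M w
  rw [phi_gp] at h1 h2 ⊢
  rw [phi_gp]
  exact quadF4_neg _ (quad_word_mem word hword) h1 h2

/-! ### the fixed elements -/

theorem actW_F4_P : ∀ r < 48, actW reflTabsF4 4 48 [0, 3] (rho r) = rho (actW reflTabsF4 4 48 [0, 3] r) := by
  decide +kernel
theorem actW_F4_S : ∀ r < 48, actW reflTabsF4 4 48 [1, 2, 1, 2] (rho r) = rho (actW reflTabsF4 4 48 [1, 2, 1, 2] r) := by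
  decide +kernel

theorem isFix_F4_P : IsFix certF4 rho (gp certF4.M [0, 3]) := by
  intro r hr
  rw [phi_gp, phi_gp]
  exact actW_F4_P r hr

theorem isFix_F4_S : IsFix certF4 rho (gp certF4.M [1, 2, 1, 2]) := by
  intro r hr
  rw [phi_gp, phi_gp]
  exact actW_F4_S r hr

theorem isFix_one_F4 : IsFix certF4 rho (1 : certF4.M.Group) := by
  intro r _
  rw [map_one, Equiv.Perm.one_apply, Equiv.Perm.one_apply]

/-- the elements of the Weyl group of `F₄` commuting with `ρ` -/
def fixF4 : Subgroup certF4.M.Group where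
  carrier := {w | IsFix certF4 rho w}
  one_mem' := isFix_one_F4
  mul_mem' := fun ha hb => isFix_mul certF4 rho _ _ ha hb
  inv_mem' := fun ha => isFix_inv_elem chevF4 hF4 certF4 rho _ ha

theorem mem_fixF4 (w : certF4.M.Group) : w ∈ fixF4 ↔ IsFix certF4 rho w := Iff.rfl

theorem simple_F4 : chevF4.simple 0 = 33 ∧ chevF4.simple 1 = 27 ∧ chevF4.simple 2 = 25 ∧ chevF4.simple 3 = 24 := by
  decide +kernel
theorem hlf_F4 : hlfOf chevF4 = 24 := by decide +kernel
theorem rho_simple_F4 : rho 33 = 24 ∧ rho 24 = 33 ∧ rho 27 = 25 ∧ rho 25 = 27 := by decide +kernel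
theorem actW_steps_F4 : actW reflTabsF4 4 48 [0] 24 = 24 ∧ actW reflTabsF4 4 48 [1] 25 = 30 ∧
    actW reflTabsF4 4 48 [1, 2] 27 = 28 ∧ actW reflTabsF4 4 48 [1, 2, 1] 25 = 25 := by decide +kernel

/-- a fixed element making one of a pair of exchanged simple roots negative makes the other one negative -/
theorem isFix_neg_pair (w : certF4.M.Group) (hw : IsFix certF4 rho w) (a b : ℕ) (ha : a < 48) (hab : rho a = b)
    (h : phi certF4.M certF4.Mx certF4.hI certF4.hB certF4.hMx w a < 24) :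
    phi certF4.M certF4.Mx certF4.hI certF4.hB certF4.hMx w b < 24 := by
  have h1 := hw a ha
  rw [hab] at h1
  rw [h1]
  exact rho_negR _ (by omega) h

/-- every element commuting with `ρ` is a product of the two folded generators -/
theorem isFix_F4_mem (w : certF4.M.Group) (hw : IsFix certF4 rho w) :
    w ∈ Subgroup.closure ({gp certF4.M [0, 3], gp certF4.M [1, 2, 1, 2]} : Set certF4.M.Group) := by
  obtain ⟨s0, s1, s2, s3⟩ := simple_F4
  obtain ⟨r1, r2, r3, r4⟩ := rho_simple_F4
  obtain ⟨a1, a2, a3, a4⟩ := actW_steps_F4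
  induction hm : inv certF4 w using Nat.strong_induction_on generalizing w with
  | _ m ih =>
    by_cases hw1 : w = 1
    · rw [hw1]; exact one_mem _
    obtain ⟨i, hi, hneg⟩ := exists_neg_simple hF4 certF4 w hw1
    rw [hlf_F4] at hneg
    have hi4 : i < 4 := hi
    -- the two cases
    have hcase : (phi certF4.M certF4.Mx certF4.hI certF4.hB certF4.hMx w 33 < 24 ∧
        phi certF4.M certF4.Mx certF4.hI certF4.hB certF4.hMx w 24 < 24) ∨
        (phi certF4.M certF4.Mx certF4.hI certF4.hB certF4.hMx w 27 < 24 ∧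
        phi certF4.M certF4.Mx certF4.hI certF4.hB certF4.hMx w 25 < 24) := by
      interval_cases i
      · rw [s0] at hneg
        exact Or.inl ⟨hneg, isFix_neg_pair w hw 33 24 (by norm_num) r1 hneg⟩
      · rw [s1] at hneg
        exact Or.inr ⟨hneg, isFix_neg_pair w hw 27 25 (by norm_num) r3 hneg⟩
      · rw [s2] at hneg
        exact Or.inr ⟨isFix_neg_pair w hw 25 27 (by norm_num) r4 hneg, hneg⟩
      · rw [s3] at hneg
        exact Or.inl ⟨isFix_neg_pair w hw 24 33 (by norm_num) r2 hneg, hneg⟩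
    rcases hcase with ⟨h33, h24⟩ | ⟨h27, h25⟩
    · set w' := w * gp certF4.M [0, 3] with hw'
      have hfix' : IsFix certF4 rho w' := isFix_mul certF4 rho _ _ hw isFix_F4_P
      have hinv : inv certF4 w' + 2 = inv certF4 w := by
        apply inv_steps hF4 certF4 [0, 3] (by decide) w
        intro k hk
        have hk2 : k < 2 := hk
        rw [hlf_F4]
        interval_cases k
        · simp only [List.take_zero, gp_nil, mul_one, List.getElem_cons_zero, s0]
          exact h33
        · simp only [List.take_succ_cons, List.take_zero, List.getElem_cons_succ, List.getElem_cons_zero, s3]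
          rw [map_mul, Equiv.Perm.mul_apply, phi_gp]
          show phi certF4.M certF4.Mx certF4.hI certF4.hB certF4.hMx w (actW reflTabsF4 4 48 [0] 24) < 24
          rw [a1]
          exact h24
      have hmem' := ih (inv certF4 w') (by omega) w' hfix' rfl
      have : w = w' * (gp certF4.M [0, 3])⁻¹ := by rw [hw']; group
      rw [this]
      exact mul_mem hmem' (inv_mem (Subgroup.subset_closure (by simp)))
    · obtain ⟨h28, h30⟩ := quad_neg w h27 h25
      set w' := w * gp certF4.M [1, 2, 1, 2] with hw'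
      have hfix' : IsFix certF4 rho w' := isFix_mul certF4 rho _ _ hw isFix_F4_S
      have hinv : inv certF4 w' + 4 = inv certF4 w := by
        apply inv_steps hF4 certF4 [1, 2, 1, 2] (by decide) w
        intro k hk
        have hk4 : k < 4 := hk
        rw [hlf_F4]
        interval_cases k
        · simp only [List.take_zero, gp_nil, mul_one, List.getElem_cons_zero, s1]
          exact h27
        · simp only [List.take_succ_cons, List.take_zero, List.getElem_cons_succ, List.getElem_cons_zero, s2]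
          rw [map_mul, Equiv.Perm.mul_apply, phi_gp]
          show phi certF4.M certF4.Mx certF4.hI certF4.hB certF4.hMx w (actW reflTabsF4 4 48 [1] 25) < 24
          rw [a2]
          exact h30
        · simp only [List.take_succ_cons, List.take_zero, List.getElem_cons_succ, List.getElem_cons_zero, s1]
          rw [map_mul, Equiv.Perm.mul_apply, phi_gp]
          show phi certF4.M certF4.Mx certF4.hI certF4.hB certF4.hMx w (actW reflTabsF4 4 48 [1, 2] 27) < 24
          rw [a3]
          exact h28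
        · simp only [List.take_succ_cons, List.take_zero, List.getElem_cons_succ, List.getElem_cons_zero, s2]
          rw [map_mul, Equiv.Perm.mul_apply, phi_gp]
          show phi certF4.M certF4.Mx certF4.hI certF4.hB certF4.hMx w (actW reflTabsF4 4 48 [1, 2, 1] 25) < 24
          rw [a4]
          exact h25
      have hmem' := ih (inv certF4 w') (by omega) w' hfix' rfl
      have : w = w' * (gp certF4.M [1, 2, 1, 2])⁻¹ := by rw [hw']; group
      rw [this]
      exact mul_mem hmem' (inv_mem (Subgroup.subset_closure (by simp)))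

/-! ### the parabolic subgroup of type `B₂` -/

/-- words for the eight elements of the subgroup generated by `s₁`, `s₂` -/
def par8 : List (List ℕ) := [[], [1], [2], [1, 2], [2, 1], [1, 2, 1], [2, 1, 2], [1, 2, 1, 2]]

/-- left multiplication by `s₁`, `s₂` permutes the eight elements -/
def par8Closed : Bool :=
  [1, 2].all fun a => (List.range 8).all fun k => (List.range 8).any fun j => (List.range 48).all fun x =>
    actW reflTabsF4 4 48 (a :: par8.getD k []) x == actW reflTabsF4 4 48 (par8.getD j []) x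

/-- only the first and the last of the eight elements commute with `ρ` -/
def par8Fix : Bool :=
  (List.range 8).all fun k => (k == 0) || (k == 7) || (List.range 48).any fun x =>
    actW reflTabsF4 4 48 (par8.getD k []) (rho x) != rho (actW reflTabsF4 4 48 (par8.getD k []) x)

theorem par8Closed_ok : par8Closed = true := by decide +kernel
theorem par8Fix_ok : par8Fix = true := by decide +kernel

theorem mem_par8 (w : certF4.M.Group)
    (hJ : w ∈ Subgroup.closure ({sg certF4.M 1, sg certF4.M 2} : Set certF4.M.Group)) :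
    ∃ k < 8, w = gp certF4.M (par8.getD k []) := by
  have hstep : ∀ a, a = 1 ∨ a = 2 → ∀ y : certF4.M.Group, (∃ k < 8, y = gp certF4.M (par8.getD k [])) →
      ∃ k < 8, sg certF4.M a * y = gp certF4.M (par8.getD k []) := by
    rintro a ha y ⟨k, hk, rfl⟩
    have h1 := par8Closed_ok
    unfold par8Closed at h1
    rw [List.all_eq_true] at h1
    have h2 := h1 a (by rcases ha with rfl | rfl <;> simp)
    rw [List.all_eq_true] at h2
    have h3 := h2 k (List.mem_range.mpr hk)
    rw [List.any_eq_true] at h3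
    obtain ⟨j, hj, h4⟩ := h3
    rw [List.all_eq_true] at h4
    refine ⟨j, List.mem_range.mp hj, ?_⟩
    rw [← gp_cons]
    apply gp_eq_of_actW
    intro x hx
    exact beq_iff_eq.mp (h4 x (List.mem_range.mpr hx))
  induction hJ using Subgroup.closure_induction_left with
  | one => exact ⟨0, by norm_num, rfl⟩
  | mul_left x hx y _ ih =>
    rcases hx with rfl | rfl
    · exact hstep 1 (Or.inl rfl) y ih
    · exact hstep 2 (Or.inr rfl) y ih
  | inv_mul_cancel x hx y _ ih =>
    rcases hx with rfl | rfl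
    · rw [inv_eq_of_mul_eq_one_right (sg_mul_self certF4.M 1)]
      exact hstep 1 (Or.inl rfl) y ih
    · rw [inv_eq_of_mul_eq_one_right (sg_mul_self certF4.M 2)]
      exact hstep 2 (Or.inr rfl) y ih

/-- the elements of the parabolic subgroup of type `B₂` commuting with `ρ` -/
theorem isFix_parabolic_S (w : certF4.M.Group) (hw : IsFix certF4 rho w)
    (hJ : w ∈ Subgroup.closure ({sg certF4.M 1, sg certF4.M 2} : Set certF4.M.Group)) :
    w = 1 ∨ w = gp certF4.M [1, 2, 1, 2] := by
  obtain ⟨k, hk, rfl⟩ := mem_par8 w hJ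
  have h1 := par8Fix_ok
  unfold par8Fix at h1
  rw [List.all_eq_true] at h1
  have h2 := h1 k (List.mem_range.mpr hk)
  rw [Bool.or_eq_true, Bool.or_eq_true] at h2
  rcases h2 with (h2 | h2) | h2
  · left
    rw [beq_iff_eq.mp h2]
    rfl
  · right
    rw [beq_iff_eq.mp h2]
    rfl
  · exfalso
    rw [List.any_eq_true] at h2
    obtain ⟨x, hx, h3⟩ := h2
    have h4 := hw x (List.mem_range.mp hx)
    rw [phi_gp, phi_gp] at h4
    exact (bne_iff_ne.mp h3) h4

/-! ### the dihedral group of order 16 -/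

theorem gp_pow {n : ℕ} (M : CoxeterMatrix (Fin n)) (w : List ℕ) (k : ℕ) :
    gp M w ^ k = gp M (List.replicate k w).flatten := by
  induction k with
  | zero => simp
  | succ k ih => rw [pow_succ', ih, List.replicate_succ, List.flatten_cons, gp_append]

theorem actW_F4_rels :
    (∀ x < 48, actW reflTabsF4 4 48 [0, 3, 0, 3] x = actW reflTabsF4 4 48 [] x) ∧
    (∀ x < 48, actW reflTabsF4 4 48 [1, 2, 1, 2, 1, 2, 1, 2] x = actW reflTabsF4 4 48 [] x) ∧
    (∀ x < 48, actW reflTabsF4 4 48 (List.replicate 8 [0, 3, 1, 2, 1, 2]).flatten x = actW reflTabsF4 4 48 [] x) ∧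
    (∃ x < 48, actW reflTabsF4 4 48 (List.replicate 4 [0, 3, 1, 2, 1, 2]).flatten x ≠ actW reflTabsF4 4 48 [] x) := by
  decide +kernel

theorem fixF4_P_sq : gp certF4.M [0, 3] * gp certF4.M [0, 3] = 1 := by
  rw [← gp_append, ← gp_nil certF4.M]
  exact gp_eq_of_actW certF4 _ _ actW_F4_rels.1

theorem fixF4_S_sq : gp certF4.M [1, 2, 1, 2] * gp certF4.M [1, 2, 1, 2] = 1 := by
  rw [← gp_append, ← gp_nil certF4.M]
  exact gp_eq_of_actW certF4 _ _ actW_F4_rels.2.1

theorem fixF4_PS_pow : (gp certF4.M [0, 3] * gp certF4.M [1, 2, 1, 2]) ^ 8 = 1 := by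
  rw [← gp_append, gp_pow, ← gp_nil certF4.M]
  exact gp_eq_of_actW certF4 _ _ actW_F4_rels.2.2.1

theorem fixF4_PS_pow_four : (gp certF4.M [0, 3] * gp certF4.M [1, 2, 1, 2]) ^ 4 ≠ 1 := by
  rw [← gp_append, gp_pow, ← gp_nil certF4.M]
  intro e
  obtain ⟨x, -, hx⟩ := actW_F4_rels.2.2.2
  exact hx (actW_eq_of_gp certF4 _ _ e x)

/-- the elements of the Weyl group of `F₄` commuting with `ρ` form a dihedral group of order 16; the isomorphism
maps `s₀s₃` to `sr 0` and `(s₁s₂)²` to `sr 1` -/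
theorem exists_fixF4_equiv : ∃ e : ↥fixF4 ≃* DihedralGroup 8,
    (∀ h, e ⟨gp certF4.M [0, 3], h⟩ = sr 0) ∧ ∀ h, e ⟨gp certF4.M [1, 2, 1, 2], h⟩ = sr 1 := by
  set s := gp certF4.M [0, 3] with hsdef
  set t := gp certF4.M [1, 2, 1, 2] with htdef
  set c := s * t with hcdef
  have hs : s * s = 1 := fixF4_P_sq
  have ht : t * t = 1 := fixF4_S_sq
  have hc : c ^ 8 = 1 := fixF4_PS_pow
  have hc4 : c ^ 4 ≠ 1 := fixF4_PS_pow_four
  have hs' : s⁻¹ = s := inv_eq_of_mul_eq_one_right hs
  have ht' : t⁻¹ = t := inv_eq_of_mul_eq_one_right ht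
  have hsc : s * c * s = c⁻¹ := by
    rw [hcdef, mul_inv_rev, hs', ht', ← mul_assoc, hs, one_mul]
  have hsF : s ∈ fixF4 := isFix_F4_P
  have htF : t ∈ fixF4 := isFix_F4_S
  have hcF : c ∈ fixF4 := mul_mem hsF htF
  obtain ⟨φ, hφr, hφs⟩ := exists_dihedralLift (n := 8) hs hc hsc
  have hmem : ∀ x, φ x ∈ fixF4 := by
    rintro (i | i)
    · rw [hφr]; exact pow_mem hcF _
    · rw [hφs]; exact mul_mem hsF (pow_mem hcF _)
  have hord : orderOf c = 2 ^ (2 + 1) := orderOf_eq_prime_pow (p := 2) (by norm_num; exact hc4) (by norm_num; exact hc)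
  have hinj : Function.Injective (φ.codRestrict fixF4 hmem) := by
    rw [injective_iff_map_eq_one]
    intro x hx
    have hx' : φ x = 1 := congrArg Subtype.val hx
    rcases x with i | i
    · rw [hφr] at hx'
      have h1 : orderOf c ∣ i.val := orderOf_dvd_of_pow_eq_one hx'
      rw [hord] at h1
      have h2 : i.val < 8 := ZMod.val_lt i
      have h3 : i.val = 0 := Nat.eq_zero_of_dvd_of_lt h1 (by norm_num; exact h2)
      have h4 : i = 0 := (ZMod.val_eq_zero i).mp h3
      rw [h4]; rfl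
    · exfalso
      rw [hφs] at hx'
      have h1 : s = (c ^ i.val)⁻¹ := eq_inv_of_mul_eq_one_left hx'
      have h2 : Commute s c := by
        rw [h1]
        exact ((Commute.refl c).pow_left _).inv_left
      have h3 : c = c⁻¹ := by
        rw [← hsc, h2.eq, mul_assoc, hs, mul_one]
      have h4 : c * c = 1 := by
        nth_rewrite 2 [h3]
        exact mul_inv_cancel c
      apply hc4
      have : c ^ 4 = (c * c) * (c * c) := by
        simp only [pow_succ, pow_zero, one_mul, mul_assoc]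
      rw [this, h4, one_mul]
  have hsurj : Function.Surjective (φ.codRestrict fixF4 hmem) := by
    rintro ⟨w, hw⟩
    have h1 := isFix_F4_mem w hw
    have h2 : Subgroup.closure ({s, t} : Set certF4.M.Group) ≤ φ.range := by
      rw [Subgroup.closure_le]
      rintro x (rfl | rfl)
      · refine ⟨sr 0, ?_⟩
        rw [hφs, ZMod.val_zero, pow_zero, mul_one]
      · refine ⟨sr 1, ?_⟩
        rw [hφs]
        have : (1 : ZMod 8).val = 1 := rfl
        rw [this, pow_one, hcdef, ← mul_assoc, hs, one_mul]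
    obtain ⟨x, hx⟩ := h2 h1
    exact ⟨x, Subtype.ext hx⟩
  let e := MulEquiv.ofBijective (φ.codRestrict fixF4 hmem) ⟨hinj, hsurj⟩
  refine ⟨e.symm, ?_, ?_⟩
  · intro h
    rw [MulEquiv.symm_apply_eq]
    apply Subtype.ext
    show s = φ (sr 0)
    rw [hφs, ZMod.val_zero, pow_zero, mul_one]
  · intro h
    rw [MulEquiv.symm_apply_eq]
    apply Subtype.ext
    show t = φ (sr 1)
    rw [hφs]
    have : (1 : ZMod 8).val = 1 := rfl
    rw [this, pow_one, hcdef, ← mul_assoc, hs, one_mul]

theorem fixF4_equiv : Nonempty (↥fixF4 ≃* DihedralGroup 8) := by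
  obtain ⟨e, -⟩ := exists_fixF4_equiv
  exact ⟨e⟩

end Cfsg.Agent.Helper19.Twist
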