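import Cfsg.Agent.Helper19.Twist.TorusLemmas
import Cfsg.Agent.Helper19.Twist.ClassD4

set_option autoImplicit false
set_option maxRecDepth 100000
set_option linter.unusedSectionVars false

/-!
`|H ∩ ³D₄(q)| = (q - 1)(q³ - 1)`.
-/

namespace Cfsg.Agent.Helper19.Twist

open Cfsg Cfsg.Lie Cfsg.Agent.Helper18 Cfsg.Agent.Helper40.GraphAut Cfsg.Agent.S1081

/-- coordinates of the roots of `D₄` in the simple roots -/
def coordD4 : ℕ → ℕ → ℤ := fun u i =>
  (([[-1, -2, -1, -1], [-1, -1, -1, -1], [-1, -1, -1, 0], [-1, -1, 0, -1], [-1, -1, 0, 0], [-1, 0, 0, 0],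
    [0, -1, -1, -1], [0, -1, -1, 0], [0, -1, 0, -1], [0, -1, 0, 0], [0, 0, -1, 0], [0, 0, 0, -1], [0, 0, 0, 1],
    [0, 0, 1, 0], [0, 1, 0, 0], [0, 1, 0, 1], [0, 1, 1, 0], [0, 1, 1, 1], [1, 0, 0, 0], [1, 1, 0, 0], [1, 1, 0, 1],
    [1, 1, 1, 0], [1, 1, 1, 1], [1, 2, 1, 1]] : List (List ℤ)).getD u []).getD i 0

theorem coordOK_D4 : coordOK chevD4 coordD4 = true := by decide +kernel

section D4T

variable {K : Type*} [Field K] {q : ℕ} (f : K ≃+* K) (hf : ∀ t, f t = t ^ q)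

/-- the torus element `h_{p₂}(s) h_{p₁}(t) h_{p₃}(t^q) h_{p₄}(t^{q²})` attached to `(t, s)` -/
noncomputable def psiD4 (p : K × K) : GL chevD4.Idx K :=
  hG chevD4 K 14 p.2 * (hG chevD4 K 18 p.1 * hG chevD4 K 13 (f p.1) * hG chevD4 K 12 (f (f p.1)))

/-- the parameter set -/
def SD4 (K : Type*) [Field K] (q : ℕ) : Set (K × K) := {p | p.1 ≠ 0 ∧ (p.2 ≠ 0 ∧ p.2 ^ q = p.2)}

theorem psiD4_memH (p : K × K) (hp : p ∈ SD4 K q) : psiD4 f p ∈ chevD4.diagonalSubgroup K := by
  obtain ⟨h1, h2, -⟩ := hp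
  have hf1 : f p.1 ≠ 0 := by simpa using h1
  have hf2 : f (f p.1) ≠ 0 := by simpa using hf1
  exact mul_mem (hG_mem chevD4 memD4 14 (by decide) _ h2)
    (mul_mem (mul_mem (hG_mem chevD4 memD4 18 (by decide) _ h1) (hG_mem chevD4 memD4 13 (by decide) _ hf1))
      (hG_mem chevD4 memD4 12 (by decide) _ hf2))

include hf in
theorem psiD4_memG (p : K × K) (hp : p ∈ SD4 K q) : psiD4 f p ∈ twistedD4 K q := by
  obtain ⟨-, -, h3⟩ := hp
  exact mul_mem (h2D4_mem f hf _ (by rw [hf, h3])) (hJD4_mem f hf _)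

theorem psiD4_entry (p : K × K) (hp : p ∈ SD4 K q) (u : ℕ) (hu : u < chevD4.nroots) :
    rootEntry chevD4 ((psiD4 f p : GL chevD4.Idx K) : Matrix chevD4.Idx chevD4.Idx K) u =
      p.2 ^ pairing' chevD4 14 u * (p.1 ^ pairing' chevD4 18 u * (f p.1) ^ pairing' chevD4 13 u *
        (f (f p.1)) ^ pairing' chevD4 12 u) := by
  obtain ⟨h1, h2, -⟩ := hp
  have hf1 : f p.1 ≠ 0 := by simpa using h1
  have hf2 : f (f p.1) ≠ 0 := by simpa using hf1
  have m14 := hG_mem (K := K) chevD4 memD4 14 (by decide) _ h2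
  have m18 := hG_mem (K := K) chevD4 memD4 18 (by decide) _ h1
  have m13 := hG_mem (K := K) chevD4 memD4 13 (by decide) _ hf1
  have m12 := hG_mem (K := K) chevD4 memD4 12 (by decide) _ hf2
  unfold psiD4
  rw [rootEntry_mul chevD4 memD4 _ _ m14 (mul_mem (mul_mem m18 m13) m12),
    rootEntry_mul chevD4 memD4 _ _ (mul_mem m18 m13) m12, rootEntry_mul chevD4 memD4 _ _ m18 m13,
    rootEntry_hG chevD4 memD4 14 u (by decide) hu _ h2, rootEntry_hG chevD4 memD4 18 u (by decide) hu _ h1,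
    rootEntry_hG chevD4 memD4 13 u (by decide) hu _ hf1, rootEntry_hG chevD4 memD4 12 u (by decide) hu _ hf2]

include hf in
theorem psiD4_injOn (hq2 : 2 ≤ q) : Set.InjOn (psiD4 f) (SD4 K q) := by
  intro p hp p' hp' heq
  have E1 := psiD4_entry f p hp 18 (by decide)
  have E1' := psiD4_entry f p' hp' 18 (by decide)
  have E2 := psiD4_entry f p hp 13 (by decide)
  have E2' := psiD4_entry f p' hp' 13 (by decide)
  have E3 := psiD4_entry f p hp 14 (by decide)
  have E3' := psiD4_entry f p' hp' 14 (by decide)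
  rw [heq] at E1 E2 E3
  rw [E1'] at E1; rw [E2'] at E2; rw [E3'] at E3
  have v1 : pairing' chevD4 14 18 = -1 := by decide
  have v2 : pairing' chevD4 18 18 = 2 := by decide
  have v3 : pairing' chevD4 13 18 = 0 := by decide
  have v4 : pairing' chevD4 12 18 = 0 := by decide
  have v5 : pairing' chevD4 14 13 = -1 := by decide
  have v6 : pairing' chevD4 18 13 = 0 := by decide
  have v7 : pairing' chevD4 13 13 = 2 := by decide
  have v8 : pairing' chevD4 12 13 = 0 := by decide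
  have v9 : pairing' chevD4 14 14 = 2 := by decide
  have v10 : pairing' chevD4 18 14 = -1 := by decide
  have v11 : pairing' chevD4 13 14 = -1 := by decide
  have v12 : pairing' chevD4 12 14 = -1 := by decide
  rw [v1, v2, v3, v4] at E1
  rw [v5, v6, v7, v8] at E2
  rw [v9, v10, v11, v12] at E3
  obtain ⟨t, s⟩ := p
  obtain ⟨t', s'⟩ := p'
  obtain ⟨ht, hs, -⟩ := hp
  obtain ⟨ht', hs', -⟩ := hp'
  simp only at ht hs ht' hs' E1 E2 E3
  simp only [zpow_neg, zpow_one, zpow_zero, mul_one] at E1 E2 E3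
  have hft : f t ≠ 0 := by simpa using ht
  have hft' : f t' ≠ 0 := by simpa using ht'
  have hfft : f (f t) ≠ 0 := by simpa using hft
  have hfft' : f (f t') ≠ 0 := by simpa using hft'
  set b := t * t'⁻¹ with hb
  set a := s * s'⁻¹ with ha
  have hb0 : b ≠ 0 := mul_ne_zero ht (inv_ne_zero ht')
  have hfb : f b = f t * (f t')⁻¹ := by rw [hb, map_mul, map_inv₀]
  have hffb : f (f b) = f (f t) * (f (f t'))⁻¹ := by rw [hfb, map_mul, map_inv₀]
  have hb2 : b ^ 2 = a := by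
    rw [hb, ha]
    field_simp
    field_simp at E1
    linear_combination -E1
  have hfb2 : (f b) ^ 2 = a := by
    rw [hfb, ha]
    field_simp
    field_simp at E2
    linear_combination -E2
  have ha2 : a ^ 2 = b * f b * f (f b) := by
    rw [hffb, hfb, hb, ha]
    field_simp
    field_simp at E3
    linear_combination -E3
  have h1 : b ^ (2 * q) = b ^ 2 := by
    rw [mul_comm, pow_mul, ← hf, hfb2, hb2]
  have h2 : b ^ (q ^ 2 + q + 1) = b ^ 4 := by
    have e4 : b ^ 4 = a ^ 2 := by rw [← hb2]; ring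
    rw [e4, ha2, hf, hf, ← pow_mul, ← sq, pow_add, pow_add, pow_one]
    ring
  have hb1 : b = 1 := eq_one_of_pows hq2 b hb0 h1 h2
  have ha1 : a = 1 := by rw [← hb2, hb1, one_pow]
  have et : t = t' := by
    have := hb1
    rw [hb, mul_inv_eq_one₀ ht'] at this
    exact this
  have es : s = s' := by
    have := ha1
    rw [ha, mul_inv_eq_one₀ hs'] at this
    exact this
  rw [et, es]

end D4T

section Count

variable {K : Type*} [Field K] [Fintype K] {q : ℕ} (f : K ≃+* K) (hf : ∀ t, f t = t ^ q)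

/-- the parameters of a torus element -/
def phiD4 (g : GL chevD4.Idx K) : K × K :=
  (rootEntry chevD4 (g : Matrix chevD4.Idx chevD4.Idx K) 18, rootEntry chevD4 (g : Matrix chevD4.Idx chevD4.Idx K) 14)

include hf in
theorem entry_sigma_D4 (hK : Fintype.card K = q ^ 3) (g : GL chevD4.Idx K)
    (hg : g ∈ chevD4.diagonalSubgroup K ⊓ twistedD4 K q) (u : ℕ) (hu : u < chevD4.nroots) :
    rootEntry chevD4 (g : Matrix chevD4.Idx chevD4.Idx K) (pi1 u) =
      f (rootEntry chevD4 (g : Matrix chevD4.Idx chevD4.Idx K) u) := by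
  have hfix : sigD4 f g = g := (mem_FixD4 f g).mp (twistedD4_le_FixD4 f hf hK hg.2)
  exact rootEntry_sigma chevD4 memD4 rho1 rhoInv1 pi1 piInv1 eps1 permsOK_D4 f g hg.1 hfix u hu

include hf in
theorem phiD4_mapsTo (hK : Fintype.card K = q ^ 3) (g : GL chevD4.Idx K)
    (hg : g ∈ chevD4.diagonalSubgroup K ⊓ twistedD4 K q) : phiD4 g ∈ SD4 K q := by
  refine ⟨rootEntry_ne_zero chevD4 memD4 g hg.1 18, rootEntry_ne_zero chevD4 memD4 g hg.1 14, ?_⟩
  have h := entry_sigma_D4 f hf hK g hg 14 (by decide)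
  have e : pi1 14 = 14 := rfl
  rw [e, hf] at h
  exact h.symm

include hf in
theorem phiD4_injOn (hK : Fintype.card K = q ^ 3) :
    Set.InjOn (phiD4 (K := K)) ((chevD4.diagonalSubgroup K ⊓ twistedD4 K q : Subgroup (GL chevD4.Idx K)) :
      Set (GL chevD4.Idx K)) := by
  intro g hg g' hg' heq
  have hg1 : g ∈ chevD4.diagonalSubgroup K ⊓ twistedD4 K q := hg
  have hg1' : g' ∈ chevD4.diagonalSubgroup K ⊓ twistedD4 K q := hg'
  have e18 : rootEntry chevD4 (g : Matrix chevD4.Idx chevD4.Idx K) 18 =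
      rootEntry chevD4 (g' : Matrix chevD4.Idx chevD4.Idx K) 18 := congrArg Prod.fst heq
  have e14 : rootEntry chevD4 (g : Matrix chevD4.Idx chevD4.Idx K) 14 =
      rootEntry chevD4 (g' : Matrix chevD4.Idx chevD4.Idx K) 14 := congrArg Prod.snd heq
  have p18 : pi1 18 = 13 := rfl
  have p13 : pi1 13 = 12 := rfl
  have e13 : rootEntry chevD4 (g : Matrix chevD4.Idx chevD4.Idx K) 13 =
      rootEntry chevD4 (g' : Matrix chevD4.Idx chevD4.Idx K) 13 := by
    have h1 := entry_sigma_D4 f hf hK g hg1 18 (by decide)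
    have h2 := entry_sigma_D4 f hf hK g' hg1' 18 (by decide)
    rw [p18] at h1 h2
    rw [h1, h2, e18]
  have e12 : rootEntry chevD4 (g : Matrix chevD4.Idx chevD4.Idx K) 12 =
      rootEntry chevD4 (g' : Matrix chevD4.Idx chevD4.Idx K) 12 := by
    have h1 := entry_sigma_D4 f hf hK g hg1 13 (by decide)
    have h2 := entry_sigma_D4 f hf hK g' hg1' 13 (by decide)
    rw [p13] at h1 h2
    rw [h1, h2, e13]
  apply diag_ext chevD4 memD4 coordD4 coordOK_D4 g g' hg1.1 hg1'.1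
  intro i hi
  have hi4 : i < 4 := hi
  interval_cases i
  · exact e18
  · exact e14
  · exact e13
  · exact e12

theorem ncard_SD4 (hq : 1 ≤ q) (hK : Fintype.card K = q ^ 3) : (SD4 K q).ncard = (q ^ 3 - 1) * (q - 1) := by
  have : SD4 K q = {t : K | t ≠ 0} ×ˢ {s : K | s ≠ 0 ∧ s ^ q = s} := by
    ext p
    simp [SD4]
  rw [this, Set.ncard_prod, ncard_ne_zero, ncard_fixed hq hK, hK]

include hf in
/-- `|H ∩ ³D₄(q)| = (q³ - 1)(q - 1)` -/
theorem card_torus_D4 (hq2 : 2 ≤ q) (hK : Fintype.card K = q ^ 3) :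
    Nat.card ↥(chevD4.diagonalSubgroup K ⊓ twistedD4 K q) = (q ^ 3 - 1) * (q - 1) := by
  have hfin : (SD4 K q).Finite := Set.toFinite _
  have hfin2 : ((chevD4.diagonalSubgroup K ⊓ twistedD4 K q : Subgroup (GL chevD4.Idx K)) :
      Set (GL chevD4.Idx K)).Finite := Set.toFinite _
  have e0 : Nat.card ↥(chevD4.diagonalSubgroup K ⊓ twistedD4 K q) =
      ((chevD4.diagonalSubgroup K ⊓ twistedD4 K q : Subgroup (GL chevD4.Idx K)) :
        Set (GL chevD4.Idx K)).ncard := (Nat.card_coe_set_eq _)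
  rw [e0, ← ncard_SD4 (by omega) hK]
  apply le_antisymm
  · exact Set.ncard_le_ncard_of_injOn phiD4 (fun g hg => phiD4_mapsTo f hf hK g hg) (phiD4_injOn f hf hK) hfin
  · exact Set.ncard_le_ncard_of_injOn (psiD4 f)
      (fun p hp => ⟨psiD4_memH f p hp, psiD4_memG f hf p hp⟩) (psiD4_injOn f hf hq2) hfin2

end Count

end Cfsg.Agent.Helper19.Twist
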