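import Cfsg.Agent.Helper40.UFinal

/-!
Ordered products of root elements along an arbitrary additive grading `φ` of the roots (a variant
of helper40's `UGrade`/`UProd`/`UFinal` in which the order of the roots is the one induced by `φ`
rather than the index order): existence and uniqueness of the coefficients for a `φ`-sorted list of
positive roots closed under the commutator formula.
-/

set_option autoImplicit false

namespace Cfsg.Agent.Helper19.Twist

open Cfsg Cfsg.Lie Cfsg.Agent.Helper40.UT Cfsg.Agent.Helper40.ChevAdd Cfsg.Agent.Helper40.Comm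
  Cfsg.Agent.Helper40.UGrade Cfsg.Agent.Helper40.UProd Cfsg.Agent.Helper40.ChevTri

/-- the table check of a grading, without any condition on the order of the roots -/
def gradeOK' (D : ChevalleyDatum) (φ : ℕ → ℤ) (wit : ℕ → ℕ × ℕ) : Bool :=
  ((List.range D.nroots).all fun r =>
    decide (D.neg r < D.nroots) && decide (φ (D.neg r) = - φ r) &&
    (decide (D.IsPosRoot r) == decide (0 < φ r)) &&
    (!(decide (D.IsPosRoot r)) ||
      ((D.chain.getD r #[]).toList.all (fun e => (e.2.toList.zipIdx).all fun q =>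
          decide (q.1.1 < D.nroots) && decide (φ q.1.1 = φ e.1 + ((q.2 : ℤ) + 1) * φ r)) &&
        decide ((wit r).1 < D.nroots) && decide ((wit r).2 < D.nroots) && decide ((wit r).1 ≠ r) &&
        decide ((wit r).1 ≠ D.neg r) && decide ((wit r).2 ≠ (wit r).1) &&
        (decide (D.chainCoeff r (wit r).1 (wit r).2 = [(1, 1)]) ||
          decide (D.chainCoeff r (wit r).1 (wit r).2 = [(1, -1)])) &&
        decide (φ (wit r).2 = φ (wit r).1 + φ r))))

section
variable {F : Type*} [Field F]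

theorem gradeOK'_root {D : ChevalleyDatum} {φ : ℕ → ℤ} {wit : ℕ → ℕ × ℕ} (h : gradeOK' D φ wit = true)
    (r : ℕ) (hr : r < D.nroots) :
    D.neg r < D.nroots ∧ φ (D.neg r) = - φ r ∧ (D.IsPosRoot r ↔ 0 < φ r) := by
  unfold gradeOK' at h
  rw [List.all_eq_true] at h
  have h1 := h r (List.mem_range.mpr hr)
  simp only [Bool.and_eq_true, decide_eq_true_eq, beq_iff_eq, decide_eq_decide] at h1
  exact ⟨h1.1.1.1, h1.1.1.2, h1.1.2⟩

theorem gradeOK'_pos {D : ChevalleyDatum} {φ : ℕ → ℤ} {wit : ℕ → ℕ × ℕ} (h : gradeOK' D φ wit = true)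
    (r : ℕ) (hr : D.IsPosRoot r) :
    (∀ e ∈ (D.chain.getD r #[]).toList, ∀ q ∈ e.2.toList.zipIdx,
        q.1.1 < D.nroots ∧ φ q.1.1 = φ e.1 + ((q.2 : ℤ) + 1) * φ r) ∧
      (wit r).1 < D.nroots ∧ (wit r).2 < D.nroots ∧ (wit r).1 ≠ r ∧ (wit r).1 ≠ D.neg r ∧ (wit r).2 ≠ (wit r).1 ∧
      (D.chainCoeff r (wit r).1 (wit r).2 = [(1, 1)] ∨ D.chainCoeff r (wit r).1 (wit r).2 = [(1, -1)]) ∧
      φ (wit r).2 = φ (wit r).1 + φ r := by
  unfold gradeOK' at h
  rw [List.all_eq_true] at h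
  have h1 := h r (List.mem_range.mpr hr.1)
  rw [Bool.and_eq_true] at h1
  have h2 := h1.2
  rw [Bool.or_eq_true] at h2
  rcases h2 with h2 | h2
  · simp [hr] at h2
  · simp only [Bool.and_eq_true, Bool.or_eq_true, decide_eq_true_eq, List.all_eq_true] at h2
    obtain ⟨⟨⟨⟨⟨⟨⟨a1, a2⟩, a3⟩, a4⟩, a5⟩, a6⟩, a7⟩, a8⟩ := h2
    exact ⟨fun e he q hq => a1 e he q hq, a2, a3, a4, a5, a6, a7, a8⟩

/-- a positive root element raises the level by at least `φ r` -/
theorem x_raises' {D : ChevalleyDatum} {φ : ℕ → ℤ} {wit : ℕ → ℕ × ℕ} (h : gradeOK' D φ wit = true)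
    (r : ℕ) (hr : D.IsPosRoot r) (t : F) : RaisesBy (lvOf D φ) (φ r) (D.x F r t - 1) := by
  obtain ⟨hn, hφn, hpos⟩ := gradeOK'_root h r hr.1
  have hφ : 0 < φ r := hpos.mp hr
  obtain ⟨hch, -⟩ := gradeOK'_pos h r hr
  apply x_sub_one_raisesBy D (lvOf D φ) (φ r) r hr.1
  · intro i
    simp only [lvOf]
    omega
  · intro s hs
    have hs' : s.val = D.neg r := hs
    simp only [lvOf]
    rw [hs', hφn]
    constructor
    · intro i; omega
    · omega
  · intro e he q hq s u hse huq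
    simp only [lvOf]
    obtain ⟨k, hk⟩ : ∃ k, (q, k) ∈ e.2.toList.zipIdx := by
      obtain ⟨k, hk, hk'⟩ := List.getElem_of_mem hq
      refine ⟨k, ?_⟩
      rw [List.mem_zipIdx_iff_getElem?]
      show e.2.toList[k]? = some q
      rw [List.getElem?_eq_getElem hk, hk']
    have := (hch e he (q, k) hk).2
    simp only at this
    rw [hse, huq, this]
    have hk0 : (0 : ℤ) ≤ (k : ℤ) := by positivity
    nlinarith

/-- `x_r(c)` in the group of matrices raising the level by more than `φ r` forces `c = 0` -/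
theorem eq_zero_of_raises' {D : ChevalleyDatum} {φ : ℕ → ℤ} {wit : ℕ → ℕ × ℕ} (h : gradeOK' D φ wit = true)
    (r : ℕ) (hr : D.IsPosRoot r) (c : F) (hc : RaisesBy (lvOf D φ) (φ r + 1) (D.x F r c - 1)) : c = 0 := by
  obtain ⟨-, w1, w2, w3, w4, w5, w6, w7⟩ := gradeOK'_pos h r hr
  by_contra hne
  have hentry : (D.x F r c - 1) (Sum.inr ⟨(wit r).2, w2⟩) (Sum.inr ⟨(wit r).1, w1⟩) ≠ 0 := by
    rw [Matrix.sub_apply]
    unfold ChevalleyDatum.x
    rw [dif_pos hr.1]
    simp only [ChevalleyDatum.xMat, Matrix.of_apply]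
    have e1 : ¬ (⟨(wit r).1, w1⟩ : Fin D.nroots) = ⟨r, hr.1⟩ := fun e => w3 (congrArg Fin.val e)
    have e2 : ¬ (wit r).1 = D.negIdx.getD r 0 := w4
    have e3 : ¬ (⟨(wit r).2, w2⟩ : Fin D.nroots) = ⟨(wit r).1, w1⟩ := fun e => w5 (congrArg Fin.val e)
    have e4 : (Sum.inr ⟨(wit r).2, w2⟩ : D.Idx) ≠ Sum.inr ⟨(wit r).1, w1⟩ := fun e => e3 (Sum.inr.inj e)
    rw [if_neg e1, if_neg e2, if_neg e3, Matrix.one_apply_ne e4]
    rcases w6 with w6 | w6 <;> rw [w6] <;> simpa using hne
  have := hc _ _ hentry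
  simp only [lvOf] at this
  omega

variable {D : ChevalleyDatum}

theorem pwGL_mem_utSub' {φ : ℕ → ℤ} {wit : ℕ → ℕ × ℕ} (hg : gradeOK' D φ wit = true) (hadd : addOK D = true)
    (n : ℕ) (L : List ℕ) (hL : ∀ s ∈ L, D.IsPosRoot s ∧ (n : ℤ) + 1 ≤ φ s) (t : ℕ → F) :
    pwGL D hadd L t ∈ utSub (lvOf D φ) F n := by
  apply Subgroup.list_prod_mem
  intro g hg'
  obtain ⟨s, hs, rfl⟩ := List.mem_map.mp hg'
  rw [mem_utSub, coe_xGL]
  exact (x_raises' hg s (hL s hs).1 (t s)).mono (hL s hs).2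

/-- uniqueness of the coefficients of an ordered product over a list of positive roots with increasing weights -/
theorem pw_inj' {φ : ℕ → ℤ} {wit : ℕ → ℕ × ℕ} (hg : gradeOK' D φ wit = true) (hadd : addOK D = true)
    (L : List ℕ) (hpos : ∀ s ∈ L, D.IsPosRoot s) (hsort : L.Pairwise (fun a b => φ a < φ b))
    (t t' : ℕ → F) (h : pw D L t = pw D L t') : ∀ r ∈ L, t r = t' r := by
  induction L with
  | nil => intro r hr; cases hr
  | cons r L ih =>
    rw [List.pairwise_cons] at hsort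
    have hr : D.IsPosRoot r := hpos r List.mem_cons_self
    have hφ : 0 < φ r := (gradeOK'_root hg r hr.1).2.2.mp hr
    have hL : ∀ s ∈ L, D.IsPosRoot s ∧ ((φ r).toNat : ℤ) + 1 ≤ φ s := by
      intro s hs
      refine ⟨hpos s (List.mem_cons_of_mem _ hs), ?_⟩
      have := hsort.1 s hs
      rw [Int.toNat_of_nonneg hφ.le]
      omega
    have hG : pwGL D hadd (r :: L) t = pwGL D hadd (r :: L) t' := by
      apply Units.ext
      rw [pwGL_val, pwGL_val, h]
    rw [pwGL_cons, pwGL_cons] at hG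
    have hA := pwGL_mem_utSub' hg hadd (φ r).toNat L hL t
    have hA' := pwGL_mem_utSub' hg hadd (φ r).toNat L hL t'
    have e1 : xGL D hadd F r (t r - t' r) = pwGL D hadd L t' * (pwGL D hadd L t)⁻¹ := by
      rw [eq_mul_inv_iff_mul_eq, sub_eq_add_neg, add_comm, ← xGL_add, ← xGL_inv, mul_assoc, hG, ← mul_assoc,
        inv_mul_cancel, one_mul]
    have hmem : xGL D hadd F r (t r - t' r) ∈ utSub (lvOf D φ) F (φ r).toNat := by
      rw [e1]
      exact Subgroup.mul_mem _ hA' (Subgroup.inv_mem _ hA)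
    rw [mem_utSub, coe_xGL, Int.toNat_of_nonneg hφ.le] at hmem
    have hc := eq_zero_of_raises' hg r hr _ hmem
    have hrr : t r = t' r := sub_eq_zero.mp hc
    rw [hrr] at hG
    have hG' := mul_left_cancel hG
    have h' : pw D L t = pw D L t' := by
      rw [← pwGL_val D hadd, ← pwGL_val D hadd, hG']
    intro x hx
    rcases List.mem_cons.mp hx with rfl | hx
    · exact hrr
    · exact ih (fun s hs => hpos s (List.mem_cons_of_mem _ hs)) hsort.2 h' x hx

variable {φ : ℕ → ℤ} {wit : ℕ → ℕ × ℕ}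

theorem chainRoot_pos' (hg : gradeOK' D φ wit = true) (a b i u : ℕ) (ha : D.IsPosRoot a) (hi : 1 ≤ i)
    (h : D.chainRoot a b i = some u) : u < D.nroots ∧ φ u = φ b + (i : ℤ) * φ a := by
  obtain ⟨e, he, heb, M, hq⟩ := chainRoot_spec D a b i u h
  have := (gradeOK'_pos hg a ha).1 e he _ hq
  simp only at this
  refine ⟨this.1, ?_⟩
  rw [this.2, heb]
  have : ((i - 1 : ℕ) : ℤ) + 1 = (i : ℤ) := by omega
  rw [this]

theorem isPos_of_phi' (hg : gradeOK' D φ wit = true) (u : ℕ) (hu : u < D.nroots) (h : 0 < φ u) : D.IsPosRoot u :=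
  (gradeOK'_root hg u hu).2.2.mpr h

theorem phi_pos' (hg : gradeOK' D φ wit = true) (u : ℕ) (h : D.IsPosRoot u) : 0 < φ u :=
  (gradeOK'_root hg u h.1).2.2.mp h

/-- the roots of the commutator formula of two positive roots are positive roots of larger weight -/
theorem commTerms_pos' (hg : gradeOK' D φ wit = true) (r s : ℕ) (hr : D.IsPosRoot r) (hs : D.IsPosRoot s)
    (c : ℕ × ℤ × ℕ × ℕ) (hc : c ∈ D.commTerms r s) : D.IsPosRoot c.1 ∧ φ r < φ c.1 := by
  have hφr := phi_pos' hg r hr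
  have hφs := phi_pos' hg s hs
  rcases commTerms_mem D r s c hc with ⟨i, hi, h⟩ | ⟨i, hi, h⟩ | ⟨k, h1, h2⟩ | ⟨k, h1, h2⟩
  · obtain ⟨hu, e⟩ := chainRoot_pos' hg r s i c.1 hr hi h
    have hi' : (1 : ℤ) ≤ (i : ℤ) := by exact_mod_cast hi
    have : φ r < φ c.1 := by rw [e]; nlinarith
    exact ⟨isPos_of_phi' hg _ hu (by omega), this⟩
  · obtain ⟨hu, e⟩ := chainRoot_pos' hg s r i c.1 hs hi h
    have hi' : (1 : ℤ) ≤ (i : ℤ) := by exact_mod_cast hi
    have : φ r < φ c.1 := by rw [e]; nlinarith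
    exact ⟨isPos_of_phi' hg _ hu (by omega), this⟩
  · obtain ⟨hk, ek⟩ := chainRoot_pos' hg r s 3 k hr (by norm_num) h1
    have hkpos : D.IsPosRoot k := isPos_of_phi' hg _ hk (by rw [ek]; push_cast; nlinarith)
    obtain ⟨hu, e⟩ := chainRoot_pos' hg k s 1 c.1 hkpos le_rfl h2
    have : φ r < φ c.1 := by rw [e, ek]; push_cast; nlinarith
    exact ⟨isPos_of_phi' hg _ hu (by omega), this⟩
  · obtain ⟨hk, ek⟩ := chainRoot_pos' hg s r 3 k hs (by norm_num) h1
    have hkpos : D.IsPosRoot k := isPos_of_phi' hg _ hk (by rw [ek]; push_cast; nlinarith)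
    obtain ⟨hu, e⟩ := chainRoot_pos' hg k r 1 c.1 hkpos le_rfl h2
    have : φ r < φ c.1 := by rw [e, ek]; push_cast; nlinarith
    exact ⟨isPos_of_phi' hg _ hu (by omega), this⟩

/-- a `φ`-sorted list of positive roots containing the roots of the commutator formula of its members -/
structure ClosedList (D : ChevalleyDatum) (φ : ℕ → ℤ) (P : List ℕ) : Prop where
  sorted : P.Pairwise (fun a b => φ a < φ b)
  pos : ∀ r ∈ P, D.IsPosRoot r
  closed : ∀ r ∈ P, ∀ s ∈ P, ∀ c ∈ D.commTerms r s, c.1 ∈ P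

/-- the ordered products over a closed list are stable under left multiplication by its root elements -/
theorem good_closed (hD : D ∈ [chevG2, chevB2, chevD4, chevF4, chevE6, chevE7, chevE8])
    (hg : gradeOK' D φ wit = true) (P : List ℕ) (hP : ClosedList D φ P) : Good D F P := by
  apply good_of_suffix D (addOK_of_mem hD) φ P hP.sorted _ _ List.suffix_rfl
  intro r hr s hs hrs
  have hr' := hP.pos r hr
  have hs' := hP.pos s hs
  constructor
  · intro t u
    apply Cfsg.Agent.S1025.result D hD r s hr'.1 hs'.1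
    · rintro rfl; omega
    · rintro rfl
      have := (gradeOK'_root hg r hr'.1).2.1
      have h1 := phi_pos' hg r hr'
      have h2 := phi_pos' hg _ hs'
      omega
  · intro c hc
    exact ⟨hP.closed r hr s hs c hc, (commTerms_pos' hg r s hr' hs' c hc).2⟩

/-- the subgroup generated by the root subgroups of a list of roots -/
def listSubgroup (D : ChevalleyDatum) (F : Type*) [Field F] (P : List ℕ) : Subgroup (GL D.Idx F) :=
  Subgroup.closure {g | ∃ (r : ℕ) (t : F), r ∈ P ∧ (g : Matrix D.Idx D.Idx F) = D.x F r t}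

/-- existence of the ordered expression -/
theorem exists_pw_closed (hD : D ∈ [chevG2, chevB2, chevD4, chevF4, chevE6, chevE7, chevE8])
    (hg : gradeOK' D φ wit = true) (P : List ℕ) (hP : ClosedList D φ P)
    (g : GL D.Idx F) (hgU : g ∈ listSubgroup D F P) :
    ∃ t : ℕ → F, (g : Matrix D.Idx D.Idx F) = pw D P t := by
  have hadd := addOK_of_mem hD
  have hG : Good D F P := good_closed hD hg P hP
  unfold listSubgroup at hgU
  induction hgU using Subgroup.closure_induction_left with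
  | one => exact ⟨fun _ => 0, by
      rw [Units.val_one]
      symm
      unfold pw ChevalleyDatum.wordMat
      rw [List.map_map]
      apply List.prod_eq_one
      intro x hx
      obtain ⟨r, -, rfl⟩ := List.mem_map.mp hx
      exact Cfsg.Agent.S1024.x_zero D F r⟩
  | mul_left x hx y _ ih =>
    obtain ⟨r, u, hr, hxm⟩ := hx
    obtain ⟨t, ht⟩ := ih
    obtain ⟨t', ht'⟩ := hG r hr u t
    exact ⟨t', by rw [Units.val_mul, hxm, ht, ht']⟩
  | inv_mul_cancel x hx y _ ih =>
    obtain ⟨r, u, hr, hxm⟩ := hx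
    obtain ⟨t, ht⟩ := ih
    obtain ⟨t', ht'⟩ := hG r hr (-u) t
    have hx' : x = xGL D hadd F r u := eq_xGL D hadd hxm
    exact ⟨t', by rw [Units.val_mul, hx', xGL_inv, coe_xGL, ht, ht']⟩

/-- the ordered products lie in the subgroup -/
theorem pwGL_mem_listSubgroup (hadd : addOK D = true) (P : List ℕ) (t : ℕ → F) :
    pwGL D hadd P t ∈ listSubgroup D F P := by
  apply Subgroup.list_prod_mem
  intro g hg'
  obtain ⟨r, hr, rfl⟩ := List.mem_map.mp hg'
  apply Subgroup.subset_closure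
  exact ⟨r, t r, hr, rfl⟩

end

end Cfsg.Agent.Helper19.Twist
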