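import Cfsg.Agent.Helper19.Twist.WeylN

set_option autoImplicit false
set_option maxRecDepth 100000
set_option linter.unusedSectionVars false

/-!
`N¹ / H¹ ≅ W¹` for a subgroup `G¹` of the fixed points of the graph-field automorphism containing
representatives of the folded generators.
-/

namespace Cfsg.Agent.Helper19.Twist

open Cfsg Cfsg.Lie Cfsg.Agent.Helper18 Cfsg.Agent.Helper19.Cox Cfsg.Agent.Helper19.Poinc
open Cfsg.Agent.Helper40.GraphAut

section Assemble

variable {K : Type*} [Field K] {D D1 : ChevalleyDatum}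
  (hD : D ∈ [chevG2, chevB2, chevD4, chevF4, chevE6, chevE7, chevE8]) (C : Cert D) (C1 : Cert D1)
  (J : ℕ → List ℕ) (ρ ρ' π π' : ℕ → ℕ) (ε : ℕ → ℤ)
  (h31 : NConjHyp D K) [hn : (HN D K).Normal]
  (hp : permsOK D ρ ρ' π π' ε = true) (f : K ≃+* K)
  (h : allOK D ρ ρ' π π' ε = true) (hOK : rootInjOK D = true)
  (hpi : foldPiOK C.tabs D.rank D.nroots (hlfOf D) D1.rank J π = true)
  (hrel : foldRelOK C1.Mx C.tabs D.rank D.nroots D1.rank J = true)
  (horb : foldOrbOK D.rank D1.rank J π C.alphas = true)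
  (horth : foldOrthOK C.tabs D.rank D.nroots D1.rank J C.alphas = true)

include hD h hOK hpi horb horth in
theorem twisted_weyl (hinj : Function.Injective (iota C C1 J hrel))
    (G1 : Subgroup (GL D.Idx K)) (hG1 : G1 ≤ Fix D ρ ρ' π π' ε hp f)
    (hreps : ∀ a < D1.rank, ∃ n : ↥(D.monomialSubgroup K), (n : GL D.Idx K) ∈ G1 ∧
      theta D hD C h31 n = gp C.M (J a)) :
    ∃ φ : ↥(D.monomialSubgroup K ⊓ G1) →* C1.M.Group, Function.Surjective φ ∧
      φ.ker = (D.diagonalSubgroup K ⊓ G1).subgroupOf (D.monomialSubgroup K ⊓ G1) := by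
  set incl : ↥(D.monomialSubgroup K ⊓ G1) →* ↥(D.monomialSubgroup K) := Subgroup.inclusion inf_le_left with hincl
  set τ : ↥(D.monomialSubgroup K ⊓ G1) →* C.M.Group := (theta D hD C h31).comp incl with hτ
  have hrange : ∀ n, τ n ∈ (iota C C1 J hrel).range := by
    intro n
    apply isFix_le_range hD C C1 J π hpi hrel horb horth
    apply theta_isFix D hD C h31 ρ ρ' π π' ε hp f h hOK
    exact (mem_Fix D ρ ρ' π π' ε hp f _).mp (hG1 n.2.2)
  set τ' : ↥(D.monomialSubgroup K ⊓ G1) →* ↥(iota C C1 J hrel).range := τ.codRestrict _ hrange with hτ'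
  set e : C1.M.Group ≃* ↥(iota C C1 J hrel).range := MonoidHom.ofInjective hinj with he
  refine ⟨e.symm.toMonoidHom.comp τ', ?_, ?_⟩
  · -- surjectivity
    have hgen : ∀ a < D1.rank, gp C.M (J a) ∈ τ.range := by
      intro a ha
      obtain ⟨n, hn1, hn2⟩ := hreps a ha
      refine ⟨⟨(n : GL D.Idx K), ⟨n.2, hn1⟩⟩, ?_⟩
      rw [hτ, MonoidHom.comp_apply, ← hn2]
      congr 1
    have hall : ∀ v : C1.M.Group, iota C C1 J hrel v ∈ τ.range := by
      intro v
      obtain ⟨w, hw, rfl⟩ := exists_word C1.M v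
      induction w with
      | nil => rw [gp_nil, map_one]; exact one_mem _
      | cons a w ih =>
        have ha := hw a List.mem_cons_self
        have hw' : ∀ j ∈ w, j < D1.rank := fun j hj => hw j (List.mem_cons_of_mem _ hj)
        rw [gp_cons, map_mul, iota_sg C C1 J hrel a ha]
        exact mul_mem (hgen a ha) (ih hw')
    intro v
    obtain ⟨n, hn⟩ := hall v
    refine ⟨n, ?_⟩
    rw [MonoidHom.comp_apply]
    change e.symm (τ' n) = v
    rw [MulEquiv.symm_apply_eq]
    apply Subtype.ext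
    rw [hτ', MonoidHom.codRestrict_apply, he, MonoidHom.ofInjective_apply]
    exact hn
  · ext n
    rw [MonoidHom.mem_ker, MonoidHom.comp_apply]
    change e.symm (τ' n) = 1 ↔ _
    rw [MulEquiv.map_eq_one_iff, Subgroup.mem_subgroupOf, Subgroup.mem_inf]
    have e1 : τ' n = 1 ↔ τ n = 1 := by
      rw [hτ']
      constructor
      · intro h1
        have := congrArg Subtype.val h1
        simpa using this
      · intro h1
        apply Subtype.ext
        simpa using h1
    rw [e1, hτ, MonoidHom.comp_apply, theta_eq_one_iff D hD C h31]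
    constructor
    · intro h1
      exact ⟨h1, n.2.2⟩
    · intro h1
      exact h1.1

end Assemble

end Cfsg.Agent.Helper19.Twist
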