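import Cfsg.Agent.Helper19.Twist.FoldFix

/-!
The number of positive roots made negative by the image of an element of the folded Weyl group
under the folding homomorphism grows by the size of the class of a folded generator under right
multiplication by that generator at a positive image of the folded simple root.
-/

set_option autoImplicit false
set_option maxRecDepth 100000
set_option linter.unusedSectionVars false

namespace Cfsg.Agent.Helper19.Twist

open Cfsg Cfsg.Lie Cfsg.Agent.Helper18 Cfsg.Agent.Helper19.Cox Cfsg.Agent.Helper19.Poinc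

/-- the class map preserves the sign of a root -/
def clsSignOK (d hlf hlf1 : ℕ) (cls : ℕ → ℕ) : Bool :=
  (List.range d).all fun x => decide (x < hlf) == decide (cls x < hlf1)

/-- the class map sends the simple roots of a class of nodes to the folded simple root -/
def clsSimpleOK (n1 : ℕ) (J : ℕ → List ℕ) (cls : ℕ → ℕ) (alphas alphas1 : List ℕ) : Bool :=
  (List.range n1).all fun a => (J a).all fun j => cls (alphas.getD j 0) == alphas1.getD a 0

/-- the image of a folded generator negates the simple roots of its class -/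
def foldNegOK (T : List ℕ) (n d n1 : ℕ) (J : ℕ → List ℕ) (alphas : List ℕ) (neg : ℕ → ℕ) : Bool :=
  (List.range n1).all fun a => (J a).all fun j =>
    decide (j < n) && (actW T n d (J a) (alphas.getD j 0) == neg (alphas.getD j 0))

section Step

variable {D D1 : ChevalleyDatum} (hD : D ∈ [chevG2, chevB2, chevD4, chevF4, chevE6, chevE7, chevE8])
  (C : Cert D) (C1 : Cert D1) (J : ℕ → List ℕ) (cls : ℕ → ℕ)
  (hrel : foldRelOK C1.Mx C.tabs D.rank D.nroots D1.rank J = true)
  (heqv : foldEqvOK C.tabs D.rank D.nroots C1.tabs D1.rank D1.nroots J cls = true)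
  (horth : foldOrthOK C.tabs D.rank D.nroots D1.rank J C.alphas = true)
  (hsign : clsSignOK D.nroots (hlfOf D) (hlfOf D1) cls = true)
  (hsimp : clsSimpleOK D1.rank J cls C.alphas C1.alphas = true)
  (hneg : foldNegOK C.tabs D.rank D.nroots D1.rank J C.alphas D.neg = true)

include hneg in
theorem foldNeg_spec (a : ℕ) (ha : a < D1.rank) (j : ℕ) (hj : j ∈ J a) :
    j < D.rank ∧ actW C.tabs D.rank D.nroots (J a) (D.simple j) = D.neg (D.simple j) := by
  unfold foldNegOK at hneg
  rw [List.all_eq_true] at hneg
  have h1 := hneg a (List.mem_range.mpr ha)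
  rw [List.all_eq_true] at h1
  have h2 := h1 j hj
  rw [Bool.and_eq_true, decide_eq_true_eq, beq_iff_eq] at h2
  refine ⟨h2.1, ?_⟩
  rw [← C.halpha j h2.1]
  exact h2.2

include hD hneg horth in
/-- the decreasing step -/
theorem inv_class_down (w : C.M.Group) (a : ℕ) (ha : a < D1.rank)
    (hJneg : ∀ j ∈ J a, phi C.M C.Mx C.hI C.hB C.hMx w (D.simple j) < hlfOf D) :
    inv C (w * gp C.M (J a)) + (J a).length = inv C w := by
  have hJlt : ∀ j ∈ J a, j < D.rank := fun j hj => (foldNeg_spec C J hneg a ha j hj).1
  apply inv_steps hD C (J a) hJlt w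
  intro k hk
  unfold foldOrthOK at horth
  rw [List.all_eq_true] at horth
  have h5 := horth a (List.mem_range.mpr ha)
  rw [List.all_eq_true] at h5
  have h6 := of_decide_eq_true (h5 k (List.mem_range.mpr hk))
  have hget : (J a).getD k 0 = (J a)[k] := by
    rw [List.getD_eq_getElem?_getD, List.getElem?_eq_getElem hk]; rfl
  rw [hget, C.halpha _ (hJlt _ (List.getElem_mem hk))] at h6
  rw [map_mul, Equiv.Perm.mul_apply, phi_gp, h6]
  exact hJneg _ (List.getElem_mem hk)

include hD hrel hneg horth in
/-- the increasing step -/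
theorem inv_class_up (w : C.M.Group) (a : ℕ) (ha : a < D1.rank)
    (hJpos : ∀ j ∈ J a, hlfOf D ≤ phi C.M C.Mx C.hI C.hB C.hMx w (D.simple j)) :
    inv C (w * gp C.M (J a)) = inv C w + (J a).length := by
  have htri := triOK_of_mem D hD
  have hsq : gp C.M (J a) * gp C.M (J a) = 1 := by
    rw [← iota_sg C C1 J hrel a ha, ← map_mul, sg_mul_self, map_one]
  have h1 := inv_class_down hD C J horth hneg (w * gp C.M (J a)) a ha (by
    intro j hj
    obtain ⟨hj1, hj2⟩ := foldNeg_spec C J hneg a ha j hj
    have hp := simple_lt D (simpleOK_of_mem D hD) j hj1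
    rw [map_mul, Equiv.Perm.mul_apply, phi_gp, hj2, phi_neg D hD C w _ hp]
    exact (triOK_spec D _ htri _ (phi_lt D hD C w _ hp)).2.2.2 (hJpos j hj))
  rw [mul_assoc, hsq, mul_one] at h1
  exact h1.symm

include hD hrel heqv hneg horth hsign hsimp in
/-- the step for the folded group -/
theorem inv_iota_step (w' : C1.M.Group) (a : ℕ) (ha : a < D1.rank)
    (hpos : posB (hlfOf D1) D1.nroots
      (phi C1.M C1.Mx C1.hI C1.hB C1.hMx w' (C1.alphas.getD a 0)) = true) :
    inv C (iota C C1 J hrel (w' * sg C1.M a)) = inv C (iota C C1 J hrel w') + (J a).length := by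
  rw [map_mul, iota_sg C C1 J hrel a ha]
  apply inv_class_up hD C C1 J hrel horth hneg _ a ha
  intro j hj
  obtain ⟨hj1, -⟩ := foldNeg_spec C J hneg a ha j hj
  have hp := simple_lt D (simpleOK_of_mem D hD) j hj1
  have hlt := phi_lt D hD C (iota C C1 J hrel w') _ hp
  have h1 := cls_phi C C1 J cls hrel heqv w' (D.simple j) hp
  -- the class of the simple root
  unfold clsSimpleOK at hsimp
  rw [List.all_eq_true] at hsimp
  have h2 := hsimp a (List.mem_range.mpr ha)
  rw [List.all_eq_true] at h2
  have h3 := beq_iff_eq.mp (h2 j hj)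
  rw [C.halpha j hj1] at h3
  rw [h3] at h1
  -- the sign
  unfold posB at hpos
  simp only [Bool.and_eq_true, decide_eq_true_eq] at hpos
  unfold clsSignOK at hsign
  rw [List.all_eq_true] at hsign
  have h4 := hsign _ (List.mem_range.mpr hlt)
  rw [beq_iff_eq, decide_eq_decide, h1] at h4
  by_contra hcon
  have := h4.mp (not_le.mp hcon)
  omega

end Step

end Cfsg.Agent.Helper19.Twist
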