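import Cfsg.Agent.Helper19.Twist.ClassElts

set_option autoImplicit false
set_option maxRecDepth 100000
set_option linter.unusedSectionVars false

/-!
The class elements of `²E₆(q)`: `n_J(t)`, `h_J(t)` for `J = {p₁, p₆}`, `{p₃, p₅}` and
`n_r(t)`, `h_r(t)` for `r = p₂, p₄` and `t` in the fixed field lie in the twisted group.
-/

namespace Cfsg.Agent.Helper19.Twist

open Cfsg Cfsg.Lie Cfsg.Agent.Helper18 Cfsg.Agent.S1081

section E6

variable {K : Type*} [Field K] {q : ℕ} (f : K ≃+* K) (hf : ∀ t, f t = t ^ q)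

theorem wordGL_mem_twistedE6 (w : List (ℕ × K)) (hw : w ∈ e6Words K q) :
    wordGL chevE6 K w ∈ twistedE6 K q :=
  Subgroup.subset_closure ⟨w, hw, wordGL_val chevE6 _ (triOK_of_mem chevE6 memE6) w⟩

include hf in
theorem xPairE6_mem (rs : ℕ × ℕ) (hrs : rs ∈ [(e6p1, e6p6), (e6m1, e6m6), (e6p3, e6p5), (e6m3, e6m5)]) (t : K) :
    xGL chevE6 K rs.1 t * xGL chevE6 K rs.2 (f t) ∈ twistedE6 K q := by
  have h : wordGL chevE6 K [(rs.1, t), (rs.2, t ^ q)] ∈ twistedE6 K q :=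
    wordGL_mem_twistedE6 _ (Or.inr ⟨t, rs, hrs, rfl⟩)
  have e : wordGL chevE6 K [(rs.1, t), (rs.2, t ^ q)] = xGL chevE6 K rs.1 t * xGL chevE6 K rs.2 (f t) := by
    rw [hf]
    simp [wordGL]
  rw [← e]; exact h

include hf in
theorem xSingleE6_mem (r : ℕ) (hr : r ∈ [e6p2, e6m2, e6p4, e6m4]) (t : K) (ht : f t = t) :
    xGL chevE6 K r t ∈ twistedE6 K q := by
  have h : wordGL chevE6 K [(r, t)] ∈ twistedE6 K q :=
    wordGL_mem_twistedE6 _ (Or.inl ⟨t, by rw [← hf, ht], r, hr, rfl⟩)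
  have e : wordGL chevE6 K [(r, t)] = xGL chevE6 K r t := by simp [wordGL]
  rw [← e]; exact h

theorem orth_56_36 : orthOK chevE6 56 36 = true := by decide +kernel
theorem orth_42_37 : orthOK chevE6 42 37 = true := by decide +kernel

include hf in
/-- `n_{p₁}(t) n_{p₆}(t^q) ∈ G¹` -/
theorem nJ1E6_mem (t : K) : nG chevE6 K 56 t * nG chevE6 K 36 (f t) ∈ twistedE6 K q := by
  have h1 := xPairE6_mem f hf (e6p1, e6p6) (by simp) t
  have h2 := xPairE6_mem f hf (e6m1, e6m6) (by simp) (-t⁻¹)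
  have h3 := mul_mem (mul_mem h1 h2) h1
  have e := nprod2 (K := K) chevE6 memE6 56 36 orth_56_36 t (f t) (-t⁻¹) (f (-t⁻¹))
  have n1 : chevE6.neg 56 = 15 := rfl
  have n2 : chevE6.neg 36 = 35 := rfl
  rw [n1, n2] at e
  simp only [e6p1, e6p6, e6m1, e6m6] at h3
  rw [e] at h3
  rw [nG_eq, nG_eq, n1, n2]
  have e1 : f (-t⁻¹) = -(f t)⁻¹ := by rw [map_neg, map_inv₀]
  rw [e1] at h3
  exact h3

include hf in
/-- `n_{p₃}(t) n_{p₅}(t^q) ∈ G¹` -/
theorem nJ3E6_mem (t : K) : nG chevE6 K 42 t * nG chevE6 K 37 (f t) ∈ twistedE6 K q := by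
  have h1 := xPairE6_mem f hf (e6p3, e6p5) (by simp) t
  have h2 := xPairE6_mem f hf (e6m3, e6m5) (by simp) (-t⁻¹)
  have h3 := mul_mem (mul_mem h1 h2) h1
  have e := nprod2 (K := K) chevE6 memE6 42 37 orth_42_37 t (f t) (-t⁻¹) (f (-t⁻¹))
  have n1 : chevE6.neg 42 = 29 := rfl
  have n2 : chevE6.neg 37 = 34 := rfl
  rw [n1, n2] at e
  simp only [e6p3, e6p5, e6m3, e6m5] at h3
  rw [e] at h3
  rw [nG_eq, nG_eq, n1, n2]
  have e1 : f (-t⁻¹) = -(f t)⁻¹ := by rw [map_neg, map_inv₀]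
  rw [e1] at h3
  exact h3

include hf in
theorem hJ1E6_mem (t : K) : hG chevE6 K 56 t * hG chevE6 K 36 (f t) ∈ twistedE6 K q := by
  have h1 := nJ1E6_mem f hf t
  have h2 := nJ1E6_mem f hf (-1)
  have e1 : f (-1) = -1 := by rw [map_neg, map_one]
  rw [e1] at h2
  have h3 := mul_mem h1 h2
  rw [hprod2 (K := K) chevE6 memE6 56 36 orth_56_36] at h3
  exact h3

include hf in
theorem hJ3E6_mem (t : K) : hG chevE6 K 42 t * hG chevE6 K 37 (f t) ∈ twistedE6 K q := by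
  have h1 := nJ3E6_mem f hf t
  have h2 := nJ3E6_mem f hf (-1)
  have e1 : f (-1) = -1 := by rw [map_neg, map_one]
  rw [e1] at h2
  have h3 := mul_mem h1 h2
  rw [hprod2 (K := K) chevE6 memE6 42 37 orth_42_37] at h3
  exact h3

include hf in
theorem n2E6_mem (t : K) (ht : f t = t) : nG chevE6 K 46 t ∈ twistedE6 K q := by
  rw [nG_eq]
  have n1 : chevE6.neg 46 = 25 := rfl
  rw [n1]
  have e1 : f (-t⁻¹) = -t⁻¹ := by rw [map_neg, map_inv₀, ht]
  exact mul_mem (mul_mem (xSingleE6_mem f hf 46 (by simp [e6p2]) t ht) (xSingleE6_mem f hf 25 (by simp [e6m2]) _ e1))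
    (xSingleE6_mem f hf 46 (by simp [e6p2]) t ht)

include hf in
theorem n4E6_mem (t : K) (ht : f t = t) : nG chevE6 K 39 t ∈ twistedE6 K q := by
  rw [nG_eq]
  have n1 : chevE6.neg 39 = 32 := rfl
  rw [n1]
  have e1 : f (-t⁻¹) = -t⁻¹ := by rw [map_neg, map_inv₀, ht]
  exact mul_mem (mul_mem (xSingleE6_mem f hf 39 (by simp [e6p4]) t ht) (xSingleE6_mem f hf 32 (by simp [e6m4]) _ e1))
    (xSingleE6_mem f hf 39 (by simp [e6p4]) t ht)

include hf in
theorem h2E6_mem (t : K) (ht : f t = t) : hG chevE6 K 46 t ∈ twistedE6 K q := by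
  rw [hG_eq]
  exact mul_mem (n2E6_mem f hf t ht) (n2E6_mem f hf (-1) (by rw [map_neg, map_one]))

include hf in
theorem h4E6_mem (t : K) (ht : f t = t) : hG chevE6 K 39 t ∈ twistedE6 K q := by
  rw [hG_eq]
  exact mul_mem (n4E6_mem f hf t ht) (n4E6_mem f hf (-1) (by rw [map_neg, map_one]))

end E6

end Cfsg.Agent.Helper19.Twist
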