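import Cfsg.Agent.Helper19.Twist.UE6
import Cfsg.Agent.Helper19.Twist.UD4b
import Cfsg.Agent.Helper19.Twist.ClassE6

/-!
`U^σ ≤ ²E₆(q)`: the fixed points of every class of positive roots lie in the twisted group.
-/

set_option autoImplicit false
set_option maxRecDepth 100000
set_option linter.unusedSectionVars false

namespace Cfsg.Agent.Helper19.Twist

open Cfsg Cfsg.Lie Cfsg.Agent.Helper18 Cfsg.Agent.Helper40.GraphAut Cfsg.Agent.Helper40.UProd
  Cfsg.Agent.Helper40.UData Cfsg.Agent.S1081 Cfsg.Agent.Helper19.Cox Cfsg.Agent.Helper19.Poinc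

section Reps

variable {K : Type*} [Field K] [Fintype K] {q : ℕ} (f : K ≃+* K) (hf : ∀ t, f t = t ^ q)
  (h31 : NConjHyp chevE6 K) [hn : (HN chevE6 K).Normal]

/-- representatives in `N ∩ G¹` of the four generators of the twisted Weyl group -/
noncomputable def repGenE6 (K : Type*) [Field K] (a : ℕ) : ↥(chevE6.monomialSubgroup K) :=
  if a = 0 then nN chevE6 K 56 * nN chevE6 K 36 else if a = 1 then nN chevE6 K 42 * nN chevE6 K 37
  else if a = 2 then nN chevE6 K 39 else nN chevE6 K 46

/-- representatives in `N ∩ G¹` of the words in the generators of the twisted Weyl group -/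
noncomputable def repE6 (K : Type*) [Field K] (w : List ℕ) : ↥(chevE6.monomialSubgroup K) :=
  (w.map (repGenE6 K)).prod

include hf in
theorem repGenE6_mem (a : ℕ) : ((repGenE6 K a : ↥(chevE6.monomialSubgroup K)) : GL chevE6.Idx K) ∈ twistedE6 K q := by
  have f1 : f 1 = 1 := map_one f
  unfold repGenE6
  split_ifs with h0 h1 h2
  · rw [Subgroup.coe_mul, nN_val chevE6 memE6 56 (by decide), nN_val chevE6 memE6 36 (by decide)]
    have := nJ1E6_mem f hf (1 : K)
    rw [f1] at this
    exact this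
  · rw [Subgroup.coe_mul, nN_val chevE6 memE6 42 (by decide), nN_val chevE6 memE6 37 (by decide)]
    have := nJ3E6_mem f hf (1 : K)
    rw [f1] at this
    exact this
  · rw [nN_val chevE6 memE6 39 (by decide)]
    exact n4E6_mem f hf (1 : K) f1
  · rw [nN_val chevE6 memE6 46 (by decide)]
    exact n2E6_mem f hf (1 : K) f1

include hf in
theorem repE6_mem (w : List ℕ) : ((repE6 K w : ↥(chevE6.monomialSubgroup K)) : GL chevE6.Idx K) ∈ twistedE6 K q := by
  induction w with
  | nil => simp [repE6]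
  | cons a w ih =>
    have : repE6 K (a :: w) = repGenE6 K a * repE6 K w := by simp [repE6]
    rw [this, Subgroup.coe_mul]
    exact mul_mem (repGenE6_mem f hf a) ih

theorem theta_repGenE6 (a : ℕ) (ha : a < 4) :
    theta chevE6 memE6 certE6 h31 (repGenE6 K a) = gp certE6.M (JE6 a) := by
  have e0 := theta_nN (F := K) chevE6 memE6 certE6 h31 0 (by decide)
  have e1 := theta_nN (F := K) chevE6 memE6 certE6 h31 1 (by decide)
  have e2 := theta_nN (F := K) chevE6 memE6 certE6 h31 2 (by decide)
  have e3 := theta_nN (F := K) chevE6 memE6 certE6 h31 3 (by decide)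
  have e4 := theta_nN (F := K) chevE6 memE6 certE6 h31 4 (by decide)
  have e5 := theta_nN (F := K) chevE6 memE6 certE6 h31 5 (by decide)
  have s0 : chevE6.simple 0 = 56 := rfl
  have s1 : chevE6.simple 1 = 46 := rfl
  have s2 : chevE6.simple 2 = 42 := rfl
  have s3 : chevE6.simple 3 = 39 := rfl
  have s4 : chevE6.simple 4 = 37 := rfl
  have s5 : chevE6.simple 5 = 36 := rfl
  rw [s0] at e0; rw [s1] at e1; rw [s2] at e2; rw [s3] at e3; rw [s4] at e4; rw [s5] at e5
  interval_cases a
  · have : repGenE6 K 0 = nN chevE6 K 56 * nN chevE6 K 36 := by simp [repGenE6]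
    rw [this, map_mul, e0, e5]
    have : JE6 0 = [0, 5] := rfl
    rw [this, gp_cons, gp_singleton]
  · have : repGenE6 K 1 = nN chevE6 K 42 * nN chevE6 K 37 := by simp [repGenE6]
    rw [this, map_mul, e2, e4]
    have : JE6 1 = [2, 4] := rfl
    rw [this, gp_cons, gp_singleton]
  · have : repGenE6 K 2 = nN chevE6 K 39 := by simp [repGenE6]
    rw [this, e3]
    have : JE6 2 = [3] := rfl
    rw [this, gp_singleton]
  · have : repGenE6 K 3 = nN chevE6 K 46 := by simp [repGenE6]
    rw [this, e1]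
    have : JE6 3 = [1] := rfl
    rw [this, gp_singleton]

theorem theta_repE6 (w : List ℕ) (hw : ∀ a ∈ w, a < 4) :
    theta chevE6 memE6 certE6 h31 (repE6 K w) = gp certE6.M (w.flatMap JE6) := by
  induction w with
  | nil => simp [repE6]
  | cons a w ih =>
    have : repE6 K (a :: w) = repGenE6 K a * repE6 K w := by simp [repE6]
    rw [this, map_mul, theta_repGenE6 h31 a (hw a List.mem_cons_self),
      ih (fun b hb => hw b (List.mem_cons_of_mem _ hb)), List.flatMap_cons, gp_append]

end Reps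

section Classes

variable {K : Type*} [Field K] [Fintype K] {q : ℕ} (f : K ≃+* K) (hf : ∀ t, f t = t ^ q)
  (h31 : NConjHyp chevE6 K) [hn : (HN chevE6 K).Normal]

include hf in
theorem card_class_E6 (hq : 1 ≤ q) (hK : Fintype.card K = q ^ 2) (S : List ℕ) (hS : S ∈ ClE6) :
    Nat.card ↥(listSubgroup chevE6 K S ⊓ FixE6 f) = q ^ S.length := by
  have c1 : ClosedList chevE6 phiTE6 [S].flatten := by
    rw [flatten_singleton]; exact closedOK_spec (List.all_eq_true.mp closedOK_E6_each S hS)
  have c2 : classOK chevE6 pi0 [S] = true := List.all_eq_true.mp classOK_E6_each S hS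
  have c3 : [S].all (cycOK piInv0 eps0 2) = true := by
    rw [List.all_cons, List.all_nil, Bool.and_true]
    exact List.all_eq_true.mp cycOK_E6 S hS
  have c4 : [S].flatten.Nodup := by
    rw [flatten_singleton]
    have := nodup_E6
    exact (List.nodup_flatten.mp this).1 S hS
  have h1 := ncard_fix_listSubgroup (K := K) memE6 gradeOK'_E6 rho0 rhoInv0 pi0 piInv0 eps0 permsOK_E6 f allOK0 [S]
    c1 c2
  have h2 := ncard_TS_classes piInv0 eps0 f (ncard_fix_field f hf hq hK) hK (fun _ => frob2 f hf hK) (by omega) [S]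
    c4 c3
  rw [flatten_singleton] at h1 h2
  unfold FixE6
  rw [h1, h2]

include hf in
theorem simple1_le_E6 : listSubgroup chevE6 K [56, 36] ⊓ FixE6 f ≤ twistedE6 K q := by
  intro g hg
  have c1 : ClosedList chevE6 phiTE6 [[56, 36]].flatten := by
    rw [flatten_singleton]; exact closedOK_spec (List.all_eq_true.mp closedOK_E6_each _ (by decide))
  have c2 : classOK chevE6 pi0 [[56, 36]] = true := List.all_eq_true.mp classOK_E6_each _ (by decide)
  have h1 := fix_listSubgroup_eq (K := K) memE6 gradeOK'_E6 rho0 rhoInv0 pi0 piInv0 eps0 permsOK_E6 f allOK0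
    [[56, 36]] c1 c2
  rw [flatten_singleton] at h1
  have hg' : g ∈ ((listSubgroup chevE6 K [56, 36] ⊓ Fix chevE6 rho0 rhoInv0 pi0 piInv0 eps0 permsOK_E6 f :
      Subgroup (GL chevE6.Idx K)) : Set (GL chevE6.Idx K)) := hg
  rw [h1] at hg'
  obtain ⟨t, ht, rfl⟩ := hg'
  obtain ⟨-, ht2⟩ := mem_TS' piInv0 eps0 f _ t ht
  have e36 := ht2 36 (by decide)
  have p36 : piInv0 36 = 56 := rfl
  have s56 : eps0 56 = 1 := rfl
  rw [p36, s56, Int.cast_one, one_mul] at e36
  have : pwG chevE6 K [56, 36] t = xGL chevE6 K 56 (t 56) * xGL chevE6 K 36 (f (t 56)) := by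
    simp only [pwG, List.map_cons, List.map_nil, List.prod_cons, List.prod_nil, mul_one]
    rw [e36]
  rw [this]
  exact xPairE6_mem f hf (e6p1, e6p6) (by simp) (t 56)

include hf in
theorem simple4_le_E6 : listSubgroup chevE6 K [39] ⊓ FixE6 f ≤ twistedE6 K q := by
  intro g hg
  have c1 : ClosedList chevE6 phiTE6 [[39]].flatten := by
    rw [flatten_singleton]; exact closedOK_spec (List.all_eq_true.mp closedOK_E6_each _ (by decide))
  have c2 : classOK chevE6 pi0 [[39]] = true := List.all_eq_true.mp classOK_E6_each _ (by decide)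
  have h1 := fix_listSubgroup_eq (K := K) memE6 gradeOK'_E6 rho0 rhoInv0 pi0 piInv0 eps0 permsOK_E6 f allOK0
    [[39]] c1 c2
  rw [flatten_singleton] at h1
  have hg' : g ∈ ((listSubgroup chevE6 K [39] ⊓ Fix chevE6 rho0 rhoInv0 pi0 piInv0 eps0 permsOK_E6 f :
      Subgroup (GL chevE6.Idx K)) : Set (GL chevE6.Idx K)) := hg
  rw [h1] at hg'
  obtain ⟨t, ht, rfl⟩ := hg'
  obtain ⟨-, ht2⟩ := mem_TS' piInv0 eps0 f _ t ht
  have e39 := ht2 39 (by decide)
  have p39 : piInv0 39 = 39 := rfl
  have s39 : eps0 39 = 1 := rfl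
  rw [p39, s39, Int.cast_one, one_mul] at e39
  have : pwG chevE6 K [39] t = xGL chevE6 K 39 (t 39) := by
    simp only [pwG, List.map_cons, List.map_nil, List.prod_cons, List.prod_nil, mul_one]
  rw [this]
  exact xSingleE6_mem f hf e6p4 (by simp) (t 39) e39.symm

include hf h31 hn in
/-- conjugating a simple class by a representative of a word -/
theorem class_le_of_word_E6 (hq : 1 ≤ q) (hK : Fintype.card K = q ^ 2) (w : List ℕ) (hw : ∀ a ∈ w, a < 4)
    (J S : List ℕ) (hJ : J ∈ ClE6) (hS : S ∈ ClE6) (hlen : S.length = J.length)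
    (hmap : ∀ r ∈ J, actW certE6.tabs chevE6.rank chevE6.nroots (w.flatMap JE6) r ∈ S)
    (hJle : listSubgroup chevE6 K J ⊓ FixE6 f ≤ twistedE6 K q) :
    listSubgroup chevE6 K S ⊓ FixE6 f ≤ twistedE6 K q := by
  have hJlt : ∀ r ∈ J, r < chevE6.nroots := by
    intro r hr
    have : r ∈ ClE6.flatten := List.mem_flatten.mpr ⟨J, hJ, hr⟩
    exact ((mem_ClE6_iff r).mp this).1
  have hmem := repE6_mem f hf w
  have hfix : sigE6 f ((repE6 K w : ↥(chevE6.monomialSubgroup K)) : GL chevE6.Idx K) = _ :=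
    (mem_FixE6 f _).mp (twistedE6_le_FixE6 f hf hK hmem)
  refine class_fix_le_of_conj memE6 certE6 h31 rho0 rhoInv0 pi0 piInv0 eps0 permsOK_E6 f (twistedE6 K q)
    (repE6 K w) hmem hfix J S hJlt ?_ hJle ?_
  · intro r hr
    rw [theta_repE6 h31 w hw, phi_gp]
    exact hmap r hr
  · have a1 := card_class_E6 f hf hq hK S hS
    have a2 := card_class_E6 f hf hq hK J hJ
    unfold FixE6 at a1 a2
    rw [a1, a2, hlen]

include hf h31 hn in
theorem class_le_E6 (hq : 1 ≤ q) (hK : Fintype.card K = q ^ 2) (S : List ℕ) (hS : S ∈ ClE6) :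
    listSubgroup chevE6 K S ⊓ FixE6 f ≤ twistedE6 K q := by
  have hS' := hS
  simp only [ClE6, List.mem_cons, List.not_mem_nil, or_false] at hS'
  rcases hS' with rfl | rfl | rfl | rfl | rfl | rfl | rfl | rfl | rfl | rfl | rfl | rfl | rfl | rfl | rfl | rfl | rfl | rfl | rfl | rfl | rfl | rfl | rfl | rfl
  · exact simple1_le_E6 f hf
  · exact class_le_of_word_E6 f hf h31 hq hK [0, 1] (by decide) [56, 36] _ (by decide) hS rfl (by decide +kernel)
      (simple1_le_E6 f hf)
  · exact class_le_of_word_E6 f hf h31 hq hK [1] (by decide) [56, 36] _ (by decide) hS rfl (by decide +kernel)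
      (simple1_le_E6 f hf)
  · exact simple4_le_E6 f hf
  · exact class_le_of_word_E6 f hf h31 hq hK [2, 0, 1] (by decide) [56, 36] _ (by decide) hS rfl (by decide +kernel)
      (simple1_le_E6 f hf)
  · exact class_le_of_word_E6 f hf h31 hq hK [2, 1] (by decide) [56, 36] _ (by decide) hS rfl (by decide +kernel)
      (simple1_le_E6 f hf)
  · exact class_le_of_word_E6 f hf h31 hq hK [1] (by decide) [39] _ (by decide) hS rfl (by decide +kernel)
      (simple4_le_E6 f hf)
  · exact class_le_of_word_E6 f hf h31 hq hK [1, 2, 1] (by decide) [56, 36] _ (by decide) hS rfl (by decide +kernel)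
      (simple1_le_E6 f hf)
  · exact class_le_of_word_E6 f hf h31 hq hK [0, 1] (by decide) [39] _ (by decide) hS rfl (by decide +kernel)
      (simple4_le_E6 f hf)
  · exact class_le_of_word_E6 f hf h31 hq hK [2, 3] (by decide) [39] _ (by decide) hS rfl (by decide +kernel)
      (simple4_le_E6 f hf)
  · exact class_le_of_word_E6 f hf h31 hq hK [3] (by decide) [39] _ (by decide) hS rfl (by decide +kernel)
      (simple4_le_E6 f hf)
  · exact class_le_of_word_E6 f hf h31 hq hK [3, 2, 0, 1] (by decide) [56, 36] _ (by decide) hS rfl (by decide +kernel)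
      (simple1_le_E6 f hf)
  · exact class_le_of_word_E6 f hf h31 hq hK [3, 2, 1] (by decide) [56, 36] _ (by decide) hS rfl (by decide +kernel)
      (simple1_le_E6 f hf)
  · exact class_le_of_word_E6 f hf h31 hq hK [3, 1] (by decide) [39] _ (by decide) hS rfl (by decide +kernel)
      (simple4_le_E6 f hf)
  · exact class_le_of_word_E6 f hf h31 hq hK [3, 1, 2, 1] (by decide) [56, 36] _ (by decide) hS rfl (by decide +kernel)
      (simple1_le_E6 f hf)
  · exact class_le_of_word_E6 f hf h31 hq hK [3, 0, 1] (by decide) [39] _ (by decide) hS rfl (by decide +kernel)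
      (simple4_le_E6 f hf)
  · exact class_le_of_word_E6 f hf h31 hq hK [2, 3, 1] (by decide) [39] _ (by decide) hS rfl (by decide +kernel)
      (simple4_le_E6 f hf)
  · exact class_le_of_word_E6 f hf h31 hq hK [2, 3, 1, 2, 1] (by decide) [56, 36] _ (by decide) hS rfl (by decide +kernel)
      (simple1_le_E6 f hf)
  · exact class_le_of_word_E6 f hf h31 hq hK [2, 3, 0, 1] (by decide) [39] _ (by decide) hS rfl (by decide +kernel)
      (simple4_le_E6 f hf)
  · exact class_le_of_word_E6 f hf h31 hq hK [1, 2, 3, 1, 2, 1] (by decide) [56, 36] _ (by decide) hS rfl (by decide +kernel)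
      (simple1_le_E6 f hf)
  · exact class_le_of_word_E6 f hf h31 hq hK [0, 1, 2, 3, 1, 2, 1] (by decide) [56, 36] _ (by decide) hS rfl (by decide +kernel)
      (simple1_le_E6 f hf)
  · exact class_le_of_word_E6 f hf h31 hq hK [1, 2, 3, 0, 1] (by decide) [39] _ (by decide) hS rfl (by decide +kernel)
      (simple4_le_E6 f hf)
  · exact class_le_of_word_E6 f hf h31 hq hK [2, 1, 2, 3, 0, 1] (by decide) [39] _ (by decide) hS rfl (by decide +kernel)
      (simple4_le_E6 f hf)
  · exact class_le_of_word_E6 f hf h31 hq hK [3, 2, 1, 2, 3, 0, 1] (by decide) [39] _ (by decide) hS rfl (by decide +kernel)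
      (simple4_le_E6 f hf)

include hf h31 hn in
/-- `U^σ ≤ G¹` -/
theorem U_fix_le_E6 (hq : 1 ≤ q) (hK : Fintype.card K = q ^ 2) :
    chevE6.posUnipotent K ⊓ FixE6 f ≤ twistedE6 K q := by
  have := fix_le_of_classes (K := K) memE6 gradeOK'_E6 rho0 rhoInv0 pi0 piInv0 eps0 permsOK_E6 f allOK0
    (twistedE6 K q) (k := 2) ClE6 nodup_E6 cycOK_E6 (closedOK_spec closedOK_E6) classOK_E6 (by
      intro S hS
      refine ⟨closedOK_spec (List.all_eq_true.mp closedOK_E6_each S hS),
        List.all_eq_true.mp classOK_E6_each S hS, ?_⟩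
      exact class_le_E6 f hf h31 hq hK S hS)
  rw [listSubgroup_ClE6] at this
  exact this

include hf h31 hn in
/-- `U ∩ G¹ = U^σ` -/
theorem U_inf_twisted_E6 (hq : 1 ≤ q) (hK : Fintype.card K = q ^ 2) :
    chevE6.posUnipotent K ⊓ twistedE6 K q = chevE6.posUnipotent K ⊓ FixE6 f := by
  apply le_antisymm
  · exact inf_le_inf_left _ (twistedE6_le_FixE6 f hf hK)
  · exact le_inf inf_le_left (U_fix_le_E6 f hf h31 hq hK)

end Classes

end Cfsg.Agent.Helper19.Twist
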