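import Cfsg.Agent.Helper19.Twist.TwCount
import Cfsg.Agent.Helper19.Twist.InvCount
import Cfsg.Agent.Helper19.Twist.InvStep
import Cfsg.Agent.Helper19.Twist.UE6b
import Cfsg.Agent.Helper19.Twist.OrdD4
import Cfsg.Agent.Helper19.Poinc.WEngine
import Cfsg.Agent.Helper73.Poincare

/-!
The order of `²E₆(q)`: `|G¹| = |B ∩ G¹| · ∑_{w ∈ W(F₄)} q ^ ℓ(ι w)`, the sum being computed along
the parabolic chain of `W(F₄)` with the weights `q ^ |J_a|`.
-/

set_option autoImplicit false
set_option maxRecDepth 100000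
set_option linter.unusedSectionVars false

namespace Cfsg.Agent.Helper19.Twist

open Cfsg Cfsg.Lie Cfsg.Agent.Helper18 Cfsg.Agent.Helper40.GraphAut Cfsg.Agent.Helper40.UProd
  Cfsg.Agent.Helper40.UData Cfsg.Agent.S1081 Cfsg.Agent.Helper19.Cox Cfsg.Agent.Helper19.Poinc

/-! ### generalities on the folding homomorphism -/

section Gen

variable {D D1 : ChevalleyDatum} (C : Cert D) (C1 : Cert D1) (J : ℕ → List ℕ) (π : ℕ → ℕ)
  (hrel : foldRelOK C1.Mx C.tabs D.rank D.nroots D1.rank J = true)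

theorem iota_gp (word : List ℕ) (hw : ∀ a ∈ word, a < D1.rank) :
    iota C C1 J hrel (gp C1.M word) = gp C.M (word.flatMap J) := by
  induction word with
  | nil => simp [gp]
  | cons a word ih =>
    rw [gp_cons, map_mul, ih (fun b hb => hw b (List.mem_cons_of_mem _ hb)), List.flatMap_cons, gp_append]
    congr 1
    exact iota_sg C C1 J hrel a (hw a List.mem_cons_self)

variable (hpi : foldPiOK C.tabs D.rank D.nroots (hlfOf D) D1.rank J π = true)

include hpi in
theorem isFix_iota (w' : C1.M.Group) : IsFix C π (iota C C1 J hrel w') := by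
  obtain ⟨word, hword, rfl⟩ := exists_word C1.M w'
  induction word with
  | nil =>
    intro r _
    simp [gp]
  | cons a word ih =>
    rw [gp_cons, map_mul, iota_sg C C1 J hrel a (hword a List.mem_cons_self)]
    exact isFix_mul C π _ _ (isFix_gen C J π hpi a (hword a List.mem_cons_self))
      (ih (fun b hb => hword b (List.mem_cons_of_mem _ hb)))

theorem inv_one : inv C (1 : C.M.Group) = 0 := by
  unfold inv
  rw [Finset.card_eq_zero, Finset.filter_eq_empty_iff]
  intro r _ hr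
  rw [map_one, Equiv.Perm.one_apply] at hr
  omega

theorem wprod_pow (q : ℕ) (L : ℕ → ℕ) (r : List ℕ) :
    wprod (fun a => q ^ L a) r = q ^ (r.map L).sum := by
  unfold wprod
  induction r with
  | nil => simp
  | cons a r ih => rw [List.map_cons, List.prod_cons, ih, List.map_cons, List.sum_cons, pow_add]

end Gen

/-! ### the data for `E₆` -/

theorem negClosedOK_E6 : negClosedOK chevE6 = true := by decide +kernel
theorem clsSignOK_E6 : clsSignOK chevE6.nroots (hlfOf chevE6) (hlfOf chevF4) clsE6 = true := by decide +kernel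
theorem clsSimpleOK_E6 : clsSimpleOK chevF4.rank JE6 clsE6 certE6.alphas certF4.alphas = true := by decide +kernel
theorem foldNegOK_E6 : foldNegOK certE6.tabs chevE6.rank chevE6.nroots chevF4.rank JE6 certE6.alphas chevE6.neg = true := by
  decide +kernel
theorem commEquivOK_E6 : commEquivOK chevE6 certE6.tabs = true := by decide +kernel

/-- the weighted lengths of the coset representatives of `W(F₄)` -/
def wlensF4 : List (List ℕ) :=
  Cfsg.Agent.Helper19.Cox.F4.levels.map fun lv => lv.1.map fun r => (r.map fun a => (JE6 a).length).sum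

open Cfsg.Agent.Helper73 in
/-- the polynomial identity for the weighted Poincaré polynomial of `W(F₄)` -/
def check2E6 : Bool :=
  LPoly.isZero (LPoly.add
    (LPoly.mul (LPoly.prodL (wlensF4.map LPoly.profile)) (LPoly.mul (LPoly.pw [-1, 1] 4) (LPoly.pw [1, 1] 2)))
    (LPoly.smul (-1) (LPoly.prodL [LPoly.monoSubOne 2, LPoly.add (LPoly.mono 5) [1], LPoly.monoSubOne 6,
      LPoly.monoSubOne 8, LPoly.add (LPoly.mono 9) [1], LPoly.monoSubOne 12])))

theorem check2E6_ok : check2E6 = true := by decide +kernel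

open Cfsg.Agent.Helper73 in
theorem poincare_2E6_int (x : ℤ) :
    (wlensF4.map fun ls => (ls.map fun k => x ^ k).sum).prod * ((x - 1) ^ 4 * (x + 1) ^ 2) =
      (x ^ 2 - 1) * (x ^ 5 + 1) * (x ^ 6 - 1) * (x ^ 8 - 1) * (x ^ 9 + 1) * (x ^ 12 - 1) := by
  have h0 := LPoly.ev_of_isZero _ check2E6_ok x
  simp only [LPoly.ev_add, LPoly.ev_mul, LPoly.ev_smul, LPoly.ev_prodL, LPoly.ev_pw, List.map_map,
    List.map_cons, List.map_nil, List.prod_cons, List.prod_nil, LPoly.ev_monoSubOne, LPoly.ev_mono] at h0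
  have e1 : LPoly.ev [-1, 1] x = x - 1 := by simp only [LPoly.ev]; ring
  have e2 : LPoly.ev [1, 1] x = x + 1 := by simp only [LPoly.ev]; ring
  have e3 : LPoly.ev [1] x = 1 := by simp only [LPoly.ev]; ring
  have e4 : (List.map ((fun p => LPoly.ev p x) ∘ LPoly.profile) wlensF4)
      = wlensF4.map fun ls => (ls.map fun k => x ^ k).sum := by
    apply List.map_congr_left
    intro ls _
    simp only [Function.comp_apply, LPoly.ev_profile]
  rw [e1, e2, e3, e4] at h0
  linarith

theorem poincare_2E6 (q : ℕ) (hq : 1 ≤ q) :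
    (wlensF4.map fun ls => (ls.map fun k => q ^ k).sum).prod * ((q - 1) ^ 4 * (q + 1) ^ 2) =
      (q ^ 2 - 1) * (q ^ 5 + 1) * (q ^ 6 - 1) * (q ^ 8 - 1) * (q ^ 9 + 1) * (q ^ 12 - 1) := by
  have hi := poincare_2E6_int (q : ℤ)
  apply Nat.cast_injective (R := ℤ)
  have c : ∀ k, ((q ^ k - 1 : ℕ) : ℤ) = (q : ℤ) ^ k - 1 := by
    intro k
    rw [Nat.cast_sub (Nat.one_le_pow _ _ hq), Nat.cast_pow, Nat.cast_one]
  have c1 : ((q - 1 : ℕ) : ℤ) = (q : ℤ) - 1 := by rw [Nat.cast_sub hq, Nat.cast_one]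
  have e : (((wlensF4.map fun ls => (ls.map fun k => q ^ k).sum).prod : ℕ) : ℤ) =
      (wlensF4.map fun ls => (ls.map fun k => (q : ℤ) ^ k).sum).prod := by
    rw [Nat.cast_list_prod, List.map_map]
    have e0 : ∀ ls : List ℕ, (((ls.map fun k => q ^ k).sum : ℕ) : ℤ) = (ls.map fun k => (q : ℤ) ^ k).sum := by
      intro ls
      induction ls with
      | nil => simp
      | cons k ls ih => rw [List.map_cons, List.sum_cons, Nat.cast_add, ih, List.map_cons, List.sum_cons, Nat.cast_pow]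
    have e1 : (List.map (Nat.cast ∘ fun ls : List ℕ => (ls.map fun k => q ^ k).sum) wlensF4 : List ℤ) =
        wlensF4.map fun ls => (ls.map fun k => (q : ℤ) ^ k).sum :=
      List.map_congr_left (fun ls _ => e0 ls)
    rw [e1]
  rw [Nat.cast_mul, e]
  simp only [Nat.cast_mul, Nat.cast_pow, Nat.cast_add, Nat.cast_one, c, c1]
  exact hi

section Count

variable {K : Type*} [Field K] [Fintype K] {q : ℕ} (f : K ≃+* K) (hf : ∀ t, f t = t ^ q)
  (h31 : NConjHyp chevE6 K) [hn : (HN chevE6 K).Normal]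

/-- a representative in `N ∩ G¹` of an element of `W(F₄)` -/
noncomputable def repWE6 (K : Type*) [Field K] (w' : certF4.M.Group) : ↥(chevE6.monomialSubgroup K) :=
  repE6 K (Classical.choose (exists_word certF4.M w'))

theorem theta_repWE6 (w' : certF4.M.Group) :
    theta chevE6 memE6 certE6 h31 (repWE6 K w') = iota certE6 certF4 JE6 relOK_E6 w' := by
  obtain ⟨h1, h2⟩ := Classical.choose_spec (exists_word certF4.M w')
  unfold repWE6
  rw [theta_repE6 h31 _ h1, ← iota_gp certE6 certF4 JE6 relOK_E6 _ h1, h2]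

include hf in
theorem card_UnegW_fix_E6 (hq : 1 ≤ q) (hK : Fintype.card K = q ^ 2) (w' : certF4.M.Group) :
    Nat.card ↥(UnegW chevE6 certE6 K (iota certE6 certF4 JE6 relOK_E6 w') ⊓
      Fix chevE6 rho0 rhoInv0 pi0 piInv0 eps0 permsOK_E6 f) =
      q ^ inv certE6 (iota certE6 certF4 JE6 relOK_E6 w') :=
  card_UnegW_fix (K := K) memE6 certE6 gradeOK'_E6 rho0 rhoInv0 pi0 piInv0 eps0 permsOK_E6 f allOK0 twistOK_E6
    ClE6 nodup_E6 cycOK_E6 (closedOK_spec closedOK_E6) classOK_E6 mem_ClE6_iff commEquivOK_E6 negClosedOK_E6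
    (ncard_fix_field f hf hq hK) hK (fun _ => frob2 f hf hK) (by omega) _
    (isFix_iota certE6 certF4 JE6 pi0 relOK_E6 piOK_E6 w')

/-- the sum over `W(F₄)` -/
theorem sum_inv_E6 [Fintype certF4.M.Group] (q : ℕ) :
    ∑ w' : certF4.M.Group, q ^ inv certE6 (iota certE6 certF4 JE6 relOK_E6 w') =
      (wlensF4.map fun ls => (ls.map fun k => q ^ k).sum).prod := by
  have h := sum_eq_of_weights certF4.M certF4.Mx certF4.hIT certF4.hBT certF4.hI certF4.hB certF4.hMx
    (fun w' => q ^ inv certE6 (iota certE6 certF4 JE6 relOK_E6 w')) (fun a => q ^ (JE6 a).length)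
    (hlf := hlfOf chevF4) (alphas := certF4.alphas) (sub := certF4.sub) (by
      intro w' a ha hpos
      show q ^ inv certE6 (iota certE6 certF4 JE6 relOK_E6 (w' * sg certF4.M a)) =
        q ^ (JE6 a).length * q ^ inv certE6 (iota certE6 certF4 JE6 relOK_E6 w')
      rw [inv_iota_step memE6 certE6 certF4 JE6 clsE6 relOK_E6 eqvOK_E6 orthOK_E6 clsSignOK_E6 clsSimpleOK_E6
        foldNegOK_E6 w' a ha hpos, pow_add, mul_comm])
    certF4.levels certF4.hlen certF4.hchk certF4.hch
  rw [h, map_one, inv_one, pow_zero, mul_one]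
  unfold wlensF4
  rw [List.map_map]
  congr 1
  apply List.map_congr_left
  intro lv _
  simp only [Function.comp_apply, List.map_map]
  congr 1
  apply List.map_congr_left
  intro r _
  simp only [Function.comp_apply]
  exact wprod_pow q (fun a => (JE6 a).length) r

include hf h31 hn in
/-- `|²E₆(q)| = q³⁶ · |H¹| · ∑ q ^ ℓ` -/
theorem card_twistedE6_aux (hq : 1 ≤ q) (hK : Fintype.card K = q ^ 2) (h42 : H42 chevE6 K) (h45 : H45 chevE6 K) :
    Nat.card ↥(twistedE6 K q) = q ^ 36 * Nat.card ↥(chevE6.diagonalSubgroup K ⊓ twistedE6 K q) *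
      (wlensF4.map fun ls => (ls.map fun k => q ^ k).sum).prod := by
  haveI : Finite certF4.M.Group := certF4.hfin
  letI : Fintype certF4.M.Group := Fintype.ofFinite _
  have hsum := card_twisted_sum chevE6 memE6 certE6 h31 rho0 rhoInv0 pi0 piInv0 eps0 permsOK_E6 f allOK0
    twistOK_E6 isoOK_E6 rootInjOK_E6 (twistedE6 K q) (twistedE6_le_FixE6 f hf hK) (U_fix_le_E6 f hf h31 hq hK)
    h42 h45 (genSubgroup_le_group memE6 _) (repWE6 K)
    (fun w' => repE6_mem f hf _)
    (by
      intro w₁ w₂ e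
      simp only [theta_repWE6 h31] at e
      exact iota_injective certE6 certF4 JE6 clsE6 relOK_E6 eqvOK_E6 surjOK_E6 e)
    (by
      intro w hw
      obtain ⟨w', rfl⟩ := isFix_le_range memE6 certE6 certF4 JE6 pi0 piOK_E6 relOK_E6 orbOK_E6 orthOK_E6 w hw
      exact ⟨w', theta_repWE6 h31 w'⟩)
  have hB := card_borel_inf chevE6 memE6 rho0 rhoInv0 pi0 piInv0 eps0 permsOK_E6 f allOK0
    twistOK_E6 isoOK_E6 (twistedE6 K q) (twistedE6_le_FixE6 f hf hK) (U_fix_le_E6 f hf h31 hq hK)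
  rw [U_inf_twisted_E6 f hf h31 hq hK, card_U_fix_E6 f hf hq hK] at hB
  have hS : ∑ w' : certF4.M.Group, Nat.card ↥(UnegW chevE6 certE6 K (theta chevE6 memE6 certE6 h31 (repWE6 K w')) ⊓
      Fix chevE6 rho0 rhoInv0 pi0 piInv0 eps0 permsOK_E6 f) =
      (wlensF4.map fun ls => (ls.map fun k => q ^ k).sum).prod := by
    rw [← sum_inv_E6 q]
    apply Finset.sum_congr rfl
    intro w' _
    rw [theta_repWE6 h31 w']
    exact card_UnegW_fix_E6 f hf hq hK w'
  rw [hsum, hB, hS]

include hf h31 hn in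
/-- the order of `²E₆(q)`, given the order of `H¹` -/
theorem card_twistedE6 (hq : 1 ≤ q) (hK : Fintype.card K = q ^ 2) (h42 : H42 chevE6 K) (h45 : H45 chevE6 K)
    (hH : Nat.gcd 3 (q + 1) * Nat.card ↥(chevE6.diagonalSubgroup K ⊓ twistedE6 K q) = (q - 1) ^ 4 * (q + 1) ^ 2) :
    Nat.gcd 3 (q + 1) * Nat.card ↥(twistedE6 K q) =
      q ^ 36 * (q ^ 2 - 1) * (q ^ 5 + 1) * (q ^ 6 - 1) * (q ^ 8 - 1) * (q ^ 9 + 1) * (q ^ 12 - 1) := by
  rw [card_twistedE6_aux f hf h31 hq hK h42 h45]
  have hP := poincare_2E6 q hq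
  calc Nat.gcd 3 (q + 1) * (q ^ 36 * Nat.card ↥(chevE6.diagonalSubgroup K ⊓ twistedE6 K q) *
        (wlensF4.map fun ls => (ls.map fun k => q ^ k).sum).prod)
      = q ^ 36 * ((wlensF4.map fun ls => (ls.map fun k => q ^ k).sum).prod *
          (Nat.gcd 3 (q + 1) * Nat.card ↥(chevE6.diagonalSubgroup K ⊓ twistedE6 K q))) := by ring
    _ = q ^ 36 * ((q ^ 2 - 1) * (q ^ 5 + 1) * (q ^ 6 - 1) * (q ^ 8 - 1) * (q ^ 9 + 1) * (q ^ 12 - 1)) := by
        rw [hH, hP]
    _ = _ := by ring

end Count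

end Cfsg.Agent.Helper19.Twist
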