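import Cfsg.Agent.Helper19.Twist.TwBNPair
import Cfsg.Agent.Helper19.Twist.OrdE6

/-!
The `(B, N)`-pairs of `³D₄(q)` and `²E₆(q)`.
-/

set_option autoImplicit false
set_option maxRecDepth 100000
set_option linter.unusedSectionVars false

namespace Cfsg.Agent.Helper19.Twist

open Cfsg Cfsg.Lie Cfsg.Agent.Helper18 Cfsg.Agent.Helper40.GraphAut Cfsg.Agent.Helper40.UProd
  Cfsg.Agent.Helper40.UData Cfsg.Agent.S1081 Cfsg.Agent.Helper19.Cox Cfsg.Agent.Helper19.Poinc

/-- the images of distinct folded generators are distinct, and they negate the simple roots of their class -/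
def classGenOK (T : List ℕ) (n d hlf n1 : ℕ) (J : ℕ → List ℕ) (simple : ℕ → ℕ) : Bool :=
  ((List.range n1).all fun a => (List.range n1).all fun b => (a == b) ||
    (List.range d).any fun x => actW T n d (J a) x != actW T n d (J b) x) &&
  (List.range n1).all fun a => (J a).all fun j => decide (j < n) && decide (actW T n d (J a) (simple j) < hlf)

section Gen

variable {D D1 : ChevalleyDatum} (hD : D ∈ [chevG2, chevB2, chevD4, chevF4, chevE6, chevE7, chevE8])
  (C : Cert D) (C1 : Cert D1) (J : ℕ → List ℕ) (π : ℕ → ℕ)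
  (hrel : foldRelOK C1.Mx C.tabs D.rank D.nroots D1.rank J = true)
  (hcg : classGenOK C.tabs D.rank D.nroots (hlfOf D) D1.rank J D.simple = true)

include hcg in
theorem classGen_spec :
    (∀ a < D1.rank, ∀ b < D1.rank, gp C.M (J a) = gp C.M (J b) → a = b) ∧
    (∀ a < D1.rank, ∀ j ∈ J a, j < D.rank) ∧
    (∀ a < D1.rank, ∀ j ∈ J a, phi C.M C.Mx C.hI C.hB C.hMx (gp C.M (J a)) (D.simple j) < hlfOf D) := by
  unfold classGenOK at hcg
  rw [Bool.and_eq_true, List.all_eq_true, List.all_eq_true] at hcg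
  refine ⟨?_, ?_, ?_⟩
  · intro a ha b hb e
    have h1 := hcg.1 a (List.mem_range.mpr ha)
    rw [List.all_eq_true] at h1
    have h2 := h1 b (List.mem_range.mpr hb)
    rw [Bool.or_eq_true] at h2
    rcases h2 with h2 | h2
    · exact beq_iff_eq.mp h2
    · rw [List.any_eq_true] at h2
      obtain ⟨x, -, hx⟩ := h2
      exact absurd (actW_eq_of_gp C _ _ e x) (bne_iff_ne.mp hx)
  · intro a ha j hj
    have h1 := hcg.2 a (List.mem_range.mpr ha)
    rw [List.all_eq_true] at h1
    have h2 := h1 j hj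
    rw [Bool.and_eq_true, decide_eq_true_eq] at h2
    exact h2.1
  · intro a ha j hj
    have h1 := hcg.2 a (List.mem_range.mpr ha)
    rw [List.all_eq_true] at h1
    have h2 := h1 j hj
    rw [Bool.and_eq_true, decide_eq_true_eq, decide_eq_true_eq] at h2
    rw [phi_gp]
    exact h2.2

include hrel in
theorem gp_class_sq (a : ℕ) (ha : a < D1.rank) : gp C.M (J a) * gp C.M (J a) = 1 := by
  rw [← iota_sg C C1 J hrel a ha, ← map_mul, sg_mul_self, map_one]

variable (hpi : foldPiOK C.tabs D.rank D.nroots (hlfOf D) D1.rank J π = true)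
  (horb : foldOrbOK D.rank D1.rank J π C.alphas = true)
  (horth : foldOrthOK C.tabs D.rank D.nroots D1.rank J C.alphas = true)

include hD hrel hpi horb horth in
theorem isFix_range_word (w : C.M.Group) (hw : IsFix C π w) :
    ∃ word : List ℕ, (∀ a ∈ word, a < D1.rank) ∧ w = gp C.M (word.flatMap J) := by
  obtain ⟨w', rfl⟩ := isFix_le_range hD C C1 J π hpi hrel horb horth w hw
  obtain ⟨word, hword, rfl⟩ := exists_word C1.M w'
  exact ⟨word, hword, iota_gp C C1 J hrel word hword⟩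

end Gen

theorem nontrivial_of_card {G : Type*} [Group G] (H : Subgroup G) {m : ℕ} (hm : 2 ≤ m) (hc : Nat.card ↥H = m) :
    ∃ x ∈ H, x ≠ 1 := by
  have hfin : Finite ↥H := Nat.finite_of_card_ne_zero (by omega)
  have : Nontrivial ↥H := (Finite.one_lt_card_iff_nontrivial).mp (by omega)
  obtain ⟨⟨x, hx⟩, hne⟩ := exists_ne (1 : ↥H)
  exact ⟨x, hx, fun h => hne (Subtype.ext h)⟩

/-! ### `³D₄(q)` -/

theorem fixSubOK_D4 : fixSubOK certD4.tabs chevD4.rank chevD4.nroots chevG2.rank JD4 pi1 = true := by decide +kernel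
theorem classGenOK_D4 : classGenOK certD4.tabs chevD4.rank chevD4.nroots (hlfOf chevD4) chevG2.rank JD4 chevD4.simple = true := by
  decide +kernel
theorem classMem_D4 : ∀ a < 2, (JD4 a).map chevD4.simple ∈ ClD4 := by decide +kernel
theorem classLen_D4 : ∀ a < 2, 1 ≤ ((JD4 a).map chevD4.simple).length := by decide +kernel

theorem fixSubOK_E6 : fixSubOK certE6.tabs chevE6.rank chevE6.nroots chevF4.rank JE6 pi0 = true := by decide +kernel
theorem classGenOK_E6 : classGenOK certE6.tabs chevE6.rank chevE6.nroots (hlfOf chevE6) chevF4.rank JE6 chevE6.simple = true := by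
  decide +kernel
theorem classMem_E6 : ∀ a < 4, (JE6 a).map chevE6.simple ∈ ClE6 := by decide +kernel
theorem classLen_E6 : ∀ a < 4, 1 ≤ ((JE6 a).map chevE6.simple).length := by decide +kernel

section D4

variable {K : Type*} [Field K] [Fintype K] {q : ℕ} (f : K ≃+* K) (hf : ∀ t, f t = t ^ q)
  (h31 : NConjHyp chevD4 K) [hn : (HN chevD4 K).Normal]

theorem sList_D4 (a : ℕ) (ha : a < 2) : sList chevD4 K (JD4 a) = repGenD4 K a := by
  interval_cases a
  · have s0 : chevD4.simple 0 = 18 := rfl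
    have s2 : chevD4.simple 2 = 13 := rfl
    have s3 : chevD4.simple 3 = 12 := rfl
    have : JD4 0 = [0, 2, 3] := rfl
    simp only [sList, this, List.map_cons, List.map_nil, List.prod_cons, List.prod_nil, mul_one, s0, s2, s3,
      repGenD4, if_pos, mul_assoc]
  · have s1 : chevD4.simple 1 = 14 := rfl
    have : JD4 1 = [1] := rfl
    simp [sList, this, s1, repGenD4]

include hf h31 hn in
theorem bnPair_D4 (hq : 2 ≤ q) (hK : Fintype.card K = q ^ 3) (h42 : H42 chevD4 K) (h45 : H45 chevD4 K)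
    (h25 : CommHyp chevD4 K) :
    ∃ P : Cfsg.BNPair ↥(twistedD4 K q), P.B = (chevD4.borelSubgroup K ⊓ twistedD4 K q).subgroupOf (twistedD4 K q) ∧
      P.N = (chevD4.monomialSubgroup K ⊓ twistedD4 K q).subgroupOf (twistedD4 K q) := by
  have hq1 : 1 ≤ q := by omega
  obtain ⟨hdist, hJ, hnegJ⟩ := classGen_spec (D1 := chevG2) certD4 JD4 classGenOK_D4
  refine twisted_bnPair chevD4 memD4 certD4 h31 rho1 rhoInv1 pi1 piInv1 eps1 permsOK_D4 f allOK1
    twistOK_D4 isoOK_D4 rootInjOK_D4 h42 h45 (twistedD4 K q) (twistedD4_le_FixD4 f hf hK)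
    (U_fix_le_D4 f hf h31 hq1 hK) (genSubgroup_le_group memD4 _) chevG2.rank JD4 hJ ?_ fixSubOK_D4
    (isFix_range_word memD4 certD4 certG2 JD4 pi1 relOK_D4 piOK_D4 orbOK_D4 orthOK_D4)
    (gp_class_sq certD4 certG2 JD4 relOK_D4) hdist hnegJ ?_ h25
  · intro a ha
    rw [sList_D4 a ha]
    exact repGenD4_mem f hf a
  · intro a ha
    have hS := classMem_D4 a ha
    have hc := card_class_D4 f hf hq1 hK _ hS
    have hlen := classLen_D4 a ha
    obtain ⟨x, hx, hne⟩ := nontrivial_of_card _ (m := q ^ ((JD4 a).map chevD4.simple).length)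
      (le_trans hq (Nat.le_self_pow (by omega) q)) hc
    exact ⟨x, ⟨hx.1, class_le_D4 f hf h31 hq1 hK _ hS hx⟩, hne⟩

end D4

section E6

variable {K : Type*} [Field K] [Fintype K] {q : ℕ} (f : K ≃+* K) (hf : ∀ t, f t = t ^ q)
  (h31 : NConjHyp chevE6 K) [hn : (HN chevE6 K).Normal]

theorem sList_E6 (a : ℕ) (ha : a < 4) : sList chevE6 K (JE6 a) = repGenE6 K a := by
  have s0 : chevE6.simple 0 = 56 := rfl
  have s1 : chevE6.simple 1 = 46 := rfl
  have s2 : chevE6.simple 2 = 42 := rfl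
  have s3 : chevE6.simple 3 = 39 := rfl
  have s4 : chevE6.simple 4 = 37 := rfl
  have s5 : chevE6.simple 5 = 36 := rfl
  interval_cases a
  · have : JE6 0 = [0, 5] := rfl
    simp [sList, this, s0, s5, repGenE6]
  · have : JE6 1 = [2, 4] := rfl
    simp [sList, this, s2, s4, repGenE6]
  · have : JE6 2 = [3] := rfl
    simp [sList, this, s3, repGenE6]
  · have : JE6 3 = [1] := rfl
    simp [sList, this, s1, repGenE6]

include hf h31 hn in
theorem bnPair_E6 (hq : 2 ≤ q) (hK : Fintype.card K = q ^ 2) (h42 : H42 chevE6 K) (h45 : H45 chevE6 K)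
    (h25 : CommHyp chevE6 K) :
    ∃ P : Cfsg.BNPair ↥(twistedE6 K q), P.B = (chevE6.borelSubgroup K ⊓ twistedE6 K q).subgroupOf (twistedE6 K q) ∧
      P.N = (chevE6.monomialSubgroup K ⊓ twistedE6 K q).subgroupOf (twistedE6 K q) := by
  have hq1 : 1 ≤ q := by omega
  obtain ⟨hdist, hJ, hnegJ⟩ := classGen_spec (D1 := chevF4) certE6 JE6 classGenOK_E6
  refine twisted_bnPair chevE6 memE6 certE6 h31 rho0 rhoInv0 pi0 piInv0 eps0 permsOK_E6 f allOK0
    twistOK_E6 isoOK_E6 rootInjOK_E6 h42 h45 (twistedE6 K q) (twistedE6_le_FixE6 f hf hK)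
    (U_fix_le_E6 f hf h31 hq1 hK) (genSubgroup_le_group memE6 _) chevF4.rank JE6 hJ ?_ fixSubOK_E6
    (isFix_range_word memE6 certE6 certF4 JE6 pi0 relOK_E6 piOK_E6 orbOK_E6 orthOK_E6)
    (gp_class_sq certE6 certF4 JE6 relOK_E6) hdist hnegJ ?_ h25
  · intro a ha
    rw [sList_E6 a ha]
    exact repGenE6_mem f hf a
  · intro a ha
    have hS := classMem_E6 a ha
    have hc := card_class_E6 f hf hq1 hK _ hS
    have hlen := classLen_E6 a ha
    obtain ⟨x, hx, hne⟩ := nontrivial_of_card _ (m := q ^ ((JE6 a).map chevE6.simple).length)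
      (le_trans hq (Nat.le_self_pow (by omega) q)) hc
    exact ⟨x, ⟨hx.1, class_le_E6 f hf h31 hq1 hK _ hS hx⟩, hne⟩

end E6

end Cfsg.Agent.Helper19.Twist
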