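import Cfsg.Agent.Helper36.SigmaFix
import Cfsg.Agent.S1037

/-!
Factorisation of the Bruhat cell subgroups `U_n⁻` of a Chevalley group along a product `n · s` of elements of
`N` whose lengths add, `U_{ns}⁻ = U_s⁻ · s⁻¹ U_n⁻ s` with uniqueness, and its consequence for the fixed points
of an automorphism `σ` in the sense of `Cfsg.Agent.Helper36.SigmaChev.Spec` fixing `n` and `s`:
the fixed points of `U_{ns}⁻` are the products of the fixed points of the two factors.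
-/

set_option autoImplicit false
set_option maxRecDepth 100000

namespace Cfsg.Agent.Helper19.Twist

open Cfsg Cfsg.Lie Cfsg.Agent.Helper18 Cfsg.Agent.Helper36 Cfsg.Agent.Helper36.FieldFix
open Cfsg.Agent.Helper36.SigmaChev Cfsg.Agent.Helper36.SigmaBruhat

section Cell

variable {K : Type*} [Field K] (D : ChevalleyDatum)
  (hD : D ∈ [chevG2, chevB2, chevD4, chevF4, chevE6, chevE7, chevE8])

/-- conjugation by `n` maps `U_n⁻` into `V` -/
theorem conj_Um_le_neg (n : GL D.Idx K) : ∀ u ∈ Um D K n, n * u * n⁻¹ ∈ D.negUnipotent K := by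
  intro u hu
  unfold Um at hu
  induction hu using Subgroup.closure_induction with
  | mem x hx =>
    obtain ⟨r, t, -, hle, hx⟩ := hx
    apply hle
    refine ⟨x, Subgroup.subset_closure ⟨t, hx⟩, ?_⟩
    simp [MulAut.conj_apply]
  | one => simp
  | mul a b _ _ ha hb =>
    have : n * (a * b) * n⁻¹ = (n * a * n⁻¹) * (n * b * n⁻¹) := by group
    rw [this]; exact Subgroup.mul_mem _ ha hb
  | inv a _ ha =>
    have : n * a⁻¹ * n⁻¹ = (n * a * n⁻¹)⁻¹ := by group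
    rw [this]; exact Subgroup.inv_mem _ ha

include hD in
/-- uniqueness of the factorisation `a · s⁻¹ v s` with `a ∈ U_s⁻`, `v ∈ U` -/
theorem cell_unique (s a a' v v' : GL D.Idx K) (ha : a ∈ Um D K s) (ha' : a' ∈ Um D K s)
    (hv : v ∈ D.posUnipotent K) (hv' : v' ∈ D.posUnipotent K)
    (e : a * (s⁻¹ * v * s) = a' * (s⁻¹ * v' * s)) : a = a' ∧ v = v' := by
  have hUV : D.posUnipotent K ⊓ D.negUnipotent K = ⊥ := by
    rw [eq_bot_iff, ← (Cfsg.Agent.S1037.result (F := K) D hD).1]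
    exact inf_le_inf_right _ le_sup_left
  have e1 : s * (a'⁻¹ * a) * s⁻¹ = v' * v⁻¹ := by
    have : a'⁻¹ * a = a'⁻¹ * (a * (s⁻¹ * v * s)) * (s⁻¹ * v * s)⁻¹ := by group
    rw [this, e]; group
  have h1 : s * (a'⁻¹ * a) * s⁻¹ ∈ D.negUnipotent K :=
    conj_Um_le_neg D s _ (Subgroup.mul_mem _ (Subgroup.inv_mem _ ha') ha)
  have h2 : v' * v⁻¹ ∈ D.posUnipotent K ⊓ D.negUnipotent K :=
    ⟨Subgroup.mul_mem _ hv' (Subgroup.inv_mem _ hv), by rw [← e1]; exact h1⟩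
  rw [hUV, Subgroup.mem_bot] at h2
  have hvv : v = v' := by
    have : v = (v' * v⁻¹)⁻¹ * v' := by group
    rw [this, h2]; group
  subst hvv
  exact ⟨mul_right_cancel e, rfl⟩

variable [Fintype K]

include hD in
/-- existence of the factorisation, by counting -/
theorem cell_exists (n s : GL D.Idx K) (hsub1 : Um D K s ≤ Um D K (n * s))
    (hsub2 : ∀ v ∈ Um D K n, s⁻¹ * v * s ∈ Um D K (n * s))
    (hcard : Nat.card ↥(Um D K (n * s)) = Nat.card ↥(Um D K s) * Nat.card ↥(Um D K n)) :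
    ∀ u ∈ Um D K (n * s), ∃ a ∈ Um D K s, ∃ v ∈ Um D K n, u = a * (s⁻¹ * v * s) := by
  let f : ↥(Um D K s) × ↥(Um D K n) → ↥(Um D K (n * s)) := fun p =>
    ⟨(p.1 : GL D.Idx K) * (s⁻¹ * (p.2 : GL D.Idx K) * s),
      Subgroup.mul_mem _ (hsub1 p.1.2) (hsub2 _ p.2.2)⟩
  have hinj : Function.Injective f := by
    rintro ⟨⟨a, ha⟩, ⟨v, hv⟩⟩ ⟨⟨a', ha'⟩, ⟨v', hv'⟩⟩ e
    have e1 : a * (s⁻¹ * v * s) = a' * (s⁻¹ * v' * s) := congrArg Subtype.val e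
    obtain ⟨h1, h2⟩ := cell_unique D hD s a a' v v' ha ha' (bruhatU_le_pos D n hv) (bruhatU_le_pos D n hv') e1
    subst h1
    subst h2
    rfl
  have hbij : Function.Bijective f := by
    apply Function.Injective.bijective_of_nat_card_le hinj
    rw [Nat.card_prod, hcard]
  intro u hu
  obtain ⟨⟨⟨a, ha⟩, ⟨v, hv⟩⟩, e⟩ := hbij.2 ⟨u, hu⟩
  exact ⟨a, ha, v, hv, (congrArg Subtype.val e).symm⟩

end Cell

section SpecCell

variable {K : Type*} [Field K] (D : ChevalleyDatum)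
  (hD : D ∈ [chevG2, chevB2, chevD4, chevF4, chevE6, chevE7, chevE8])

/-- the fixed points of `σ`, as a subgroup of the general linear group -/
def specFix (σ : ↥(D.group K) ≃* ↥(D.group K)) : Subgroup (GL D.Idx K) where
  carrier := {g | ∃ hg : g ∈ D.group K, σ ⟨g, hg⟩ = ⟨g, hg⟩}
  one_mem' := ⟨one_mem _, map_one σ⟩
  mul_mem' := by
    rintro a b ⟨ha, ha'⟩ ⟨hb, hb'⟩
    refine ⟨mul_mem ha hb, ?_⟩
    have : (⟨a * b, mul_mem ha hb⟩ : ↥(D.group K)) = ⟨a, ha⟩ * ⟨b, hb⟩ := rfl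
    rw [this, map_mul, ha', hb']
  inv_mem' := by
    rintro a ⟨ha, ha'⟩
    refine ⟨inv_mem ha, ?_⟩
    have : (⟨a⁻¹, inv_mem ha⟩ : ↥(D.group K)) = (⟨a, ha⟩ : ↥(D.group K))⁻¹ := rfl
    rw [this, map_inv, ha']

variable {D}

theorem mem_specFix {σ : ↥(D.group K) ≃* ↥(D.group K)} (g : ↥(D.group K)) :
    (g : GL D.Idx K) ∈ specFix D σ ↔ σ g = g :=
  ⟨fun ⟨_, h⟩ => h, fun h => ⟨g.2, h⟩⟩

variable {σ : ↥(D.group K) ≃* ↥(D.group K)} {π : ℕ → ℕ} {c : ℕ → K →+* K}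

include hD in
/-- the factors of a `σ`-fixed element of `U_{ns}⁻ = U_s⁻ · s⁻¹ U_n⁻ s` are `σ`-fixed -/
theorem spec_cell_fixed (hσ : Spec D σ π c) (n s a v : ↥(D.group K)) (hs : σ s = s) (hn : σ n = n)
    (ha : (a : GL D.Idx K) ∈ Um D K (s : GL D.Idx K)) (hv : (v : GL D.Idx K) ∈ Um D K (n : GL D.Idx K))
    (hfix : σ (a * (s⁻¹ * v * s)) = a * (s⁻¹ * v * s)) : σ a = a ∧ σ v = v := by
  have hσa : ((σ a : ↥(D.group K)) : GL D.Idx K) ∈ Um D K (s : GL D.Idx K) := by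
    have := hσ.stable_Um hD s a ha
    rwa [hs] at this
  have hσv : ((σ v : ↥(D.group K)) : GL D.Idx K) ∈ Um D K (n : GL D.Idx K) := by
    have := hσ.stable_Um hD n v hv
    rwa [hn] at this
  rw [map_mul, map_mul, map_mul, map_inv, hs] at hfix
  have e := congrArg (Subtype.val) hfix
  simp only [Subgroup.coe_mul, Subgroup.coe_inv] at e
  obtain ⟨h1, h2⟩ := cell_unique D hD _ _ _ _ _ hσa ha (bruhatU_le_pos D _ hσv) (bruhatU_le_pos D _ hv) e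
  exact ⟨Subtype.ext h1, Subtype.ext h2⟩

variable [Fintype K]

include hD in
/-- the number of `σ`-fixed points of `U_{ns}⁻` -/
theorem spec_cell_card (hσ : Spec D σ π c) (n s : ↥(D.group K)) (hs : σ s = s) (hn : σ n = n)
    (hsub1 : Um D K (s : GL D.Idx K) ≤ Um D K ((n : GL D.Idx K) * s))
    (hsub2 : ∀ v ∈ Um D K (n : GL D.Idx K), (s : GL D.Idx K)⁻¹ * v * s ∈ Um D K ((n : GL D.Idx K) * s))
    (hcard : Nat.card ↥(Um D K ((n : GL D.Idx K) * s)) =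
      Nat.card ↥(Um D K (s : GL D.Idx K)) * Nat.card ↥(Um D K (n : GL D.Idx K))) :
    Nat.card ↥(Um D K ((n : GL D.Idx K) * s) ⊓ specFix D σ) =
      Nat.card ↥(Um D K (s : GL D.Idx K) ⊓ specFix D σ) * Nat.card ↥(Um D K (n : GL D.Idx K) ⊓ specFix D σ) := by
  obtain ⟨hBG, -, -⟩ := Cfsg.Agent.S1043.result (F := K) D hD
  have hUB : D.posUnipotent K ≤ D.borelSubgroup K := le_sup_left
  have hsF : (s : GL D.Idx K) ∈ specFix D σ := (mem_specFix s).mpr hs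
  rw [← Nat.card_prod]
  symm
  have hmem : ∀ p : ↥(Um D K (s : GL D.Idx K) ⊓ specFix D σ) × ↥(Um D K (n : GL D.Idx K) ⊓ specFix D σ),
      (p.1 : GL D.Idx K) * ((s : GL D.Idx K)⁻¹ * (p.2 : GL D.Idx K) * s) ∈
        Um D K ((n : GL D.Idx K) * s) ⊓ specFix D σ := fun p =>
    ⟨Subgroup.mul_mem _ (hsub1 p.1.2.1) (hsub2 _ p.2.2.1),
      Subgroup.mul_mem _ p.1.2.2 (Subgroup.mul_mem _ (Subgroup.mul_mem _ (Subgroup.inv_mem _ hsF) p.2.2.2) hsF)⟩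
  apply Nat.card_congr
  refine Equiv.ofBijective (fun p => ⟨_, hmem p⟩) ⟨?_, ?_⟩
  · rintro ⟨⟨a, ha⟩, ⟨v, hv⟩⟩ ⟨⟨a', ha'⟩, ⟨v', hv'⟩⟩ e
    have e1 : a * ((s : GL D.Idx K)⁻¹ * v * s) = a' * ((s : GL D.Idx K)⁻¹ * v' * s) := congrArg Subtype.val e
    obtain ⟨h1, h2⟩ := cell_unique D hD _ a a' v v' ha.1 ha'.1 (bruhatU_le_pos D _ hv.1)
      (bruhatU_le_pos D _ hv'.1) e1
    subst h1
    subst h2
    rfl
  · rintro ⟨u, hu, huF⟩
    obtain ⟨a, ha, v, hv, e⟩ := cell_exists D hD _ _ hsub1 hsub2 hcard u hu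
    have haG : a ∈ D.group K := hBG (hUB (bruhatU_le_pos D _ ha))
    have hvG : v ∈ D.group K := hBG (hUB (bruhatU_le_pos D _ hv))
    obtain ⟨huG, hufix⟩ := huF
    have e' : (⟨u, huG⟩ : ↥(D.group K)) = ⟨a, haG⟩ * (s⁻¹ * ⟨v, hvG⟩ * s) := Subtype.ext e
    rw [e'] at hufix
    obtain ⟨h1, h2⟩ := spec_cell_fixed hD hσ n s ⟨a, haG⟩ ⟨v, hvG⟩ hs hn ha hv hufix
    exact ⟨(⟨a, ha, haG, h1⟩, ⟨v, hv, hvG, h2⟩), Subtype.ext e.symm⟩

include hD in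
/-- the `σ`-fixed points of `U_{ns}⁻` lie in a subgroup containing `s` and those of the two factors -/
theorem spec_cell_le (hσ : Spec D σ π c) (n s : ↥(D.group K)) (hs : σ s = s) (hn : σ n = n)
    (hsub1 : Um D K (s : GL D.Idx K) ≤ Um D K ((n : GL D.Idx K) * s))
    (hsub2 : ∀ v ∈ Um D K (n : GL D.Idx K), (s : GL D.Idx K)⁻¹ * v * s ∈ Um D K ((n : GL D.Idx K) * s))
    (hcard : Nat.card ↥(Um D K ((n : GL D.Idx K) * s)) =
      Nat.card ↥(Um D K (s : GL D.Idx K)) * Nat.card ↥(Um D K (n : GL D.Idx K)))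
    (G1 : Subgroup (GL D.Idx K)) (hsG : (s : GL D.Idx K) ∈ G1)
    (h1 : Um D K (s : GL D.Idx K) ⊓ specFix D σ ≤ G1) (h2 : Um D K (n : GL D.Idx K) ⊓ specFix D σ ≤ G1) :
    Um D K ((n : GL D.Idx K) * s) ⊓ specFix D σ ≤ G1 := by
  obtain ⟨hBG, -, -⟩ := Cfsg.Agent.S1043.result (F := K) D hD
  have hUB : D.posUnipotent K ≤ D.borelSubgroup K := le_sup_left
  rintro u ⟨hu, huF⟩
  obtain ⟨a, ha, v, hv, e⟩ := cell_exists D hD _ _ hsub1 hsub2 hcard u hu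
  have haG : a ∈ D.group K := hBG (hUB (bruhatU_le_pos D _ ha))
  have hvG : v ∈ D.group K := hBG (hUB (bruhatU_le_pos D _ hv))
  obtain ⟨huG, hufix⟩ := huF
  have e' : (⟨u, huG⟩ : ↥(D.group K)) = ⟨a, haG⟩ * (s⁻¹ * ⟨v, hvG⟩ * s) := Subtype.ext e
  rw [e'] at hufix
  obtain ⟨k1, k2⟩ := spec_cell_fixed hD hσ n s ⟨a, haG⟩ ⟨v, hvG⟩ hs hn ha hv hufix
  rw [e]
  exact Subgroup.mul_mem _ (h1 ⟨ha, haG, k1⟩)
    (Subgroup.mul_mem _ (Subgroup.mul_mem _ (Subgroup.inv_mem _ hsG) (h2 ⟨hv, hvG, k2⟩)) hsG)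

end SpecCell

end Cfsg.Agent.Helper19.Twist
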