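import Cfsg.Agent.Helper19.Twist.Inst

set_option autoImplicit false
set_option maxRecDepth 100000
set_option linter.unusedSectionVars false

/-!
Products of root elements over a class of pairwise orthogonal roots: the elements
`n_J(t) = ∏ n_r(t_r)` and `h_J(t) = ∏ h_r(t_r)`, and their membership in the twisted groups.
-/

namespace Cfsg.Agent.Helper19.Twist

open Cfsg Cfsg.Lie Cfsg.Agent.Helper18 Cfsg.Agent.S1081

section Grp

variable {G : Type*} [Group G]

theorem mul3_comm (a1 a2 a3 b1 b2 b3 : G) (h21 : Commute a2 b1) (h31 : Commute a3 b1) (h32 : Commute a3 b2) :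
    (a1 * a2 * a3) * (b1 * b2 * b3) = (a1 * b1) * (a2 * b2) * (a3 * b3) := by
  calc (a1 * a2 * a3) * (b1 * b2 * b3) = a1 * a2 * (a3 * b1) * b2 * b3 := by group
    _ = a1 * (a2 * b1) * (a3 * b2) * b3 := by rw [h31.eq]; group
    _ = (a1 * b1) * (a2 * b2) * (a3 * b3) := by rw [h21.eq, h32.eq]; group

theorem mul2_comm (a1 a2 b1 b2 : G) (h21 : Commute a2 b1) :
    (a1 * a2) * (b1 * b2) = (a1 * b1) * (a2 * b2) := by
  calc (a1 * a2) * (b1 * b2) = a1 * (a2 * b1) * b2 := by group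
    _ = (a1 * b1) * (a2 * b2) := by rw [h21.eq]; group

end Grp

/-- a sufficient condition for the root subgroups `X_r`, `X_s` to commute -/
def commOK (D : ChevalleyDatum) (r s : ℕ) : Bool :=
  decide (r < D.nroots) && decide (s < D.nroots) && (s != r) && (s != D.neg r) && (D.commTerms r s).isEmpty

/-- a sufficient condition for `⟨X_r, X_{-r}⟩`, `⟨X_s, X_{-s}⟩` to commute -/
def orthOK (D : ChevalleyDatum) (r s : ℕ) : Bool :=
  commOK D r s && commOK D r (D.neg s) && commOK D (D.neg r) s && commOK D (D.neg r) (D.neg s)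

section Comm

variable {K : Type*} [Field K] (D : ChevalleyDatum)
  (hD : D ∈ [chevG2, chevB2, chevD4, chevF4, chevE6, chevE7, chevE8])
include hD

theorem xGL_commute (r s : ℕ) (h : commOK D r s = true) (t u : K) :
    Commute (xGL D K r t) (xGL D K s u) := by
  unfold commOK at h
  simp only [Bool.and_eq_true, decide_eq_true_eq, bne_iff_ne, ne_eq, List.isEmpty_iff] at h
  obtain ⟨⟨⟨⟨h1, h2⟩, h3⟩, h4⟩, h5⟩ := h
  exact xGL_comm_of_commTerms_nil D hD r s h1 h2 h3 h4 h5 t u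

/-- `n_r(t)` -/
noncomputable def nG (D : ChevalleyDatum) (K : Type*) [Field K] (r : ℕ) (t : K) : GL D.Idx K :=
  wordGL D K (D.nWord r t)

/-- `h_r(t)` -/
noncomputable def hG (D : ChevalleyDatum) (K : Type*) [Field K] (r : ℕ) (t : K) : GL D.Idx K :=
  wordGL D K (D.hWord r t)

omit hD in
theorem nG_eq (r : ℕ) (t : K) : nG D K r t = xGL D K r t * xGL D K (D.neg r) (-t⁻¹) * xGL D K r t :=
  wordGL_nWord' D r t

omit hD in
theorem hG_eq (r : ℕ) (t : K) : hG D K r t = nG D K r t * nG D K r (-1) :=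
  wordGL_hWord D r t

theorem x_commute_x (r s : ℕ) (h : orthOK D r s = true) (t u : K) : Commute (xGL D K r t) (xGL D K s u) := by
  unfold orthOK at h
  simp only [Bool.and_eq_true] at h
  exact xGL_commute D hD r s h.1.1.1 t u

theorem x_commute_xn (r s : ℕ) (h : orthOK D r s = true) (t u : K) :
    Commute (xGL D K r t) (xGL D K (D.neg s) u) := by
  unfold orthOK at h
  simp only [Bool.and_eq_true] at h
  exact xGL_commute D hD r _ h.1.1.2 t u

theorem xn_commute_x (r s : ℕ) (h : orthOK D r s = true) (t u : K) :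
    Commute (xGL D K (D.neg r) t) (xGL D K s u) := by
  unfold orthOK at h
  simp only [Bool.and_eq_true] at h
  exact xGL_commute D hD _ s h.1.2 t u

theorem xn_commute_xn (r s : ℕ) (h : orthOK D r s = true) (t u : K) :
    Commute (xGL D K (D.neg r) t) (xGL D K (D.neg s) u) := by
  unfold orthOK at h
  simp only [Bool.and_eq_true] at h
  exact xGL_commute D hD _ _ h.2 t u

theorem x_commute_n (r s : ℕ) (h : orthOK D r s = true) (t u : K) : Commute (xGL D K r t) (nG D K s u) := by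
  rw [nG_eq]
  exact ((x_commute_x D hD r s h t u).mul_right (x_commute_xn D hD r s h t _)).mul_right (x_commute_x D hD r s h t u)

theorem xn_commute_n (r s : ℕ) (h : orthOK D r s = true) (t u : K) :
    Commute (xGL D K (D.neg r) t) (nG D K s u) := by
  rw [nG_eq]
  exact ((xn_commute_x D hD r s h t u).mul_right (xn_commute_xn D hD r s h t _)).mul_right
    (xn_commute_x D hD r s h t u)

theorem n_commute_n (r s : ℕ) (h : orthOK D r s = true) (t u : K) : Commute (nG D K r t) (nG D K s u) := by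
  rw [nG_eq D r]
  exact ((x_commute_n D hD r s h t u).mul_left (xn_commute_n D hD r s h _ u)).mul_left (x_commute_n D hD r s h t u)

/-- `n_J(t)` for a class of three pairwise orthogonal roots -/
theorem nprod3 (r1 r2 r3 : ℕ) (h12 : orthOK D r1 r2 = true) (h13 : orthOK D r1 r3 = true)
    (h23 : orthOK D r2 r3 = true) (t1 t2 t3 s1 s2 s3 : K) :
    (xGL D K r1 t1 * xGL D K r2 t2 * xGL D K r3 t3) *
      (xGL D K (D.neg r1) s1 * xGL D K (D.neg r2) s2 * xGL D K (D.neg r3) s3) *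
      (xGL D K r1 t1 * xGL D K r2 t2 * xGL D K r3 t3) =
    (xGL D K r1 t1 * xGL D K (D.neg r1) s1 * xGL D K r1 t1) *
      (xGL D K r2 t2 * xGL D K (D.neg r2) s2 * xGL D K r2 t2) *
      (xGL D K r3 t3 * xGL D K (D.neg r3) s3 * xGL D K r3 t3) := by
  have e1 := mul3_comm (xGL D K r1 t1) (xGL D K r2 t2) (xGL D K r3 t3)
    (xGL D K (D.neg r1) s1) (xGL D K (D.neg r2) s2) (xGL D K (D.neg r3) s3)
    (xn_commute_x D hD r1 r2 h12 _ _).symm (xn_commute_x D hD r1 r3 h13 _ _).symm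
    (xn_commute_x D hD r2 r3 h23 _ _).symm
  have e2 := mul3_comm (xGL D K r1 t1 * xGL D K (D.neg r1) s1) (xGL D K r2 t2 * xGL D K (D.neg r2) s2)
    (xGL D K r3 t3 * xGL D K (D.neg r3) s3) (xGL D K r1 t1) (xGL D K r2 t2) (xGL D K r3 t3)
    ((x_commute_x D hD r1 r2 h12 _ _).symm.mul_left (x_commute_xn D hD r1 r2 h12 _ _).symm)
    ((x_commute_x D hD r1 r3 h13 _ _).symm.mul_left (x_commute_xn D hD r1 r3 h13 _ _).symm)
    ((x_commute_x D hD r2 r3 h23 _ _).symm.mul_left (x_commute_xn D hD r2 r3 h23 _ _).symm)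
  rw [e1, e2]

/-- `n_J(t)` for a class of two orthogonal roots -/
theorem nprod2 (r1 r2 : ℕ) (h12 : orthOK D r1 r2 = true) (t1 t2 s1 s2 : K) :
    (xGL D K r1 t1 * xGL D K r2 t2) * (xGL D K (D.neg r1) s1 * xGL D K (D.neg r2) s2) *
      (xGL D K r1 t1 * xGL D K r2 t2) =
    (xGL D K r1 t1 * xGL D K (D.neg r1) s1 * xGL D K r1 t1) *
      (xGL D K r2 t2 * xGL D K (D.neg r2) s2 * xGL D K r2 t2) := by
  have e1 := mul2_comm (xGL D K r1 t1) (xGL D K r2 t2) (xGL D K (D.neg r1) s1) (xGL D K (D.neg r2) s2)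
    (xn_commute_x D hD r1 r2 h12 _ _).symm
  have e2 := mul2_comm (xGL D K r1 t1 * xGL D K (D.neg r1) s1) (xGL D K r2 t2 * xGL D K (D.neg r2) s2)
    (xGL D K r1 t1) (xGL D K r2 t2)
    ((x_commute_x D hD r1 r2 h12 _ _).symm.mul_left (x_commute_xn D hD r1 r2 h12 _ _).symm)
  rw [e1, e2]

/-- `h_J(t)` for a class of three pairwise orthogonal roots -/
theorem hprod3 (r1 r2 r3 : ℕ) (h12 : orthOK D r1 r2 = true) (h13 : orthOK D r1 r3 = true)
    (h23 : orthOK D r2 r3 = true) (t1 t2 t3 : K) :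
    (nG D K r1 t1 * nG D K r2 t2 * nG D K r3 t3) * (nG D K r1 (-1) * nG D K r2 (-1) * nG D K r3 (-1)) =
      hG D K r1 t1 * hG D K r2 t2 * hG D K r3 t3 := by
  rw [hG_eq, hG_eq, hG_eq]
  exact mul3_comm _ _ _ _ _ _ (n_commute_n D hD r1 r2 h12 _ _).symm (n_commute_n D hD r1 r3 h13 _ _).symm
    (n_commute_n D hD r2 r3 h23 _ _).symm

/-- `h_J(t)` for a class of two orthogonal roots -/
theorem hprod2 (r1 r2 : ℕ) (h12 : orthOK D r1 r2 = true) (t1 t2 : K) :
    (nG D K r1 t1 * nG D K r2 t2) * (nG D K r1 (-1) * nG D K r2 (-1)) = hG D K r1 t1 * hG D K r2 t2 := by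
  rw [hG_eq, hG_eq]
  exact mul2_comm _ _ _ _ (n_commute_n D hD r1 r2 h12 _ _).symm

end Comm

end Cfsg.Agent.Helper19.Twist
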