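import Cfsg.Agent.Helper19.Twist.FixProd

/-!
Counting the `σ`-equivariant coefficient families on a list made of classes (fixed points,
2-cycles and 3-cycles of the symmetry).
-/

set_option autoImplicit false
set_option maxRecDepth 100000
set_option linter.unusedSectionVars false

namespace Cfsg.Agent.Helper19.Twist

section

variable {K : Type*} [Field K] (π' : ℕ → ℕ) (ε : ℕ → ℤ) (f : K ≃+* K)

theorem mem_TS (P : List ℕ) (t : ℕ → K) :
    t ∈ TS π' ε f P ↔ (∀ r, r ∉ P → t r = 0) ∧ ∀ s ∈ P, t s = ((ε (π' s) : ℤ) : K) * f (t (π' s)) := Iff.rfl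

theorem mem_TS' (P : List ℕ) (t : ℕ → K) (ht : t ∈ TS π' ε f P) :
    (∀ r, r ∉ P → t r = 0) ∧ ∀ s ∈ P, t s = ((ε (π' s) : ℤ) : K) * f (t (π' s)) := ht

/-- the families on a disjoint union of stable lists -/
theorem TS_append (S P' : List ℕ) (hdisj : ∀ r ∈ S, r ∉ P') (hS : ∀ r ∈ S, π' r ∈ S)
    (hP' : ∀ r ∈ P', π' r ∈ P') :
    TS π' ε f (S ++ P') = (fun p : (ℕ → K) × (ℕ → K) => p.1 + p.2) '' (TS π' ε f S ×ˢ TS π' ε f P') := by
  classical
  ext t
  constructor
  · rintro ⟨h1, h2⟩
    refine ⟨(fun r => if r ∈ S then t r else 0, fun r => if r ∈ P' then t r else 0), ⟨⟨?_, ?_⟩, ⟨?_, ?_⟩⟩, ?_⟩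
    · intro r hr; simp [hr]
    · intro s hs
      have := h2 s (List.mem_append_left _ hs)
      unfold tw at this ⊢
      simp only [hs, if_true, hS s hs]
      exact this
    · intro r hr; simp [hr]
    · intro s hs
      have := h2 s (List.mem_append_right _ hs)
      unfold tw at this ⊢
      simp only [hs, if_true, hP' s hs]
      exact this
    · funext r
      simp only [Pi.add_apply]
      by_cases hrS : r ∈ S
      · simp [hrS, hdisj r hrS]
      · by_cases hrP : r ∈ P'
        · simp [hrS, hrP]
        · simp only [hrS, hrP, if_false, add_zero]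
          exact (h1 r (by simp [hrS, hrP])).symm
  · rintro ⟨⟨t1, t2⟩, ⟨⟨a1, a2⟩, ⟨b1, b2⟩⟩, rfl⟩
    simp only at a1 a2 b1 b2
    unfold tw at a2 b2
    refine ⟨?_, ?_⟩
    · intro r hr
      rw [List.mem_append, not_or] at hr
      simp only [Pi.add_apply]
      rw [a1 r hr.1, b1 r hr.2, add_zero]
    · intro s hs
      unfold tw
      simp only [Pi.add_apply]
      rcases List.mem_append.mp hs with hs | hs
      · rw [b1 s (hdisj s hs), b1 _ (hdisj _ (hS s hs)), add_zero, add_zero]
        exact a2 s hs
      · have hsS : s ∉ S := fun hc => hdisj s hc hs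
        have hsS' : π' s ∉ S := fun hc => hdisj _ hc (hP' s hs)
        rw [a1 s hsS, a1 _ hsS', zero_add, zero_add]
        exact b2 s hs

theorem ncard_TS_append (S P' : List ℕ) (hdisj : ∀ r ∈ S, r ∉ P') (hS : ∀ r ∈ S, π' r ∈ S)
    (hP' : ∀ r ∈ P', π' r ∈ P') :
    (TS π' ε f (S ++ P')).ncard = (TS π' ε f S).ncard * (TS π' ε f P').ncard := by
  rw [TS_append π' ε f S P' hdisj hS hP', ← Set.ncard_prod]
  apply Set.InjOn.ncard_image
  rintro ⟨t1, t2⟩ ⟨⟨a1, -⟩, ⟨b1, -⟩⟩ ⟨t1', t2'⟩ ⟨⟨a1', -⟩, ⟨b1', -⟩⟩ heq
  simp only at heq a1 b1 a1' b1'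
  have key : ∀ r, t1 r = t1' r ∧ t2 r = t2' r := by
    intro r
    have hr := congrFun heq r
    simp only [Pi.add_apply] at hr
    by_cases hrS : r ∈ S
    · have e1 := b1 r (hdisj r hrS)
      have e2 := b1' r (hdisj r hrS)
      rw [e1, e2, add_zero, add_zero] at hr
      exact ⟨hr, by rw [e1, e2]⟩
    · have e1 := a1 r hrS
      have e2 := a1' r hrS
      rw [e1, e2, zero_add, zero_add] at hr
      exact ⟨by rw [e1, e2], hr⟩
  ext r
  · exact (key r).1
  · exact (key r).2

theorem TS_nil : TS π' ε f [] = {0} := by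
  ext t
  simp only [mem_TS, List.not_mem_nil, not_false_eq_true, forall_const, false_imp_iff, and_true,
    Set.mem_singleton_iff]
  constructor
  · intro h; funext r; exact h r
  · rintro rfl r; rfl

/-- a class consisting of one fixed root with sign `1` -/
theorem ncard_TS_one (S : List ℕ) (r : ℕ) (hS : ∀ x, x ∈ S ↔ x = r) (hfix : π' r = r) (hε : ε r = 1) :
    (TS π' ε f S).ncard = {a : K | f a = a}.ncard := by
  classical
  have : TS π' ε f S = (fun a : K => fun x => if x = r then a else 0) '' {a : K | f a = a} := by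
    ext t
    constructor
    · intro ht
      obtain ⟨h1, h2⟩ := mem_TS' π' ε f S t ht
      refine ⟨t r, ?_, ?_⟩
      · have := h2 r ((hS r).mpr rfl)
        rw [hfix, hε, Int.cast_one, one_mul] at this
        exact this.symm
      · funext x
        by_cases hx : x = r
        · simp [hx]
        · simp only [hx, if_false]
          exact (h1 x (fun hc => hx ((hS x).mp hc))).symm
    · rintro ⟨a, ha, rfl⟩
      rw [mem_TS]
      refine ⟨?_, ?_⟩
      · intro x hx
        have : x ≠ r := fun hc => hx ((hS x).mpr hc)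
        simp [this]
      · intro s hs
        have hsr := (hS s).mp hs
        subst hsr
        simp only [hfix, if_true, hε, Int.cast_one, one_mul]
        exact ha.symm
  rw [this]
  apply Set.ncard_image_of_injective
  intro a b hab
  have := congrFun hab r
  simpa using this

/-- a class consisting of a 2-cycle -/
theorem ncard_TS_two [Fintype K] (S : List ℕ) (a b : ℕ) (hS : ∀ x, x ∈ S ↔ x = a ∨ x = b) (hab : a ≠ b)
    (h1 : π' a = b) (h2 : π' b = a) (hε : ε a * ε b = 1) (hf : ∀ x : K, f (f x) = x) :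
    (TS π' ε f S).ncard = Fintype.card K := by
  classical
  have hεK : ((ε a : ℤ) : K) * ((ε b : ℤ) : K) = 1 := by rw [← Int.cast_mul, hε, Int.cast_one]
  have : TS π' ε f S = Set.range (fun x : K => fun r => if r = a then x else if r = b then ((ε a : ℤ) : K) * f x else 0) := by
    ext t
    constructor
    · intro ht
      obtain ⟨k1, k2⟩ := mem_TS' π' ε f S t ht
      refine ⟨t a, ?_⟩
      funext r
      by_cases hra : r = a
      · simp [hra]
      · by_cases hrb : r = b
        · subst hrb
          simp only [hra, if_false, if_true]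
          have := k2 r ((hS r).mpr (Or.inr rfl))
          rw [h2] at this
          exact this.symm
        · simp only [hra, hrb, if_false]
          exact (k1 r (fun hc => by rcases (hS r).mp hc with h | h <;> contradiction)).symm
    · rintro ⟨x, rfl⟩
      rw [mem_TS]
      refine ⟨?_, ?_⟩
      · intro r hr
        have hra : r ≠ a := fun hc => hr ((hS r).mpr (Or.inl hc))
        have hrb : r ≠ b := fun hc => hr ((hS r).mpr (Or.inr hc))
        simp [hra, hrb]
      · intro s hs
        rcases (hS s).mp hs with rfl | rfl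
        · simp only [h1, if_true, hab.symm, if_false]
          rw [map_mul, map_intCast, hf, ← mul_assoc, mul_comm ((ε b : ℤ) : K), hεK, one_mul]
        · simp only [h2, hab.symm, if_false, if_true]
  rw [this, Set.ncard_range_of_injective, Nat.card_eq_fintype_card]
  intro x y hxy
  have := congrFun hxy a
  simpa using this

/-- a class consisting of a 3-cycle -/
theorem ncard_TS_three [Fintype K] (S : List ℕ) (a b c : ℕ) (hS : ∀ x, x ∈ S ↔ x = a ∨ x = b ∨ x = c)
    (hab : a ≠ b) (hac : a ≠ c) (hbc : b ≠ c)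
    (h1 : π' a = c) (h2 : π' b = a) (h3 : π' c = b) (hε : ε a * ε b * ε c = 1) (hf : ∀ x : K, f (f (f x)) = x) :
    (TS π' ε f S).ncard = Fintype.card K := by
  classical
  have hεK : ((ε a : ℤ) : K) * ((ε b : ℤ) : K) * ((ε c : ℤ) : K) = 1 := by
    rw [← Int.cast_mul, ← Int.cast_mul, hε, Int.cast_one]
  have : TS π' ε f S = Set.range (fun x : K => fun r => if r = a then x else if r = b then ((ε a : ℤ) : K) * f x
      else if r = c then ((ε b : ℤ) : K) * (((ε a : ℤ) : K) * f (f x)) else 0) := by
    ext t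
    constructor
    · intro ht
      obtain ⟨k1, k2⟩ := mem_TS' π' ε f S t ht
      refine ⟨t a, ?_⟩
      have eb : t b = ((ε a : ℤ) : K) * f (t a) := by
        have := k2 b ((hS b).mpr (Or.inr (Or.inl rfl)))
        rw [h2] at this
        exact this
      have ec : t c = ((ε b : ℤ) : K) * (((ε a : ℤ) : K) * f (f (t a))) := by
        have := k2 c ((hS c).mpr (Or.inr (Or.inr rfl)))
        rw [h3, eb, map_mul, map_intCast] at this
        exact this
      funext r
      by_cases hra : r = a
      · simp [hra]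
      · by_cases hrb : r = b
        · subst hrb
          simp only [hra, if_false, if_true]
          exact eb.symm
        · by_cases hrc : r = c
          · subst hrc
            simp only [hra, hrb, if_false, if_true]
            exact ec.symm
          · simp only [hra, hrb, hrc, if_false]
            exact (k1 r (fun hc => by rcases (hS r).mp hc with h | h | h <;> contradiction)).symm
    · rintro ⟨x, rfl⟩
      rw [mem_TS]
      refine ⟨?_, ?_⟩
      · intro r hr
        have hra : r ≠ a := fun hc => hr ((hS r).mpr (Or.inl hc))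
        have hrb : r ≠ b := fun hc => hr ((hS r).mpr (Or.inr (Or.inl hc)))
        have hrc : r ≠ c := fun hc => hr ((hS r).mpr (Or.inr (Or.inr hc)))
        simp [hra, hrb, hrc]
      · intro s hs
        rcases (hS s).mp hs with rfl | rfl | rfl
        · simp only [h1, if_true, hac.symm, hbc.symm, if_false]
          rw [map_mul, map_intCast, map_mul, map_intCast, hf]
          calc x = (((ε s : ℤ) : K) * ((ε b : ℤ) : K) * ((ε c : ℤ) : K)) * x := by rw [hεK, one_mul]
            _ = _ := by ring
        · simp only [h2, hab.symm, if_false, if_true]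
        · simp only [h3, hac.symm, hbc.symm, hab.symm, if_false, if_true]
          rw [map_mul, map_intCast]
  rw [this, Set.ncard_range_of_injective, Nat.card_eq_fintype_card]
  intro x y hxy
  have := congrFun hxy a
  simpa using this

end

section Classes

variable {K : Type*} [Field K] [Fintype K] (π' : ℕ → ℕ) (ε : ℕ → ℤ) (f : K ≃+* K)

/-- a class is a fixed root, a 2-cycle or a 3-cycle (of the length `k` of the symmetry) with trivial sign -/
def cycOK (π' : ℕ → ℕ) (ε : ℕ → ℤ) (k : ℕ) : List ℕ → Bool
  | [r] => (π' r == r) && (ε r == 1)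
  | [a, b] => (k == 2) && (a != b) && (π' a == b) && (π' b == a) && (ε a * ε b == 1)
  | [a, b, c] => (k == 3) && (a != b) && (a != c) && (b != c) &&
      (((π' a == c) && (π' b == a) && (π' c == b)) || ((π' a == b) && (π' c == a) && (π' b == c))) &&
      (ε a * ε b * ε c == 1)
  | _ => false

theorem cycOK_stable {k : ℕ} {S : List ℕ} (h : cycOK π' ε k S = true) : ∀ r ∈ S, π' r ∈ S := by
  match S, h with
  | [r], h =>
    simp only [cycOK, Bool.and_eq_true, beq_iff_eq] at h
    intro x hx
    rw [List.mem_singleton] at hx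
    subst hx
    rw [h.1]; exact List.mem_singleton.mpr rfl
  | [a, b], h =>
    simp only [cycOK, Bool.and_eq_true, beq_iff_eq, bne_iff_ne, ne_eq] at h
    obtain ⟨⟨⟨⟨-, -⟩, h1⟩, h2⟩, -⟩ := h
    intro x hx
    simp only [List.mem_cons, List.not_mem_nil, or_false] at hx ⊢
    rcases hx with rfl | rfl
    · right; exact h1
    · left; exact h2
  | [a, b, c], h =>
    simp only [cycOK, Bool.and_eq_true, Bool.or_eq_true, beq_iff_eq, bne_iff_ne, ne_eq] at h
    obtain ⟨⟨-, hor⟩, -⟩ := h
    intro x hx
    simp only [List.mem_cons, List.not_mem_nil, or_false] at hx ⊢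
    rcases hor with ⟨⟨h1, h2⟩, h3⟩ | ⟨⟨h1, h2⟩, h3⟩
    · rcases hx with rfl | rfl | rfl
      · right; right; exact h1
      · left; exact h2
      · right; left; exact h3
    · rcases hx with rfl | rfl | rfl
      · right; left; exact h1
      · right; right; exact h3
      · left; exact h2

variable {q k : ℕ}

theorem ncard_TS_class (hfix : {a : K | f a = a}.ncard = q) (hcard : Fintype.card K = q ^ k)
    (hf2 : k = 2 → ∀ x : K, f (f x) = x) (hf3 : k = 3 → ∀ x : K, f (f (f x)) = x)
    (S : List ℕ) (h : cycOK π' ε k S = true) : (TS π' ε f S).ncard = q ^ S.length := by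
  match S, h with
  | [r], h =>
    simp only [cycOK, Bool.and_eq_true, beq_iff_eq] at h
    rw [ncard_TS_one π' ε f [r] r (fun x => List.mem_singleton) h.1 h.2, hfix]
    simp
  | [a, b], h =>
    simp only [cycOK, Bool.and_eq_true, beq_iff_eq, bne_iff_ne, ne_eq] at h
    obtain ⟨⟨⟨⟨hk, hab⟩, h1⟩, h2⟩, hε⟩ := h
    rw [ncard_TS_two π' ε f [a, b] a b (fun x => by simp) hab h1 h2 hε (hf2 hk), hcard, hk]
    rfl
  | [a, b, c], h =>
    simp only [cycOK, Bool.and_eq_true, Bool.or_eq_true, beq_iff_eq, bne_iff_ne, ne_eq] at h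
    obtain ⟨⟨⟨⟨⟨hk, hab⟩, hac⟩, hbc⟩, hor⟩, hε⟩ := h
    rcases hor with ⟨⟨h1, h2⟩, h3⟩ | ⟨⟨h1, h2⟩, h3⟩
    · rw [ncard_TS_three π' ε f [a, b, c] a b c (fun x => by simp) hab hac hbc h1 h2 h3 hε (hf3 hk), hcard, hk]
      rfl
    · rw [ncard_TS_three π' ε f [a, b, c] a c b (fun x => by simp; tauto) hac hab (Ne.symm hbc) h1 h2 h3
        (by rw [← hε]; ring) (hf3 hk), hcard, hk]
      rfl

theorem ncard_TS_classes (hfix : {a : K | f a = a}.ncard = q) (hcard : Fintype.card K = q ^ k)
    (hf2 : k = 2 → ∀ x : K, f (f x) = x) (hf3 : k = 3 → ∀ x : K, f (f (f x)) = x)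
    (Cl : List (List ℕ)) (hnd : Cl.flatten.Nodup) (hall : Cl.all (cycOK π' ε k) = true) :
    (TS π' ε f Cl.flatten).ncard = q ^ Cl.flatten.length := by
  induction Cl with
  | nil =>
    rw [List.flatten_nil, TS_nil, Set.ncard_singleton]
    rfl
  | cons S Cl ih =>
    rw [List.all_cons, Bool.and_eq_true] at hall
    rw [List.flatten_cons, List.nodup_append] at hnd
    have hstab : ∀ r ∈ Cl.flatten, π' r ∈ Cl.flatten := by
      intro r hr
      rw [List.mem_flatten] at hr ⊢
      obtain ⟨S', hS', hrS'⟩ := hr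
      have := List.all_eq_true.mp hall.2 S' hS'
      exact ⟨S', hS', cycOK_stable π' ε this r hrS'⟩
    rw [List.flatten_cons, ncard_TS_append π' ε f S Cl.flatten (fun r hr hr' => hnd.2.2 r hr r hr' rfl)
      (cycOK_stable π' ε hall.1) hstab, ncard_TS_class π' ε f hfix hcard hf2 hf3 S hall.1, ih hnd.2.1 hall.2,
      List.length_append, pow_add]

end Classes

end Cfsg.Agent.Helper19.Twist
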