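import Cfsg.Agent.Helper19.Twist.SpecBN2
import Cfsg.Agent.Helper19.Twist.FixF4
import Cfsg.Agent.Helper19.Twist.BNInst

/-!
The combinatorial data of the `(B, N)`-pair of the Ree groups `²F₄`: the two folded generators `s₀s₃` and
`(s₁s₂)²` of the group of the elements of the Weyl group of type `F₄` commuting with the symmetry `ρ`.
-/

set_option autoImplicit false
set_option maxRecDepth 100000

namespace Cfsg.Agent.Helper19.Twist

open Cfsg Cfsg.Lie Cfsg.Agent.Helper18 Cfsg.Agent.Helper19.Cox Cfsg.Agent.Helper19.Poinc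
open Cfsg.Agent.Helper36.SigmaF4

/-- the nodes of the two folded generators -/
def JF4 (a : ℕ) : List ℕ := if a = 0 then [0, 3] else [1, 2, 1, 2]

theorem JF4_zero : JF4 0 = [0, 3] := rfl
theorem JF4_one : JF4 1 = [1, 2, 1, 2] := rfl

theorem fixSubOK2_F4 : fixSubOK2 certF4.tabs chevF4.rank chevF4.nroots 2 JF4 rho = true := by decide +kernel
theorem classGenOK_F4 :
    classGenOK certF4.tabs chevF4.rank chevF4.nroots (hlfOf chevF4) 2 JF4 chevF4.simple = true := by
  decide +kernel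
theorem chainOK_F4 : chainOK certF4.tabs chevF4.rank chevF4.nroots 2 JF4 = true := by decide +kernel

/-- a sublist of a folded generator whose product commutes with `ρ` -/
theorem hfs_F4 : ∀ a < 2, ∀ S : List ℕ, S.Sublist (JF4 a) → IsFix certF4 rho (gp certF4.M S) →
    gp certF4.M S = 1 ∨ gp certF4.M S = gp certF4.M (JF4 a) :=
  fixSub2_spec certF4 rho fixSubOK2_F4

theorem hJ_F4 : ∀ a < 2, ∀ j ∈ JF4 a, j < chevF4.rank :=
  (classGen_spec (D1 := chevG2) certF4 JF4 classGenOK_F4).2.1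

theorem hdist_F4 : ∀ a < 2, ∀ b < 2, gp certF4.M (JF4 a) = gp certF4.M (JF4 b) → a = b :=
  (classGen_spec (D1 := chevG2) certF4 JF4 classGenOK_F4).1

theorem hnegJ_F4 : ∀ a < 2, ∀ j ∈ JF4 a,
    phi certF4.M certF4.Mx certF4.hI certF4.hB certF4.hMx (gp certF4.M (JF4 a)) (chevF4.simple j) < hlfOf chevF4 :=
  (classGen_spec (D1 := chevG2) certF4 JF4 classGenOK_F4).2.2

theorem hsq_F4 : ∀ a < 2, gp certF4.M (JF4 a) * gp certF4.M (JF4 a) = 1 := by
  intro a ha
  interval_cases a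
  · exact fixF4_P_sq
  · exact fixF4_S_sq

theorem hchain_F4 : ∀ a, a + 1 < 2 →
    gp certF4.M (JF4 a) * gp certF4.M (JF4 (a + 1)) ≠ gp certF4.M (JF4 (a + 1)) * gp certF4.M (JF4 a) :=
  chain_spec certF4 2 JF4 chainOK_F4

/-- every element of the Weyl group commuting with `ρ` is a word in the folded generators -/
theorem hrange_F4 : ∀ w, IsFix certF4 rho w →
    ∃ word : List ℕ, (∀ a ∈ word, a < 2) ∧ w = gp certF4.M (word.flatMap JF4) := by
  intro w hw
  have hmem := isFix_F4_mem w hw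
  have hs' : (gp certF4.M [0, 3])⁻¹ = gp certF4.M [0, 3] := inv_eq_of_mul_eq_one_right fixF4_P_sq
  have ht' : (gp certF4.M [1, 2, 1, 2])⁻¹ = gp certF4.M [1, 2, 1, 2] := inv_eq_of_mul_eq_one_right fixF4_S_sq
  have hstep : ∀ a, a < 2 → ∀ y : certF4.M.Group,
      (∃ word : List ℕ, (∀ b ∈ word, b < 2) ∧ y = gp certF4.M (word.flatMap JF4)) →
      ∃ word : List ℕ, (∀ b ∈ word, b < 2) ∧ gp certF4.M (JF4 a) * y = gp certF4.M (word.flatMap JF4) := by
    rintro a ha y ⟨word, hword, rfl⟩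
    refine ⟨a :: word, ?_, ?_⟩
    · intro b hb
      rcases List.mem_cons.mp hb with rfl | hb
      · exact ha
      · exact hword b hb
    · rw [List.flatMap_cons, gp_append]
  clear hw
  induction hmem using Subgroup.closure_induction_left with
  | one => exact ⟨[], by simp, by simp⟩
  | mul_left x hx y _ ih =>
    rcases hx with rfl | rfl
    · exact hstep 0 (by norm_num) y ih
    · exact hstep 1 (by norm_num) y ih
  | inv_mul_cancel x hx y _ ih =>
    rcases hx with rfl | rfl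
    · rw [hs']
      exact hstep 0 (by norm_num) y ih
    · rw [ht']
      exact hstep 1 (by norm_num) y ih

section F4

variable {K : Type*} [Field K]
  (h31 : NConjHyp chevF4 K) [hn : (HN chevF4 K).Normal]
  {σ : ↥(chevF4.group K) ≃* ↥(chevF4.group K)} {c : ℕ → K →+* K}
  (hσ : Cfsg.Agent.Helper36.SigmaChev.Spec chevF4 σ rho c) (h42 : H42 chevF4 K)
  (G1 : Subgroup (GL chevF4.Idx K)) (hG1 : G1 ≤ chevF4.group K)
  (hG1fix : ∀ g : ↥(chevF4.group K), (g : GL chevF4.Idx K) ∈ G1 → σ g = g)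
  (hU : ∀ u : ↥(chevF4.group K), (u : GL chevF4.Idx K) ∈ chevF4.posUnipotent K → σ u = u →
    (u : GL chevF4.Idx K) ∈ G1)
  (s : ℕ → ↥(chevF4.monomialSubgroup K))
  (hsG : ∀ a < 2, ((s a : ↥(chevF4.monomialSubgroup K)) : GL chevF4.Idx K) ∈ G1)
  (hsθ : ∀ a < 2, theta chevF4 hF4 certF4 h31 (s a) = gp certF4.M (JF4 a))
  (hx : ∀ a < 2, ∃ x ∈ listSubgroup chevF4 K ((JF4 a).map chevF4.simple) ⊓ G1, x ≠ 1)
  (h25 : CommHyp chevF4 K)

include hσ h42 hG1 hG1fix hU hsG hsθ hx h25 in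
/-- the `(B, N)`-pair of a group of fixed points of the symmetry of `F₄(K)` containing the fixed points in `U`
and representatives of the two folded generators -/
theorem bnPair_F4 :
    ∃ P : Cfsg.BNPair ↥G1, P.B = (chevF4.borelSubgroup K ⊓ G1).subgroupOf G1 ∧
      P.N = (chevF4.monomialSubgroup K ⊓ G1).subgroupOf G1 ∧
      P.S = {x : ↥G1 | ∃ a < 2, (x : GL chevF4.Idx K) = (s a : GL chevF4.Idx K)} :=
  spec_bnPair2 chevF4 hF4 certF4 h31 hσ rootInjOK_F4 h42 G1 hG1 hG1fix hU 2 JF4 hJ_F4 s hsG hsθ hfs_F4 hrange_F4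
    hsq_F4 hdist_F4 hnegJ_F4 hx h25

include hσ h42 hG1 hG1fix hU hsG hsθ hx h25 in
/-- simplicity of such a group, by the criterion of Tits -/
theorem simple_F4_fixed (hsolv : Group.IsSolvable ↥(chevF4.borelSubgroup K)) (hperf : commutator ↥G1 = ⊤)
    (hcore : ((chevF4.borelSubgroup K ⊓ G1).subgroupOf G1).normalCore = ⊥) :
    IsSimpleGroup ↥G1 ∧ ¬ IsMulCommutative ↥G1 :=
  spec_simple2 chevF4 hF4 certF4 h31 hσ rootInjOK_F4 h42 G1 hG1 hG1fix hU 2 JF4 hJ_F4 s hsG hsθ hfs_F4 hrange_F4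
    hsq_F4 hdist_F4 hnegJ_F4 hx h25 (by norm_num) hchain_F4 hsolv hperf hcore

end F4

end Cfsg.Agent.Helper19.Twist
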