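import Cfsg.Agent.Helper19.Twist.SpecBN3
import Cfsg.Agent.Helper19.Twist.SpecF4
import Cfsg.Agent.Helper36.F4UFinal
import Cfsg.Agent.Helper36.F4Core
import Cfsg.Agent.Helper18.BNPairChev
import Cfsg.Agent.Helper18.UpStruct
import Cfsg.Agent.S1025
import Cfsg.Agent.S1050
import Cfsg.Agent.S1112

/-!
The `(B, N)`-pair and the simplicity of the Ree groups `²F₄(2^(2m+1))`, assembled from the general theorems of
`SpecBN3`, the combinatorial data of `SpecF4` and the work of helper36 on the automorphism `σ`, the fixed points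
in `U`, representatives of the folded generators, the core of `B¹` and perfectness.
-/

set_option autoImplicit false
set_option maxRecDepth 100000

namespace Cfsg.Agent.Helper19.Twist

open Cfsg Cfsg.Lie Cfsg.Agent.Helper18 Cfsg.Agent.Helper19.Cox Cfsg.Agent.Helper19.Poinc
open Cfsg.Agent.Helper36.SigmaF4 Cfsg.Agent.Helper36.SigmaChev Cfsg.Agent.Helper36.F4Class
  Cfsg.Agent.Helper36.B2Class Cfsg.Agent.Helper36.TwistF4

/-- the positive roots made negative by the two folded generators -/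
def XF4 (a : ℕ) : List ℕ := if a = 0 then [33, 24] else [27, 25, 28, 30]

/-- the roots of `XF4` are positive and made negative by the folded generators -/
def xF4OK : Bool :=
  (List.range 2).all fun a => (XF4 a).all fun r =>
    decide (24 ≤ r) && decide (r < 48) && decide (actW reflTabsF4 4 48 (JF4 a) r < 24)

theorem xF4OK_ok : xF4OK = true := by decide +kernel

theorem hX_F4 : ∀ a < 2, ∀ r ∈ XF4 a, (hlfOf chevF4 ≤ r ∧ r < chevF4.nroots) ∧
    Cfsg.Agent.Helper19.Cox.phi certF4.M certF4.Mx certF4.hI certF4.hB certF4.hMx (gp certF4.M (JF4 a)) r <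
      hlfOf chevF4 := by
  intro a ha r hr
  have h := xF4OK_ok
  unfold xF4OK at h
  rw [List.all_eq_true] at h
  have h1 := h a (List.mem_range.mpr ha)
  rw [List.all_eq_true] at h1
  have h2 := h1 r hr
  simp only [Bool.and_eq_true, decide_eq_true_eq] at h2
  rw [phi_gp, hlf_F4]
  exact ⟨⟨h2.1.1, h2.1.2⟩, h2.2⟩

theorem gp_F4_30 : gp certF4.M [3, 0] = gp certF4.M [0, 3] :=
  gp_eq_of_actW certF4 _ _ (by decide +kernel)

section F4

variable {K : Type*} [Field K] [Fintype K] {m : ℕ}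

/-- the data for the `(B, N)`-pair of `²F₄(2^(2m+1))` -/
theorem exists_data_F4 (hK : Fintype.card K = 2 ^ (2 * m + 1)) :
    ∃ (σ : ↥(chevF4.group K) ≃* ↥(chevF4.group K)) (c : ℕ → K →+* K), Spec chevF4 σ rho c ∧
      twistedF4 K (2 ^ m) ≤ chevF4.group K ∧
      (∀ g : ↥(chevF4.group K), (g : GL chevF4.Idx K) ∈ twistedF4 K (2 ^ m) → σ g = g) ∧
      (∀ u : ↥(chevF4.group K), (u : GL chevF4.Idx K) ∈ chevF4.posUnipotent K → σ u = u →
        (u : GL chevF4.Idx K) ∈ twistedF4 K (2 ^ m)) ∧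
      ∃ s : ℕ → ↥(chevF4.monomialSubgroup K),
        (∀ a < 2, ((s a : ↥(chevF4.monomialSubgroup K)) : GL chevF4.Idx K) ∈ twistedF4 K (2 ^ m)) ∧
        (∀ a < 2, theta chevF4 hF4 certF4 (nConjHyp chevF4 hF4) (s a) = gp certF4.M (JF4 a)) ∧
        (∀ a < 2, ∃ x ∈ listSubgroup chevF4 K (XF4 a) ⊓ twistedF4 K (2 ^ m), x ≠ 1) ∧
        ((chevF4.borelSubgroup K ⊓ twistedF4 K (2 ^ m)).subgroupOf (twistedF4 K (2 ^ m))).normalCore = ⊥ := by
  have : CharP K 2 := charP_two hK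
  obtain ⟨σ, hσ⟩ := exists_sigma hK
  have hfixG := twisted_le_FixG hK hσ
  have hG1 : twistedF4 K (2 ^ m) ≤ chevF4.group K := fun g hg => (hfixG hg).1
  have hG1fix : ∀ g : ↥(chevF4.group K), (g : GL chevF4.Idx K) ∈ twistedF4 K (2 ^ m) → σ g = g :=
    fun g hg => (mem_FixG g).mp (hfixG hg)
  obtain ⟨hPN, hPθ⟩ := mP_theta (K := K) m
  obtain ⟨mS, hSG, hSN, hSθ⟩ := exists_mS_theta hK hσ
  refine ⟨σ, cF m, hσ, hG1, hG1fix, hU_F4 hK hσ,
    fun a => if a = 0 then ⟨mP m, hPN⟩ else ⟨mS, hSN⟩, ?_, ?_, ?_, core_trivial hK hσ⟩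
  · intro a ha
    interval_cases a
    · exact mP_mem_twisted m
    · exact hSG
  · intro a ha
    interval_cases a
    · show thetaF4 ⟨mP m, hPN⟩ = gp certF4.M [0, 3]
      rw [hPθ, gp_F4_30]
    · exact hSθ
  · intro a ha
    interval_cases a
    · refine ⟨((PpG m (1 : K) : ↥(chevF4.group K)) : GL chevF4.Idx K),
        Subgroup.mem_inf.mpr ⟨PpG_mem_list (m := m) (1 : K), PpG_mem (m := m) (1 : K)⟩, ?_⟩
      intro h1
      have h2 : PpG m (1 : K) = XG 24 1 * XG 33 (Cfsg.Agent.Helper36.F4Class.phi m 1) := (commute_P _ _).eq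
      rw [h2, Subgroup.coe_mul, XG_val, XG_val] at h1
      have h3 : xGL chevF4 K 24 (1 : K) * xGL chevF4 K 33 (Cfsg.Agent.Helper36.F4Class.phi m (1 : K)) =
          xGL chevF4 K 24 (0 : K) * xGL chevF4 K 33 (0 : K) := by
        rw [h1, Cfsg.Agent.Helper18.xGL_zero' chevF4 hF4, Cfsg.Agent.Helper18.xGL_zero' chevF4 hF4, mul_one]
      exact one_ne_zero (two_inj _ _ _ _ h3).1
    · refine ⟨((BpG m (1 : K) 0 : ↥(chevF4.group K)) : GL chevF4.Idx K),
        Subgroup.mem_inf.mpr ⟨BpG_mem_list (m := m) (1 : K) 0, BpG_mem (m := m) (1 : K) 0⟩, ?_⟩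
      intro h1
      have h2 : BpG m (1 : K) 0 = 1 := Subtype.ext h1
      unfold BpG beta at h2
      rw [← Cfsg.Agent.Helper36.B2Class.nf_zero (relPG (K := K))] at h2
      exact one_ne_zero (nfG_inj _ _ _ _ _ _ _ _ h2).2.1

/-- the `(B, N)`-pair of `²F₄(2^(2m+1))` -/
theorem bnPair_twistedF4 (hK : Fintype.card K = 2 ^ (2 * m + 1)) :
    ∃ P : Cfsg.BNPair ↥(twistedF4 K (2 ^ m)),
      P.B = (chevF4.borelSubgroup K ⊓ twistedF4 K (2 ^ m)).subgroupOf (twistedF4 K (2 ^ m)) ∧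
      P.N = (chevF4.monomialSubgroup K ⊓ twistedF4 K (2 ^ m)).subgroupOf (twistedF4 K (2 ^ m)) := by
  obtain ⟨σ, c, hσ, hG1, hG1fix, hU, s, hsG, hsθ, hx, -⟩ := exists_data_F4 (m := m) hK
  have h25 : CommHyp chevF4 K :=
    fun r s hr hs h1 h2 t u => Cfsg.Agent.S1025.result chevF4 hF4 r s hr hs h1 h2 t u
  have h42 : H42 chevF4 K := exists_bnPair (F := K) chevF4 hF4 h25
  obtain ⟨P, hB, hN, -⟩ := spec_bnPair3 chevF4 hF4 certF4 (nConjHyp chevF4 hF4) hσ rootInjOK_F4 h42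
    (twistedF4 K (2 ^ m)) hG1 hG1fix hU 2 JF4 hJ_F4 s hsG hsθ hfs_F4 hrange_F4 hsq_F4 hdist_F4 XF4 hX_F4 hx h25
  exact ⟨P, hB, hN⟩

/-- simplicity of `²F₄(2^(2m+1))` for `m ≥ 1` -/
theorem simple_twistedF4 (hm : 1 ≤ m) (hK : Fintype.card K = 2 ^ (2 * m + 1)) :
    IsSimpleGroup ↥(twistedF4 K (2 ^ m)) ∧ ¬ IsMulCommutative ↥(twistedF4 K (2 ^ m)) := by
  obtain ⟨σ, c, hσ, hG1, hG1fix, hU, s, hsG, hsθ, hx, hcore⟩ := exists_data_F4 (m := m) hK
  have h25 : CommHyp chevF4 K :=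
    fun r s hr hs h1 h2 t u => Cfsg.Agent.S1025.result chevF4 hF4 r s hr hs h1 h2 t u
  have h42 : H42 chevF4 K := exists_bnPair (F := K) chevF4 hF4 h25
  exact spec_simple3 chevF4 hF4 certF4 (nConjHyp chevF4 hF4) hσ rootInjOK_F4 h42
    (twistedF4 K (2 ^ m)) hG1 hG1fix hU 2 JF4 hJ_F4 s hsG hsθ hfs_F4 hrange_F4 hsq_F4 hdist_F4 XF4 hX_F4 hx h25
    (by norm_num) hchain_F4 (Cfsg.Agent.S1050.result chevF4 hF4) (Cfsg.Agent.S1112.result hK hm) hcore

end F4

end Cfsg.Agent.Helper19.Twist
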