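import Cfsg.Agent.Helper19.Twist.SigmaProd

/-!
The fixed points of the graph-field automorphism on the subgroup generated by the root subgroups
of a closed list of positive roots made of contiguous classes: they are the ordered products with
`σ`-equivariant coefficient families.
-/

set_option autoImplicit false
set_option maxRecDepth 100000
set_option linter.unusedSectionVars false

namespace Cfsg.Agent.Helper19.Twist

open Cfsg Cfsg.Lie Cfsg.Agent.Helper18 Cfsg.Agent.Helper40.GraphAut Cfsg.Agent.Helper40.UProd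
  Cfsg.Agent.Helper40.ChevAdd

section

variable {K : Type*} [Field K] {D : ChevalleyDatum}
  (hD : D ∈ [chevG2, chevB2, chevD4, chevF4, chevE6, chevE7, chevE8])
  {φ : ℕ → ℤ} {wit : ℕ → ℕ × ℕ} (hg : gradeOK' D φ wit = true)
  (ρ ρ' π π' : ℕ → ℕ) (ε : ℕ → ℤ) (hp : permsOK D ρ ρ' π π' ε = true) (f : K ≃+* K)
  (h : allOK D ρ ρ' π π' ε = true)

/-- `σ`-equivariant coefficient families supported on `P` -/
def TS (π' : ℕ → ℕ) (ε : ℕ → ℤ) (f : K ≃+* K) (P : List ℕ) : Set (ℕ → K) :=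
  {t | (∀ r, r ∉ P → t r = 0) ∧ ∀ s ∈ P, t s = tw π' ε f t s}

include hD hg in
theorem pwG_injOn (P : List ℕ) (hP : ClosedList D φ P) (t t' : ℕ → K) (ht : ∀ r, r ∉ P → t r = 0)
    (ht' : ∀ r, r ∉ P → t' r = 0) (heq : pwG D K P t = pwG D K P t') : t = t' := by
  funext r
  by_cases hr : r ∈ P
  · have h1 : pw D P t = pw D P t' := by
      rw [← pwG_val D hD, ← pwG_val D hD, heq]
    exact pw_inj' hg (addOK_of_mem hD) P hP.pos hP.sorted t t' h1 r hr
  · rw [ht r hr, ht' r hr]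

include hD hg h in
theorem pwG_mem_Fix_iff (Cl : List (List ℕ)) (hP : ClosedList D φ Cl.flatten) (hcl : classOK D π Cl = true)
    (t : ℕ → K) (ht : ∀ r, r ∉ Cl.flatten → t r = 0) :
    pwG D K Cl.flatten t ∈ Fix D ρ ρ' π π' ε hp f ↔ t ∈ TS π' ε f Cl.flatten := by
  have hL : ∀ r ∈ Cl.flatten, r < D.nroots := fun r hr => (hP.pos r hr).1
  rw [mem_Fix, sigma_pwG D hD ρ ρ' π π' ε hp f h Cl hcl hL]
  constructor
  · intro heq
    refine ⟨ht, ?_⟩
    intro s hs
    have h1 : pw D Cl.flatten (tw π' ε f t) = pw D Cl.flatten t := by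
      rw [← pwG_val D hD, ← pwG_val D hD, heq]
    exact (pw_inj' hg (addOK_of_mem hD) _ hP.pos hP.sorted _ _ h1 s hs).symm
  · rintro ⟨-, h2⟩
    apply pwG_congr
    intro r hr
    exact (h2 r hr).symm

include hD hg in
/-- every element of the subgroup is an ordered product with coefficients supported on the list -/
theorem exists_pwG (P : List ℕ) (hP : ClosedList D φ P) (g : GL D.Idx K) (hgU : g ∈ listSubgroup D K P) :
    ∃ t : ℕ → K, (∀ r, r ∉ P → t r = 0) ∧ g = pwG D K P t := by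
  classical
  obtain ⟨t, ht⟩ := exists_pw_closed hD hg P hP g hgU
  refine ⟨fun r => if r ∈ P then t r else 0, fun r hr => by simp [hr], ?_⟩
  apply Units.ext
  rw [ht, pwG_val D hD]
  apply pw_congr
  intro r hr
  simp [hr]

include hD in
theorem pwG_mem_listSubgroup (P : List ℕ) (t : ℕ → K) : pwG D K P t ∈ listSubgroup D K P := by
  unfold pwG
  apply Subgroup.list_prod_mem
  intro g hg'
  obtain ⟨r, hr, rfl⟩ := List.mem_map.mp hg'
  apply Subgroup.subset_closure
  exact ⟨r, t r, hr, xGL_val D _ (triOK_of_mem D hD) r (t r)⟩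

include hD hg h in
/-- the fixed points of `σ` on the subgroup generated by the root subgroups of the list -/
theorem fix_listSubgroup_eq (Cl : List (List ℕ)) (hP : ClosedList D φ Cl.flatten) (hcl : classOK D π Cl = true) :
    ((listSubgroup D K Cl.flatten ⊓ Fix D ρ ρ' π π' ε hp f : Subgroup (GL D.Idx K)) : Set (GL D.Idx K)) =
      pwG D K Cl.flatten '' TS π' ε f Cl.flatten := by
  ext g
  constructor
  · rintro ⟨hg1, hg2⟩
    obtain ⟨t, ht, rfl⟩ := exists_pwG hD hg _ hP g hg1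
    exact ⟨t, (pwG_mem_Fix_iff hD hg ρ ρ' π π' ε hp f h Cl hP hcl t ht).mp hg2, rfl⟩
  · rintro ⟨t, ht, rfl⟩
    exact ⟨pwG_mem_listSubgroup hD _ t, (pwG_mem_Fix_iff hD hg ρ ρ' π π' ε hp f h Cl hP hcl t ht.1).mpr ht⟩

include hD hg h in
theorem ncard_fix_listSubgroup (Cl : List (List ℕ)) (hP : ClosedList D φ Cl.flatten)
    (hcl : classOK D π Cl = true) :
    Nat.card ↥(listSubgroup D K Cl.flatten ⊓ Fix D ρ ρ' π π' ε hp f) = (TS π' ε f Cl.flatten).ncard := by
  have e0 : Nat.card ↥(listSubgroup D K Cl.flatten ⊓ Fix D ρ ρ' π π' ε hp f) =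
      ((listSubgroup D K Cl.flatten ⊓ Fix D ρ ρ' π π' ε hp f : Subgroup (GL D.Idx K)) :
        Set (GL D.Idx K)).ncard := (Nat.card_coe_set_eq _)
  rw [e0, fix_listSubgroup_eq hD hg ρ ρ' π π' ε hp f h Cl hP hcl]
  apply Set.InjOn.ncard_image
  intro t ht t' ht' heq
  exact pwG_injOn hD hg _ hP t t' ht.1 ht'.1 heq

end

end Cfsg.Agent.Helper19.Twist
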