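import Cfsg.Agent.Helper19.Poinc.Bruhat

set_option autoImplicit false
set_option maxRecDepth 100000
set_option linter.unusedSectionVars false

/-!
Folding a Weyl group along a symmetry of the Dynkin diagram: the homomorphism from the Coxeter
group of the folded diagram onto the subgroup of elements commuting with the symmetry, its
injectivity, and the fact that every element commuting with the symmetry is in its range.
-/

namespace Cfsg.Agent.Helper19.Twist

open Cfsg Cfsg.Lie Cfsg.Agent.Helper18 Cfsg.Agent.Helper19.Cox Cfsg.Agent.Helper19.Poinc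

/-! ### generalities on table actions -/

theorem tact_lt' {T : List ℕ} {n d : ℕ} (hI : checkInvol T n d = true) (i x : ℕ) (hx : x < d) :
    tact T n d i x < d := by
  by_contra h
  have h1 := tact_invol hI i x
  rw [tact_of_not_lt h] at h1
  rw [h1] at h
  exact h hx

theorem actW_lt' {T : List ℕ} {n d : ℕ} (hI : checkInvol T n d = true) (w : List ℕ) (x : ℕ) (hx : x < d) :
    actW T n d w x < d := by
  induction w with
  | nil => exact hx
  | cons i w ih => exact tact_lt' hI i _ ih

theorem actW_ge' (T : List ℕ) (n d : ℕ) (w : List ℕ) (x : ℕ) (hx : ¬ x < d) : actW T n d w x = x := by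
  induction w with
  | nil => rfl
  | cons i w ih =>
    have e3 : actW T n d (i :: w) x = tact T n d i (actW T n d w x) := rfl
    rw [e3, ih, tact_of_not_lt hx]

theorem actW_append' (T : List ℕ) (n d : ℕ) (w w' : List ℕ) (x : ℕ) :
    actW T n d (w ++ w') x = actW T n d w (actW T n d w' x) := by
  unfold actW
  rw [List.foldr_append]

section Gen

variable {n : ℕ} (M : CoxeterMatrix (Fin n)) {T : List ℕ} {d : ℕ} (Mx : ℕ → ℕ → ℕ)
  (hI : checkInvol T n d = true) (hB : checkBraid Mx T n d = true)
  (hMx : ∀ a b (ha : a < n) (hb : b < n), M ⟨a, ha⟩ ⟨b, hb⟩ = Mx a b)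

theorem phi_lt' (g : M.Group) (x : ℕ) (hx : x < d) : phi M Mx hI hB hMx g x < d := by
  obtain ⟨w, -, rfl⟩ := exists_word M g
  rw [phi_gp]
  exact actW_lt' hI w x hx

theorem phi_ge' (g : M.Group) (x : ℕ) (hx : ¬ x < d) : phi M Mx hI hB hMx g x = x := by
  obtain ⟨w, -, rfl⟩ := exists_word M g
  rw [phi_gp]
  exact actW_ge' T n d w x hx

end Gen

/-! ### the checks -/

/-- the images of the generators satisfy the relations of the folded diagram -/
def foldRelOK (Mx1 : ℕ → ℕ → ℕ) (T : List ℕ) (n d n1 : ℕ) (J : ℕ → List ℕ) : Bool :=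
  (List.range n1).all fun a => (List.range n1).all fun b => (List.range d).all fun x =>
    decide ((fun y => actW T n d (J a) (actW T n d (J b) y))^[Mx1 a b] x = x)

/-- the class map is equivariant -/
def foldEqvOK (T : List ℕ) (n d : ℕ) (T1 : List ℕ) (n1 d1 : ℕ) (J : ℕ → List ℕ) (cls : ℕ → ℕ) : Bool :=
  (List.range d).all fun x => decide (cls x < d1) && (List.range n1).all fun a =>
    decide (cls (actW T n d (J a) x) = tact T1 n1 d1 a (cls x))

/-- the class map is onto -/
def foldSurjOK (d d1 : ℕ) (cls : ℕ → ℕ) : Bool :=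
  (List.range d1).all fun y => (List.range d).any fun x => cls x == y

/-- the symmetry preserves the roots, the negative roots, and commutes with the folded generators -/
def foldPiOK (T : List ℕ) (n d hlf n1 : ℕ) (J : ℕ → List ℕ) (π : ℕ → ℕ) : Bool :=
  (List.range d).all fun x => decide (π x < d) && (decide (hlf ≤ x) || decide (π x < hlf)) &&
    (List.range n1).all fun a => decide (actW T n d (J a) (π x) = π (actW T n d (J a) x))

/-- the classes cover the nodes and are orbits of the symmetry -/
def foldOrbOK (n n1 : ℕ) (J : ℕ → List ℕ) (π : ℕ → ℕ) (alphas : List ℕ) : Bool :=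
  ((List.range n).all fun i => (List.range n1).any fun a => (J a).contains i) &&
  (List.range n1).all fun a => (J a).all fun i => decide (i < n) && (J a).all fun j =>
    (i == j) || (π (alphas.getD i 0) == alphas.getD j 0) || (π (π (alphas.getD i 0)) == alphas.getD j 0)

/-- the nodes of a class are pairwise orthogonal -/
def foldOrthOK (T : List ℕ) (n d n1 : ℕ) (J : ℕ → List ℕ) (alphas : List ℕ) : Bool :=
  (List.range n1).all fun a => (List.range (J a).length).all fun k =>
    decide (actW T n d ((J a).take k) (alphas.getD ((J a).getD k 0) 0) = alphas.getD ((J a).getD k 0) 0)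

section Fold

variable {D D1 : ChevalleyDatum} (hD : D ∈ [chevG2, chevB2, chevD4, chevF4, chevE6, chevE7, chevE8])
  (C : Cert D) (C1 : Cert D1) (J : ℕ → List ℕ) (cls π : ℕ → ℕ)

/-- the big Weyl group acting on root indices -/
noncomputable abbrev ph : C.M.Group →* Equiv.Perm ℕ := phi C.M C.Mx C.hI C.hB C.hMx

theorem iota_liftable (hrel : foldRelOK C1.Mx C.tabs D.rank D.nroots D1.rank J = true) :
    C1.M.IsLiftable (fun a : Fin D1.rank => gp C.M (J a.val)) := by
  intro a b
  apply C.hinj
  rw [map_one, C1.hMx a.1 b.1 a.2 b.2]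
  apply Equiv.ext
  intro x
  rw [map_pow, Equiv.Perm.coe_pow, Equiv.Perm.one_apply]
  have hfun : ⇑(phi C.M C.Mx C.hI C.hB C.hMx (gp C.M (J a.val) * gp C.M (J b.val))) =
      fun y => actW C.tabs D.rank D.nroots (J a.val) (actW C.tabs D.rank D.nroots (J b.val) y) := by
    funext y
    rw [map_mul, Equiv.Perm.mul_apply, phi_gp, phi_gp]
  rw [hfun]
  by_cases hx : x < D.nroots
  · unfold foldRelOK at hrel
    rw [List.all_eq_true] at hrel
    have h1 := hrel a.1 (List.mem_range.mpr a.2)
    rw [List.all_eq_true] at h1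
    have h2 := h1 b.1 (List.mem_range.mpr b.2)
    rw [List.all_eq_true] at h2
    exact of_decide_eq_true (h2 x (List.mem_range.mpr hx))
  · apply Function.iterate_fixed
    show actW C.tabs D.rank D.nroots (J a.val) (actW C.tabs D.rank D.nroots (J b.val) x) = x
    rw [actW_ge' _ _ _ _ _ hx, actW_ge' _ _ _ _ _ hx]

variable (hrel : foldRelOK C1.Mx C.tabs D.rank D.nroots D1.rank J = true)

/-- the folding homomorphism -/
noncomputable def iota : C1.M.Group →* C.M.Group :=
  C1.M.toCoxeterSystem.lift ⟨_, iota_liftable C C1 J hrel⟩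

theorem iota_sg (a : ℕ) (ha : a < D1.rank) : iota C C1 J hrel (sg C1.M a) = gp C.M (J a) := by
  rw [sg_of_lt C1.M ha, iota, CoxeterSystem.lift_apply_simple]

variable (heqv : foldEqvOK C.tabs D.rank D.nroots C1.tabs D1.rank D1.nroots J cls = true)

include heqv in
theorem cls_lt (x : ℕ) (hx : x < D.nroots) : cls x < D1.nroots := by
  unfold foldEqvOK at heqv
  rw [List.all_eq_true] at heqv
  have h1 := heqv x (List.mem_range.mpr hx)
  rw [Bool.and_eq_true, decide_eq_true_eq] at h1
  exact h1.1

include heqv in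
theorem cls_gen (a : ℕ) (ha : a < D1.rank) (x : ℕ) (hx : x < D.nroots) :
    cls (actW C.tabs D.rank D.nroots (J a) x) = tact C1.tabs D1.rank D1.nroots a (cls x) := by
  unfold foldEqvOK at heqv
  rw [List.all_eq_true] at heqv
  have h1 := heqv x (List.mem_range.mpr hx)
  rw [Bool.and_eq_true, List.all_eq_true] at h1
  exact of_decide_eq_true (h1.2 a (List.mem_range.mpr ha))

include heqv in
theorem cls_phi (v : C1.M.Group) (x : ℕ) (hx : x < D.nroots) :
    cls (phi C.M C.Mx C.hI C.hB C.hMx (iota C C1 J hrel v) x) =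
      phi C1.M C1.Mx C1.hI C1.hB C1.hMx v (cls x) := by
  obtain ⟨w, hw, rfl⟩ := exists_word C1.M v
  induction w with
  | nil => simp
  | cons a w ih =>
    have ha := hw a List.mem_cons_self
    have hw' : ∀ j ∈ w, j < D1.rank := fun j hj => hw j (List.mem_cons_of_mem _ hj)
    rw [gp_cons, map_mul, map_mul, Equiv.Perm.mul_apply, map_mul, Equiv.Perm.mul_apply, iota_sg C C1 J hrel a ha,
      phi_gp, cls_gen C C1 J cls heqv a ha _ (phi_lt' C.M C.Mx C.hI C.hB C.hMx _ x hx), ih hw', phi_sg]

variable (hsurj : foldSurjOK D.nroots D1.nroots cls = true)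

include heqv hsurj in
theorem iota_injective : Function.Injective (iota C C1 J hrel) := by
  rw [injective_iff_map_eq_one]
  intro v hv
  apply C1.hinj
  rw [map_one]
  apply Equiv.ext
  intro y
  rw [Equiv.Perm.one_apply]
  by_cases hy : y < D1.nroots
  · unfold foldSurjOK at hsurj
    rw [List.all_eq_true] at hsurj
    have h1 := hsurj y (List.mem_range.mpr hy)
    rw [List.any_eq_true] at h1
    obtain ⟨x, hx, hxy⟩ := h1
    rw [beq_iff_eq] at hxy
    have h2 := cls_phi C C1 J cls hrel heqv v x (List.mem_range.mp hx)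
    rw [hv, map_one, Equiv.Perm.one_apply, hxy] at h2
    exact h2.symm
  · exact phi_ge' C1.M C1.Mx C1.hI C1.hB C1.hMx v y hy

end Fold

end Cfsg.Agent.Helper19.Twist
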