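import Cfsg.Agent.Helper19.Twist.FoldFix
import Cfsg.Agent.S1081

set_option autoImplicit false
set_option maxRecDepth 100000

/-!
The folding data `D₄ → G₂` (triality) and `E₆ → F₄`.
-/

namespace Cfsg.Agent.Helper19.Twist

open Cfsg Cfsg.Lie Cfsg.Agent.Helper18 Cfsg.Agent.Helper19.Cox Cfsg.Agent.Helper19.Poinc
open Cfsg.Agent.S1081

/-- classes of nodes of `D₄` under triality: `{p₁, p₃, p₄}`, `{p₂}` -/
def JD4 : ℕ → List ℕ := fun a => ([[0, 2, 3], [1]] : List (List ℕ)).getD a []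

/-- the class of a root of `D₄`, as a root of `G₂` -/
def clsD4 : ℕ → ℕ := fun x =>
  ([0, 1, 2, 2, 3, 4, 2, 3, 3, 5, 4, 4, 7, 7, 6, 8, 8, 9, 7, 8, 9, 9, 10, 11] : List ℕ).getD x 0

/-- classes of nodes of `E₆` under the symmetry: `{p₁, p₆}`, `{p₃, p₅}`, `{p₄}`, `{p₂}` -/
def JE6 : ℕ → List ℕ := fun a => ([[0, 5], [2, 4], [3], [1]] : List (List ℕ)).getD a []

/-- the class of a root of `E₆`, as a root of `F₄` -/
def clsE6 : ℕ → ℕ := fun x =>
  ([0, 1, 2, 3, 7, 3, 4, 8, 5, 9, 11, 6, 10, 12, 13, 14, 7, 8, 15, 9, 16, 18, 11, 18, 21, 23, 10, 17, 19, 20, 12,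
    19, 22, 13, 20, 14, 33, 27, 34, 25, 28, 35, 27, 28, 30, 37, 24, 26, 29, 36, 29, 31, 38, 32, 39, 40, 33, 34, 35,
    37, 41, 36, 38, 42, 39, 43, 44, 40, 44, 45, 46, 47] : List ℕ).getD x 0

theorem relOK_D4 : foldRelOK certG2.Mx certD4.tabs chevD4.rank chevD4.nroots chevG2.rank JD4 = true := by
  decide +kernel
theorem eqvOK_D4 : foldEqvOK certD4.tabs chevD4.rank chevD4.nroots certG2.tabs chevG2.rank chevG2.nroots
    JD4 clsD4 = true := by decide +kernel
theorem surjOK_D4 : foldSurjOK chevD4.nroots chevG2.nroots clsD4 = true := by decide +kernel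
theorem piOK_D4 : foldPiOK certD4.tabs chevD4.rank chevD4.nroots (hlfOf chevD4) chevG2.rank JD4 pi1 = true := by
  decide +kernel
theorem orbOK_D4 : foldOrbOK chevD4.rank chevG2.rank JD4 pi1 certD4.alphas = true := by decide +kernel
theorem orthOK_D4 : foldOrthOK certD4.tabs chevD4.rank chevD4.nroots chevG2.rank JD4 certD4.alphas = true := by
  decide +kernel

theorem relOK_E6 : foldRelOK certF4.Mx certE6.tabs chevE6.rank chevE6.nroots chevF4.rank JE6 = true := by
  decide +kernel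
theorem eqvOK_E6 : foldEqvOK certE6.tabs chevE6.rank chevE6.nroots certF4.tabs chevF4.rank chevF4.nroots
    JE6 clsE6 = true := by decide +kernel
theorem surjOK_E6 : foldSurjOK chevE6.nroots chevF4.nroots clsE6 = true := by decide +kernel
theorem piOK_E6 : foldPiOK certE6.tabs chevE6.rank chevE6.nroots (hlfOf chevE6) chevF4.rank JE6 pi0 = true := by
  decide +kernel
theorem orbOK_E6 : foldOrbOK chevE6.rank chevF4.rank JE6 pi0 certE6.alphas = true := by decide +kernel
theorem orthOK_E6 : foldOrthOK certE6.tabs chevE6.rank chevE6.nroots chevF4.rank JE6 certE6.alphas = true := by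
  decide +kernel

/-- `W(G₂) → W(D₄)` -/
noncomputable def iotaD4 : (CoxeterMatrix.G₂).Group →* (Cfsg.Lie.coxeterD4).Group :=
  iota certD4 certG2 JD4 relOK_D4

theorem iotaD4_injective : Function.Injective iotaD4 :=
  iota_injective certD4 certG2 JD4 clsD4 relOK_D4 eqvOK_D4 surjOK_D4

theorem isFix_le_range_D4 (w : (Cfsg.Lie.coxeterD4).Group) (hw : IsFix certD4 pi1 w) : w ∈ iotaD4.range :=
  isFix_le_range (by simp) certD4 certG2 JD4 pi1 piOK_D4 relOK_D4 orbOK_D4 orthOK_D4 w hw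

/-- `W(F₄) → W(E₆)` -/
noncomputable def iotaE6 : (CoxeterMatrix.F₄).Group →* (CoxeterMatrix.E₆).Group :=
  iota certE6 certF4 JE6 relOK_E6

theorem iotaE6_injective : Function.Injective iotaE6 :=
  iota_injective certE6 certF4 JE6 clsE6 relOK_E6 eqvOK_E6 surjOK_E6

theorem isFix_le_range_E6 (w : (CoxeterMatrix.E₆).Group) (hw : IsFix certE6 pi0 w) : w ∈ iotaE6.range :=
  isFix_le_range (by simp) certE6 certF4 JE6 pi0 piOK_E6 relOK_E6 orbOK_E6 orthOK_E6 w hw

end Cfsg.Agent.Helper19.Twist
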