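import Cfsg.Agent.Helper19.Twist.Sigma
import Cfsg.Agent.Helper18.UpStruct
import Cfsg.Agent.S1025
import Cfsg.Prelude.Def_LieTwisted

set_option autoImplicit false
set_option maxRecDepth 100000

/-!
The graph-field automorphisms for `³D₄` and `²E₆`, and `G¹ ≤ Fix σ`.
-/

namespace Cfsg.Agent.Helper19.Twist

open Cfsg Cfsg.Lie Cfsg.Agent.Helper18 Cfsg.Agent.Helper40.GraphAut Cfsg.Agent.S1081

theorem permsOK_D4 : permsOK chevD4 rho1 rhoInv1 pi1 piInv1 eps1 = true := by
  have h := allOK1
  unfold allOK at h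
  simp only [Bool.and_eq_true] at h
  exact h.1.1

theorem permsOK_E6 : permsOK chevE6 rho0 rhoInv0 pi0 piInv0 eps0 = true := by
  have h := allOK0
  unfold allOK at h
  simp only [Bool.and_eq_true] at h
  exact h.1.1

theorem twistOK_D4 : twistOK chevD4 pi1 eps1 (hlfOf chevD4) = true := by decide +kernel
theorem twistOK_E6 : twistOK chevE6 pi0 eps0 (hlfOf chevE6) = true := by decide +kernel
theorem isoOK_D4 : isoOK chevD4 pi1 piInv1 = true := by decide +kernel
theorem isoOK_E6 : isoOK chevE6 pi0 piInv0 = true := by decide +kernel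

theorem memD4 : chevD4 ∈ [chevG2, chevB2, chevD4, chevF4, chevE6, chevE7, chevE8] := by simp
theorem memE6 : chevE6 ∈ [chevG2, chevB2, chevD4, chevF4, chevE6, chevE7, chevE8] := by simp

section

variable {K : Type*} [Field K]

/-- the graph-field automorphism for `³D₄` -/
noncomputable def sigD4 (f : K ≃+* K) : GL chevD4.Idx K ≃* GL chevD4.Idx K :=
  sigmaGL chevD4 rho1 rhoInv1 pi1 piInv1 eps1 permsOK_D4 f

/-- the graph-field automorphism for `²E₆` -/
noncomputable def sigE6 (f : K ≃+* K) : GL chevE6.Idx K ≃* GL chevE6.Idx K :=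
  sigmaGL chevE6 rho0 rhoInv0 pi0 piInv0 eps0 permsOK_E6 f

/-- the fixed points of `sigD4` -/
noncomputable def FixD4 (f : K ≃+* K) : Subgroup (GL chevD4.Idx K) :=
  Fix chevD4 rho1 rhoInv1 pi1 piInv1 eps1 permsOK_D4 f

/-- the fixed points of `sigE6` -/
noncomputable def FixE6 (f : K ≃+* K) : Subgroup (GL chevE6.Idx K) :=
  Fix chevE6 rho0 rhoInv0 pi0 piInv0 eps0 permsOK_E6 f

theorem mem_FixD4 (f : K ≃+* K) (g : GL chevD4.Idx K) : g ∈ FixD4 f ↔ sigD4 f g = g := Iff.rfl
theorem mem_FixE6 (f : K ≃+* K) (g : GL chevE6.Idx K) : g ∈ FixE6 f ↔ sigE6 f g = g := Iff.rfl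

theorem sigD4_xGL (f : K ≃+* K) (r : ℕ) (hr : r < chevD4.nroots) (t : K) :
    sigD4 f (xGL chevD4 K r t) = xGL chevD4 K (pi1 r) (((eps1 r : ℤ) : K) * f t) :=
  sigmaGL_xGL chevD4 rho1 rhoInv1 pi1 piInv1 eps1 permsOK_D4 f memD4 allOK1 r hr t

theorem sigE6_xGL (f : K ≃+* K) (r : ℕ) (hr : r < chevE6.nroots) (t : K) :
    sigE6 f (xGL chevE6 K r t) = xGL chevE6 K (pi0 r) (((eps0 r : ℤ) : K) * f t) :=
  sigmaGL_xGL chevE6 rho0 rhoInv0 pi0 piInv0 eps0 permsOK_E6 f memE6 allOK0 r hr t

/-- root elements without common sums commute -/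
theorem xGL_comm_of_commTerms_nil (D : ChevalleyDatum)
    (hD : D ∈ [chevG2, chevB2, chevD4, chevF4, chevE6, chevE7, chevE8]) (r s : ℕ)
    (hr : r < D.nroots) (hs : s < D.nroots) (h1 : s ≠ r) (h2 : s ≠ D.neg r)
    (hnil : D.commTerms r s = []) (t u : K) :
    xGL D K r t * xGL D K s u = xGL D K s u * xGL D K r t := by
  have h25 : CommHyp D K := fun r s hr hs h1 h2 t u => Cfsg.Agent.S1025.result D hD r s hr hs h1 h2 t u
  have h := comm_xGL D hD h25 r s hr hs h1 h2 t u
  have e : D.commWord K r s t u = [] := by unfold ChevalleyDatum.commWord; rw [hnil]; rfl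
  rw [e] at h
  have e2 : wordGL D K ([] : List (ℕ × K)) = 1 := by simp [wordGL]
  rw [e2, mul_one] at h
  calc xGL D K r t * xGL D K s u = xGL D K r t * ((xGL D K r t)⁻¹ * xGL D K s u * xGL D K r t) := by rw [h]
    _ = xGL D K s u * xGL D K r t := by group

end

section Fixed

variable {K : Type*} [Field K] [Fintype K] {q : ℕ}

theorem twistedD4_le_FixD4 (f : K ≃+* K) (hf : ∀ t, f t = t ^ q) (hK : Fintype.card K = q ^ 3) :
    twistedD4 K q ≤ FixD4 f := by
  have htri := triOK_of_mem chevD4 memD4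
  unfold twistedD4 ChevalleyDatum.genSubgroup
  rw [Subgroup.closure_le]
  rintro g ⟨w, hw, hg⟩
  rw [SetLike.mem_coe, mem_FixD4]
  rcases hw with ⟨t, ht, r, hr, rfl⟩ | ⟨t, rs, hrs, rfl⟩
  · have e : g = xGL chevD4 K r t := Units.ext (by
      rw [hg, xGL_val chevD4 _ htri]; simp [ChevalleyDatum.wordMat])
    simp only [d4p2, d4m2, List.mem_cons, List.not_mem_nil, or_false] at hr
    rcases hr with rfl | rfl
    · rw [e, sigD4_xGL f _ (by decide)]
      have e1 : pi1 14 = 14 := rfl
      have e2 : eps1 14 = 1 := rfl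
      rw [e1, e2, hf, ht, Int.cast_one, one_mul]
    · rw [e, sigD4_xGL f _ (by decide)]
      have e1 : pi1 9 = 9 := rfl
      have e2 : eps1 9 = 1 := rfl
      rw [e1, e2, hf, ht, Int.cast_one, one_mul]
  · simp only [d4p1, d4p3, d4p4, d4m1, d4m3, d4m4, List.mem_cons, List.not_mem_nil, or_false] at hrs
    rcases hrs with rfl | rfl
    · have e : g = xGL chevD4 K 18 t * xGL chevD4 K 13 (t ^ q) * xGL chevD4 K 12 (t ^ q ^ 2) := Units.ext (by
        rw [hg, Units.val_mul, Units.val_mul, xGL_val chevD4 _ htri, xGL_val chevD4 _ htri,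
          xGL_val chevD4 _ htri]
        simp [ChevalleyDatum.wordMat, mul_assoc])
      rw [e, map_mul, map_mul, sigD4_xGL f _ (by decide), sigD4_xGL f _ (by decide),
        sigD4_xGL f _ (by decide)]
      have e1 : pi1 18 = 13 := rfl
      have e2 : pi1 13 = 12 := rfl
      have e3 : pi1 12 = 18 := rfl
      have e4 : eps1 18 = 1 := rfl
      have e5 : eps1 13 = 1 := rfl
      have e6 : eps1 12 = 1 := rfl
      rw [e1, e2, e3, e4, e5, e6, Int.cast_one, one_mul, one_mul, one_mul, hf, hf, hf]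
      have e7 : (t ^ q ^ 2) ^ q = t := by rw [← pow_mul, ← pow_succ, ← hK, FiniteField.pow_card]
      have e8 : (t ^ q) ^ q = t ^ q ^ 2 := by rw [← pow_mul, sq]
      rw [e7, e8]
      rw [mul_assoc, ← xGL_comm_of_commTerms_nil chevD4 memD4 18 12 (by decide) (by decide) (by decide)
        (by decide) (by decide), ← mul_assoc,
        ← xGL_comm_of_commTerms_nil chevD4 memD4 18 13 (by decide) (by decide) (by decide)
        (by decide) (by decide), mul_assoc]
    · have e : g = xGL chevD4 K 5 t * xGL chevD4 K 10 (t ^ q) * xGL chevD4 K 11 (t ^ q ^ 2) := Units.ext (by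
        rw [hg, Units.val_mul, Units.val_mul, xGL_val chevD4 _ htri, xGL_val chevD4 _ htri,
          xGL_val chevD4 _ htri]
        simp [ChevalleyDatum.wordMat, mul_assoc])
      rw [e, map_mul, map_mul, sigD4_xGL f _ (by decide), sigD4_xGL f _ (by decide),
        sigD4_xGL f _ (by decide)]
      have e1 : pi1 5 = 10 := rfl
      have e2 : pi1 10 = 11 := rfl
      have e3 : pi1 11 = 5 := rfl
      have e4 : eps1 5 = 1 := rfl
      have e5 : eps1 10 = 1 := rfl
      have e6 : eps1 11 = 1 := rfl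
      rw [e1, e2, e3, e4, e5, e6, Int.cast_one, one_mul, one_mul, one_mul, hf, hf, hf]
      have e7 : (t ^ q ^ 2) ^ q = t := by rw [← pow_mul, ← pow_succ, ← hK, FiniteField.pow_card]
      have e8 : (t ^ q) ^ q = t ^ q ^ 2 := by rw [← pow_mul, sq]
      rw [e7, e8]
      rw [mul_assoc, ← xGL_comm_of_commTerms_nil chevD4 memD4 5 11 (by decide) (by decide) (by decide)
        (by decide) (by decide), ← mul_assoc,
        ← xGL_comm_of_commTerms_nil chevD4 memD4 5 10 (by decide) (by decide) (by decide)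
        (by decide) (by decide), mul_assoc]


theorem twistedE6_le_FixE6 (f : K ≃+* K) (hf : ∀ t, f t = t ^ q) (hK : Fintype.card K = q ^ 2) :
    twistedE6 K q ≤ FixE6 f := by
  have htri := triOK_of_mem chevE6 memE6
  have hq2 : ∀ t : K, (t ^ q) ^ q = t := by
    intro t
    rw [← pow_mul, ← sq, ← hK, FiniteField.pow_card]
  unfold twistedE6 ChevalleyDatum.genSubgroup
  rw [Subgroup.closure_le]
  rintro g ⟨w, hw, hg⟩
  rw [SetLike.mem_coe, mem_FixE6]
  rcases hw with ⟨t, ht, r, hr, rfl⟩ | ⟨t, rs, hrs, rfl⟩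
  · have e : g = xGL chevE6 K r t := Units.ext (by
      rw [hg, xGL_val chevE6 _ htri]; simp [ChevalleyDatum.wordMat])
    simp only [e6p2, e6m2, e6p4, e6m4, List.mem_cons, List.not_mem_nil, or_false] at hr
    rcases hr with rfl | rfl | rfl | rfl
    · rw [e, sigE6_xGL f _ (by decide)]
      have e1 : pi0 46 = 46 := rfl
      have e2 : eps0 46 = 1 := rfl
      rw [e1, e2, hf, ht, Int.cast_one, one_mul]
    · rw [e, sigE6_xGL f _ (by decide)]
      have e1 : pi0 25 = 25 := rfl
      have e2 : eps0 25 = 1 := rfl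
      rw [e1, e2, hf, ht, Int.cast_one, one_mul]
    · rw [e, sigE6_xGL f _ (by decide)]
      have e1 : pi0 39 = 39 := rfl
      have e2 : eps0 39 = 1 := rfl
      rw [e1, e2, hf, ht, Int.cast_one, one_mul]
    · rw [e, sigE6_xGL f _ (by decide)]
      have e1 : pi0 32 = 32 := rfl
      have e2 : eps0 32 = 1 := rfl
      rw [e1, e2, hf, ht, Int.cast_one, one_mul]
  · simp only [e6p1, e6p6, e6m1, e6m6, e6p3, e6p5, e6m3, e6m5, List.mem_cons, List.not_mem_nil,
      or_false] at hrs
    rcases hrs with rfl | rfl | rfl | rfl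
    · have e : g = xGL chevE6 K 56 t * xGL chevE6 K 36 (t ^ q) := Units.ext (by
        rw [hg, Units.val_mul, xGL_val chevE6 _ htri, xGL_val chevE6 _ htri]
        simp [ChevalleyDatum.wordMat])
      rw [e, map_mul, sigE6_xGL f _ (by decide), sigE6_xGL f _ (by decide)]
      have e1 : pi0 56 = 36 := rfl
      have e2 : pi0 36 = 56 := rfl
      have e4 : eps0 56 = 1 := rfl
      have e5 : eps0 36 = 1 := rfl
      rw [e1, e2, e4, e5, Int.cast_one, one_mul, one_mul, hf, hf, hq2]
      exact (xGL_comm_of_commTerms_nil chevE6 memE6 56 36 (by decide) (by decide) (by decide)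
        (by decide) (by decide) _ _).symm
    · have e : g = xGL chevE6 K 15 t * xGL chevE6 K 35 (t ^ q) := Units.ext (by
        rw [hg, Units.val_mul, xGL_val chevE6 _ htri, xGL_val chevE6 _ htri]
        simp [ChevalleyDatum.wordMat])
      rw [e, map_mul, sigE6_xGL f _ (by decide), sigE6_xGL f _ (by decide)]
      have e1 : pi0 15 = 35 := rfl
      have e2 : pi0 35 = 15 := rfl
      have e4 : eps0 15 = 1 := rfl
      have e5 : eps0 35 = 1 := rfl
      rw [e1, e2, e4, e5, Int.cast_one, one_mul, one_mul, hf, hf, hq2]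
      exact (xGL_comm_of_commTerms_nil chevE6 memE6 15 35 (by decide) (by decide) (by decide)
        (by decide) (by decide) _ _).symm
    · have e : g = xGL chevE6 K 42 t * xGL chevE6 K 37 (t ^ q) := Units.ext (by
        rw [hg, Units.val_mul, xGL_val chevE6 _ htri, xGL_val chevE6 _ htri]
        simp [ChevalleyDatum.wordMat])
      rw [e, map_mul, sigE6_xGL f _ (by decide), sigE6_xGL f _ (by decide)]
      have e1 : pi0 42 = 37 := rfl
      have e2 : pi0 37 = 42 := rfl
      have e4 : eps0 42 = 1 := rfl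
      have e5 : eps0 37 = 1 := rfl
      rw [e1, e2, e4, e5, Int.cast_one, one_mul, one_mul, hf, hf, hq2]
      exact (xGL_comm_of_commTerms_nil chevE6 memE6 42 37 (by decide) (by decide) (by decide)
        (by decide) (by decide) _ _).symm
    · have e : g = xGL chevE6 K 29 t * xGL chevE6 K 34 (t ^ q) := Units.ext (by
        rw [hg, Units.val_mul, xGL_val chevE6 _ htri, xGL_val chevE6 _ htri]
        simp [ChevalleyDatum.wordMat])
      rw [e, map_mul, sigE6_xGL f _ (by decide), sigE6_xGL f _ (by decide)]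
      have e1 : pi0 29 = 34 := rfl
      have e2 : pi0 34 = 29 := rfl
      have e4 : eps0 29 = 1 := rfl
      have e5 : eps0 34 = 1 := rfl
      rw [e1, e2, e4, e5, Int.cast_one, one_mul, one_mul, hf, hf, hq2]
      exact (xGL_comm_of_commTerms_nil chevE6 memE6 29 34 (by decide) (by decide) (by decide)
        (by decide) (by decide) _ _).symm

end Fixed

end Cfsg.Agent.Helper19.Twist
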