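import Cfsg.Agent.Helper19.Twist.OrdProd
import Cfsg.Agent.Helper19.Twist.ClassElts

/-!
The graph-field automorphism on ordered products of root elements, for an order in which every
class of roots (orbit of the symmetry, consisting of pairwise orthogonal roots) is contiguous:
`σ` acts on the coefficient families by the twisted permutation, without commutator corrections.
-/

set_option autoImplicit false
set_option maxRecDepth 100000
set_option linter.unusedSectionVars false

namespace Cfsg.Agent.Helper19.Twist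

open Cfsg Cfsg.Lie Cfsg.Agent.Helper18 Cfsg.Agent.Helper40.GraphAut Cfsg.Agent.Helper40.UProd

section

variable {K : Type*} [Field K] (D : ChevalleyDatum)
  (hD : D ∈ [chevG2, chevB2, chevD4, chevF4, chevE6, chevE7, chevE8])

/-- the ordered product `∏_{r ∈ L} x_r(t r)` in the general linear group -/
noncomputable def pwG (D : ChevalleyDatum) (K : Type*) [Field K] (L : List ℕ) (t : ℕ → K) : GL D.Idx K :=
  (L.map fun r => xGL D K r (t r)).prod

theorem pwG_nil (t : ℕ → K) : pwG D K [] t = 1 := by simp [pwG]

theorem pwG_cons (r : ℕ) (L : List ℕ) (t : ℕ → K) : pwG D K (r :: L) t = xGL D K r (t r) * pwG D K L t := by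
  simp [pwG]

theorem pwG_append (L L' : List ℕ) (t : ℕ → K) : pwG D K (L ++ L') t = pwG D K L t * pwG D K L' t := by
  simp [pwG]

include hD in
theorem pwG_val (L : List ℕ) (t : ℕ → K) :
    ((pwG D K L t : GL D.Idx K) : Matrix D.Idx D.Idx K) = pw D L t := by
  induction L with
  | nil => simp [pwG, pw_nil]
  | cons r L ih =>
    rw [pwG_cons, Units.val_mul, ih, pw_cons, xGL_val D _ (triOK_of_mem D hD)]

theorem pwG_congr (L : List ℕ) (t t' : ℕ → K) (h : ∀ r ∈ L, t r = t' r) : pwG D K L t = pwG D K L t' := by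
  unfold pwG
  congr 1
  apply List.map_congr_left
  intro r hr
  rw [h r hr]

/-- the classes are stable under `π` and consist of pairwise commuting root subgroups -/
def classOK (D : ChevalleyDatum) (π : ℕ → ℕ) (Cl : List (List ℕ)) : Bool :=
  Cl.all fun S => decide ((S.map π).Perm S) && decide ((S.map π).Pairwise fun a b => commOK D a b = true)

variable (ρ ρ' π π' : ℕ → ℕ) (ε : ℕ → ℤ) (hp : permsOK D ρ ρ' π π' ε = true) (f : K ≃+* K)
  (h : allOK D ρ ρ' π π' ε = true)

/-- the twisted permutation of coefficient families -/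
def tw (π' : ℕ → ℕ) (ε : ℕ → ℤ) (f : K ≃+* K) (t : ℕ → K) : ℕ → K :=
  fun s => ((ε (π' s) : ℤ) : K) * f (t (π' s))

include hD h in
theorem sigma_pwG_map (L : List ℕ) (hL : ∀ r ∈ L, r < D.nroots) (t : ℕ → K) :
    sigmaGL D ρ ρ' π π' ε hp f (pwG D K L t) = pwG D K (L.map π) (tw π' ε f t) := by
  obtain ⟨hp1, -⟩ := permsOK_spec hp
  induction L with
  | nil => simp [pwG]
  | cons r L ih =>
    have hr := hL r List.mem_cons_self
    rw [pwG_cons, map_mul, ih (fun s hs => hL s (List.mem_cons_of_mem _ hs)), List.map_cons, pwG_cons,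
      sigmaGL_xGL D ρ ρ' π π' ε hp f hD h r hr]
    unfold tw
    rw [(hp1 r hr).2.2.1]

include hD in
theorem pwG_perm (S S' : List ℕ) (hperm : S'.Perm S) (hcomm : S'.Pairwise fun a b => commOK D a b = true)
    (t : ℕ → K) : pwG D K S' t = pwG D K S t := by
  unfold pwG
  apply List.Perm.prod_eq' (hperm.map _)
  rw [List.pairwise_map]
  exact hcomm.imp (fun hab => xGL_commute D hD _ _ hab _ _)

include hD in
theorem pwG_classes (Cl : List (List ℕ)) (hcl : classOK D π Cl = true) (t : ℕ → K) :
    pwG D K (Cl.flatten.map π) t = pwG D K Cl.flatten t := by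
  induction Cl with
  | nil => simp [pwG]
  | cons S Cl ih =>
    unfold classOK at hcl
    rw [List.all_cons, Bool.and_eq_true, Bool.and_eq_true, decide_eq_true_eq, decide_eq_true_eq] at hcl
    rw [List.flatten_cons, List.map_append, pwG_append, pwG_append, ih hcl.2,
      pwG_perm D hD S (S.map π) hcl.1.1 hcl.1.2]

include hD h in
/-- `σ` on an ordered product over a list made of contiguous classes -/
theorem sigma_pwG (Cl : List (List ℕ)) (hcl : classOK D π Cl = true) (hL : ∀ r ∈ Cl.flatten, r < D.nroots)
    (t : ℕ → K) :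
    sigmaGL D ρ ρ' π π' ε hp f (pwG D K Cl.flatten t) = pwG D K Cl.flatten (tw π' ε f t) := by
  rw [sigma_pwG_map D hD ρ ρ' π π' ε hp f h _ hL, pwG_classes D hD π Cl hcl]

end

end Cfsg.Agent.Helper19.Twist
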