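import Cfsg.Agent.Helper19.Twist.TwSimple
import Cfsg.Agent.Helper19.Twist.BNInst

/-!
Simplicity of `³D₄(q)` and `²E₆(q)` from perfectness, solvability of `B` and triviality of the core of `B¹`.
-/

set_option autoImplicit false
set_option maxRecDepth 100000
set_option linter.unusedSectionVars false

namespace Cfsg.Agent.Helper19.Twist

open Cfsg Cfsg.Lie Cfsg.Agent.Helper18 Cfsg.Agent.Helper40.GraphAut Cfsg.Agent.Helper40.UProd
  Cfsg.Agent.Helper40.UData Cfsg.Agent.S1081 Cfsg.Agent.Helper19.Cox Cfsg.Agent.Helper19.Poinc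

theorem chainOK_D4 : chainOK certD4.tabs chevD4.rank chevD4.nroots chevG2.rank JD4 = true := by decide +kernel
theorem chainOK_E6 : chainOK certE6.tabs chevE6.rank chevE6.nroots chevF4.rank JE6 = true := by decide +kernel

section D4

variable {K : Type*} [Field K] [Fintype K] {q : ℕ} (f : K ≃+* K) (hf : ∀ t, f t = t ^ q)
  (h31 : NConjHyp chevD4 K) [hn : (HN chevD4 K).Normal]

include hf h31 hn in
theorem simple_D4 (hq : 2 ≤ q) (hK : Fintype.card K = q ^ 3) (h42 : H42 chevD4 K) (h45 : H45 chevD4 K)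
    (h25 : CommHyp chevD4 K)
    (hsolv : Group.IsSolvable ↥(chevD4.borelSubgroup K)) (hperf : commutator ↥(twistedD4 K q) = ⊤)
    (hcore : ((chevD4.borelSubgroup K ⊓ twistedD4 K q).subgroupOf (twistedD4 K q)).normalCore = ⊥) :
    IsSimpleGroup ↥(twistedD4 K q) ∧ ¬ IsMulCommutative ↥(twistedD4 K q) := by
  have hq1 : 1 ≤ q := by omega
  obtain ⟨hdist, hJ, hnegJ⟩ := classGen_spec (D1 := chevG2) certD4 JD4 classGenOK_D4
  refine twisted_simple chevD4 memD4 certD4 h31 rho1 rhoInv1 pi1 piInv1 eps1 permsOK_D4 f allOK1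
    twistOK_D4 isoOK_D4 rootInjOK_D4 h42 h45 (twistedD4 K q) (twistedD4_le_FixD4 f hf hK)
    (U_fix_le_D4 f hf h31 hq1 hK) (genSubgroup_le_group memD4 _) chevG2.rank JD4 hJ ?_ fixSubOK_D4
    (isFix_range_word memD4 certD4 certG2 JD4 pi1 relOK_D4 piOK_D4 orbOK_D4 orthOK_D4)
    (gp_class_sq certD4 certG2 JD4 relOK_D4) hdist hnegJ ?_ h25 (by decide)
    (chain_spec certD4 chevG2.rank JD4 chainOK_D4) hsolv hperf hcore
  · intro a ha
    rw [sList_D4 a ha]
    exact repGenD4_mem f hf a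
  · intro a ha
    have hS := classMem_D4 a ha
    have hc := card_class_D4 f hf hq1 hK _ hS
    have hlen := classLen_D4 a ha
    obtain ⟨x, hx, hne⟩ := nontrivial_of_card _ (m := q ^ ((JD4 a).map chevD4.simple).length)
      (le_trans hq (Nat.le_self_pow (by omega) q)) hc
    exact ⟨x, ⟨hx.1, class_le_D4 f hf h31 hq1 hK _ hS hx⟩, hne⟩

end D4

section E6

variable {K : Type*} [Field K] [Fintype K] {q : ℕ} (f : K ≃+* K) (hf : ∀ t, f t = t ^ q)
  (h31 : NConjHyp chevE6 K) [hn : (HN chevE6 K).Normal]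

include hf h31 hn in
theorem simple_E6 (hq : 2 ≤ q) (hK : Fintype.card K = q ^ 2) (h42 : H42 chevE6 K) (h45 : H45 chevE6 K)
    (h25 : CommHyp chevE6 K)
    (hsolv : Group.IsSolvable ↥(chevE6.borelSubgroup K)) (hperf : commutator ↥(twistedE6 K q) = ⊤)
    (hcore : ((chevE6.borelSubgroup K ⊓ twistedE6 K q).subgroupOf (twistedE6 K q)).normalCore = ⊥) :
    IsSimpleGroup ↥(twistedE6 K q) ∧ ¬ IsMulCommutative ↥(twistedE6 K q) := by
  have hq1 : 1 ≤ q := by omega
  obtain ⟨hdist, hJ, hnegJ⟩ := classGen_spec (D1 := chevF4) certE6 JE6 classGenOK_E6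
  refine twisted_simple chevE6 memE6 certE6 h31 rho0 rhoInv0 pi0 piInv0 eps0 permsOK_E6 f allOK0
    twistOK_E6 isoOK_E6 rootInjOK_E6 h42 h45 (twistedE6 K q) (twistedE6_le_FixE6 f hf hK)
    (U_fix_le_E6 f hf h31 hq1 hK) (genSubgroup_le_group memE6 _) chevF4.rank JE6 hJ ?_ fixSubOK_E6
    (isFix_range_word memE6 certE6 certF4 JE6 pi0 relOK_E6 piOK_E6 orbOK_E6 orthOK_E6)
    (gp_class_sq certE6 certF4 JE6 relOK_E6) hdist hnegJ ?_ h25 (by decide)
    (chain_spec certE6 chevF4.rank JE6 chainOK_E6) hsolv hperf hcore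
  · intro a ha
    rw [sList_E6 a ha]
    exact repGenE6_mem f hf a
  · intro a ha
    have hS := classMem_E6 a ha
    have hc := card_class_E6 f hf hq1 hK _ hS
    have hlen := classLen_E6 a ha
    obtain ⟨x, hx, hne⟩ := nontrivial_of_card _ (m := q ^ ((JE6 a).map chevE6.simple).length)
      (le_trans hq (Nat.le_self_pow (by omega) q)) hc
    exact ⟨x, ⟨hx.1, class_le_E6 f hf h31 hq1 hK _ hS hx⟩, hne⟩

end E6

end Cfsg.Agent.Helper19.Twist
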