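import Cfsg.Agent.Helper19.Twist.TwSimple
import Cfsg.Agent.Helper19.Twist.SpecCount
import Cfsg.Agent.Helper19.Twist.SpecFix

/-!
The `(B, N)`-pair of a group `G¹` of fixed points of an automorphism `σ` of a Chevalley group, for `σ` in the
sense of `Cfsg.Agent.Helper36.SigmaChev.Spec` (so that graph-field automorphisms in characteristic `2` and `3`
are covered), with `B¹ = B ∩ G¹`, `N¹ = N ∩ G¹` and arbitrary representatives in `N ∩ G¹` of the folded
generators of the Weyl group.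
-/

set_option autoImplicit false
set_option maxRecDepth 100000
set_option linter.unusedSectionVars false

namespace Cfsg.Agent.Helper19.Twist

open Cfsg Cfsg.Lie Cfsg.Agent.Helper18 Cfsg.Agent.Helper19.Cox Cfsg.Agent.Helper19.Poinc DoubleCoset
open Cfsg.Agent.Helper36 Cfsg.Agent.Helper36.SigmaChev Cfsg.Agent.Helper36.SigmaBruhat

section SpecBN

variable {K : Type*} [Field K] (D : ChevalleyDatum)
  (hD : D ∈ [chevG2, chevB2, chevD4, chevF4, chevE6, chevE7, chevE8]) (C : Cert D)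
  (h31 : NConjHyp D K) [hn : (HN D K).Normal]
  {σ : ↥(D.group K) ≃* ↥(D.group K)} {π : ℕ → ℕ} {c : ℕ → K →+* K}
  (hσ : Spec D σ π c) (hOK : rootInjOK D = true)
  (G1 : Subgroup (GL D.Idx K)) (hG1 : G1 ≤ D.group K)
  (hG1fix : ∀ g : ↥(D.group K), (g : GL D.Idx K) ∈ G1 → σ g = g)
  (hU : ∀ u : ↥(D.group K), (u : GL D.Idx K) ∈ D.posUnipotent K → σ u = u → (u : GL D.Idx K) ∈ G1)

include hD hσ hG1 hG1fix hU in
/-- the normal form `g = u m v` of an element of `G¹`, with `u, v ∈ U ∩ G¹` and `m ∈ N ∩ G¹` -/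
theorem spec_normal_form (g : GL D.Idx K) (hg : g ∈ G1) :
    ∃ u ∈ D.posUnipotent K ⊓ G1, ∃ m : ↥(D.monomialSubgroup K), (m : GL D.Idx K) ∈ G1 ∧
      ∃ v ∈ D.posUnipotent K ⊓ G1, g = u * m * v := by
  have hHN : D.diagonalSubgroup K ≤ D.monomialSubgroup K := le_sup_left
  obtain ⟨u, h, n, v, hu, hh, hn', hv, e, hσu, hσv⟩ := hσ.fixed_bruhat hD ⟨g, hG1 hg⟩ (hG1fix _ hg)
  have e' : g = (u : GL D.Idx K) * h * n * v := by
    have := congrArg Subtype.val e
    simpa using this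
  have huG : (u : GL D.Idx K) ∈ G1 := hU u hu hσu
  have hvU : (v : GL D.Idx K) ∈ D.posUnipotent K := bruhatU_le_pos D _ hv
  have hvG : (v : GL D.Idx K) ∈ G1 := hU v hvU hσv
  have hmG : (h : GL D.Idx K) * n ∈ G1 := monomial_mem G1 _ _ _ _ (by rw [← e']; exact hg) huG hvG
  have hmN : (h : GL D.Idx K) * n ∈ D.monomialSubgroup K := Subgroup.mul_mem _ (hHN hh) hn'
  refine ⟨u, ⟨hu, huG⟩, ⟨_, hmN⟩, hmG, v, ⟨hvU, hvG⟩, ?_⟩
  rw [e']; group

include hσ hOK hG1 hG1fix in
/-- the Weyl group element of an element of `N ∩ G¹` commutes with the symmetry -/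
theorem spec_theta_isFix (m : ↥(D.monomialSubgroup K)) (hm : (m : GL D.Idx K) ∈ G1) :
    IsFix C π (theta D hD C h31 m) :=
  theta_isFix_spec D hD C h31 hOK hσ m (hG1 hm) (hG1fix ⟨(m : GL D.Idx K), hG1 hm⟩ hm)

include hD hσ hG1 hG1fix hU in
/-- an element of `G¹` in the big double coset of `n' ∈ N ∩ G¹` lies in `B¹ n' U¹` -/
theorem spec_mem_cell_of_mem_DCgl (h42 : H42 D K) (g : GL D.Idx K) (hg : g ∈ G1)
    (n' : ↥(D.monomialSubgroup K)) (hn'G : (n' : GL D.Idx K) ∈ G1)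
    (hdc : g ∈ DCgl D hD C h31 (theta D hD C h31 n')) :
    ∃ b ∈ D.borelSubgroup K ⊓ G1, ∃ u ∈ D.posUnipotent K ⊓ G1, g = b * n' * u := by
  have hUB : D.posUnipotent K ≤ D.borelSubgroup K := le_sup_left
  have hHB : D.diagonalSubgroup K ≤ D.borelSubgroup K := le_sup_right
  obtain ⟨u, hu, m, hmG, v, hv, e⟩ := spec_normal_form D hD hσ G1 hG1 hG1fix hU g hg
  have hdcm : g ∈ DCgl D hD C h31 (theta D hD C h31 m) :=
    ⟨m, theta_spec D hD C h31 m, by rw [mem_doubleCoset]; exact ⟨u, hUB hu.1, v, hUB hv.1, e⟩⟩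
  have hw : theta D hD C h31 m = theta D hD C h31 n' := DCgl_disjoint D hD C h31 h42 _ _ g hdcm hdc
  have hk : ((m * n'⁻¹ : ↥(D.monomialSubgroup K)) : GL D.Idx K) ∈ D.diagonalSubgroup K := by
    rw [← theta_eq_one_iff D hD C h31, map_mul, map_inv, hw, mul_inv_cancel]
  rw [Subgroup.coe_mul, Subgroup.coe_inv] at hk
  have hkG : (m : GL D.Idx K) * (n' : GL D.Idx K)⁻¹ ∈ G1 := Subgroup.mul_mem _ hmG (Subgroup.inv_mem _ hn'G)
  refine ⟨u * ((m : GL D.Idx K) * (n' : GL D.Idx K)⁻¹), ⟨Subgroup.mul_mem _ (hUB hu.1) (hHB hk),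
    Subgroup.mul_mem _ hu.2 hkG⟩, v, hv, ?_⟩
  rw [e]; group

include hD h31 hσ hOK hG1 hG1fix hU in
/-- the double coset axiom for `G¹` -/
theorem spec_bn_mul_mem (h42 : H42 D K) (h25 : CommHyp D K) (L : List ℕ) (hL : ∀ j ∈ L, j < D.rank)
    (hsub : ∀ S : List ℕ, S.Sublist L → IsFix C π (gp C.M S) → S = [] ∨ S = L)
    (s : ↥(D.monomialSubgroup K)) (hsθ : theta D hD C h31 s = gp C.M L) (hsG : (s : GL D.Idx K) ∈ G1)
    (n : ↥(D.monomialSubgroup K)) (hnG : (n : GL D.Idx K) ∈ G1)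
    (b : GL D.Idx K) (hb : b ∈ D.borelSubgroup K ⊓ G1) :
    ∃ b1 ∈ D.borelSubgroup K ⊓ G1, ∃ b2 ∈ D.borelSubgroup K ⊓ G1,
      (s : GL D.Idx K) * b * n = b1 * ((s : GL D.Idx K) * n) * b2 ∨
      (s : GL D.Idx K) * b * n = b1 * n * b2 := by
  have hUB : D.posUnipotent K ≤ D.borelSubgroup K := le_sup_left
  have hHB : D.diagonalSubgroup K ≤ D.borelSubgroup K := le_sup_right
  set g := (s : GL D.Idx K) * b * n with hgdef
  have hgG : g ∈ G1 := Subgroup.mul_mem _ (Subgroup.mul_mem _ hsG hb.2) hnG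
  obtain ⟨T, hT, c1, hc1, c2, hc2, e⟩ := bn_mul_mem_list D hD h25 L hL n b hb.1
  -- `s = k * sList L` with `k ∈ H`
  have hk : ((s * (sList D K L)⁻¹ : ↥(D.monomialSubgroup K)) : GL D.Idx K) ∈ D.diagonalSubgroup K := by
    rw [← theta_eq_one_iff D hD C h31, map_mul, map_inv, hsθ, theta_sList D hD C h31 L hL, mul_inv_cancel]
  rw [Subgroup.coe_mul, Subgroup.coe_inv] at hk
  have eg : g = ((s : GL D.Idx K) * (sList D K L : GL D.Idx K)⁻¹ * c1) *
      ((sList D K T * n : ↥(D.monomialSubgroup K)) : GL D.Idx K) * c2 := by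
    have : g = ((s : GL D.Idx K) * (sList D K L : GL D.Idx K)⁻¹) * ((sList D K L : GL D.Idx K) * b * n) := by
      rw [hgdef]; group
    rw [this, e]; group
  -- the big double coset of `g`
  have hdcT : g ∈ DCgl D hD C h31 (theta D hD C h31 (sList D K T * n)) :=
    ⟨sList D K T * n, theta_spec D hD C h31 _, by
      rw [mem_doubleCoset]
      exact ⟨_, Subgroup.mul_mem _ (hHB hk) hc1, c2, hc2, eg⟩⟩
  obtain ⟨u, hu, m, hmG, v, hv, e1⟩ := spec_normal_form D hD hσ G1 hG1 hG1fix hU g hgG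
  have hdcm : g ∈ DCgl D hD C h31 (theta D hD C h31 m) :=
    ⟨m, theta_spec D hD C h31 m, by rw [mem_doubleCoset]; exact ⟨u, hUB hu.1, v, hUB hv.1, e1⟩⟩
  have hwfix : IsFix C π (theta D hD C h31 m) := spec_theta_isFix D hD C h31 hσ hOK G1 hG1 hG1fix m hmG
  have hw : theta D hD C h31 m = theta D hD C h31 (sList D K T * n) :=
    DCgl_disjoint D hD C h31 h42 _ _ g hdcm hdcT
  have hTlt : ∀ j ∈ T, j < D.rank := fun j hj => hL j (hT.subset hj)
  have hw' := hw
  rw [map_mul, theta_sList D hD C h31 T hTlt] at hw'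
  have hnfix : IsFix C π (theta D hD C h31 n) := spec_theta_isFix D hD C h31 hσ hOK G1 hG1 hG1fix n hnG
  have hTfix : IsFix C π (gp C.M T) := by
    have : gp C.M T = theta D hD C h31 m * (theta D hD C h31 n)⁻¹ := by rw [hw']; group
    rw [this]
    exact isFix_mul C π _ _ hwfix (isFix_inv_elem D hD C π _ hnfix)
  have hUB' : D.posUnipotent K ⊓ G1 ≤ D.borelSubgroup K ⊓ G1 := inf_le_inf_right _ le_sup_left
  rcases hsub T hT hTfix with hT0 | hTL
  · -- `g ∈ B n B`
    have hdc : g ∈ DCgl D hD C h31 (theta D hD C h31 n) := by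
      have : sList D K [] * n = n := by simp [sList]
      rw [hT0, this] at hdcT
      exact hdcT
    obtain ⟨b1, hb1, u', hu', e2⟩ := spec_mem_cell_of_mem_DCgl D hD C h31 hσ G1 hG1 hG1fix hU h42 g hgG n hnG hdc
    exact ⟨b1, hb1, u', hUB' hu', Or.inr e2⟩
  · -- `g ∈ B s n B`
    have hsnG : ((s * n : ↥(D.monomialSubgroup K)) : GL D.Idx K) ∈ G1 := by
      rw [Subgroup.coe_mul]; exact Subgroup.mul_mem _ hsG hnG
    have hθsn : theta D hD C h31 (sList D K T * n) = theta D hD C h31 (s * n) := by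
      rw [map_mul, map_mul, theta_sList D hD C h31 T hTlt, hTL, hsθ]
    rw [hθsn] at hdcT
    obtain ⟨b1, hb1, u', hu', e2⟩ := spec_mem_cell_of_mem_DCgl D hD C h31 hσ G1 hG1 hG1fix hU h42 g hgG (s * n) hsnG
      hdcT
    rw [Subgroup.coe_mul] at e2
    exact ⟨b1, hb1, u', hUB' hu', Or.inl e2⟩

end SpecBN

section Pair

variable {K : Type*} [Field K] (D : ChevalleyDatum)
  (hD : D ∈ [chevG2, chevB2, chevD4, chevF4, chevE6, chevE7, chevE8]) (C : Cert D)
  (h31 : NConjHyp D K) [hn : (HN D K).Normal]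
  {σ : ↥(D.group K) ≃* ↥(D.group K)} {π : ℕ → ℕ} {c : ℕ → K →+* K}
  (hσ : Spec D σ π c) (hOK : rootInjOK D = true) (h42 : H42 D K)
  (G1 : Subgroup (GL D.Idx K)) (hG1 : G1 ≤ D.group K)
  (hG1fix : ∀ g : ↥(D.group K), (g : GL D.Idx K) ∈ G1 → σ g = g)
  (hU : ∀ u : ↥(D.group K), (u : GL D.Idx K) ∈ D.posUnipotent K → σ u = u → (u : GL D.Idx K) ∈ G1)
  (n1 : ℕ) (J : ℕ → List ℕ)
  (hJ : ∀ a < n1, ∀ j ∈ J a, j < D.rank)
  (s : ℕ → ↥(D.monomialSubgroup K))
  (hsG : ∀ a < n1, ((s a : ↥(D.monomialSubgroup K)) : GL D.Idx K) ∈ G1)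
  (hsθ : ∀ a < n1, theta D hD C h31 (s a) = gp C.M (J a))

/-- the product of the class representatives along a word -/
noncomputable def specWord {D : ChevalleyDatum} {K : Type*} [Field K] (s : ℕ → ↥(D.monomialSubgroup K))
    (word : List ℕ) : ↥(D.monomialSubgroup K) := (word.map s).prod

include hsθ in
theorem theta_specWord (word : List ℕ) (hw : ∀ a ∈ word, a < n1) :
    theta D hD C h31 (specWord s word) = gp C.M (word.flatMap J) := by
  induction word with
  | nil => simp [specWord, gp]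
  | cons a word ih =>
    have : specWord s (a :: word) = s a * specWord s word := by simp [specWord]
    rw [this, map_mul, hsθ a (hw a List.mem_cons_self),
      ih (fun b hb => hw b (List.mem_cons_of_mem _ hb)), List.flatMap_cons, gp_append]

include hsG in
theorem specWord_mem (word : List ℕ) (hw : ∀ a ∈ word, a < n1) :
    ((specWord s word : ↥(D.monomialSubgroup K)) : GL D.Idx K) ∈ G1 := by
  induction word with
  | nil => simp [specWord]
  | cons a word ih =>
    have : specWord s (a :: word) = s a * specWord s word := by simp [specWord]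
    rw [this, Subgroup.coe_mul]
    exact Subgroup.mul_mem _ (hsG a (hw a List.mem_cons_self)) (ih (fun b hb => hw b (List.mem_cons_of_mem _ hb)))

variable (hfs : fixSubOK C.tabs D.rank D.nroots n1 J π = true)
  (hrange : ∀ w, IsFix C π w → ∃ word : List ℕ, (∀ a ∈ word, a < n1) ∧ w = gp C.M (word.flatMap J))
  (hsq : ∀ a < n1, gp C.M (J a) * gp C.M (J a) = 1)
  (hdist : ∀ a < n1, ∀ b < n1, gp C.M (J a) = gp C.M (J b) → a = b)
  (hnegJ : ∀ a < n1, ∀ j ∈ J a, phi C.M C.Mx C.hI C.hB C.hMx (gp C.M (J a)) (D.simple j) < hlfOf D)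
  (hx : ∀ a < n1, ∃ x ∈ listSubgroup D K ((J a).map D.simple) ⊓ G1, x ≠ 1)
  (h25 : CommHyp D K)

include hD h31 hσ hOK h42 hG1 hG1fix hU hJ hsG hsθ hfs hrange hsq hdist hnegJ hx h25 in
/-- the `(B, N)`-pair of `G¹`, with its distinguished generators -/
theorem spec_bnPair :
    ∃ P : Cfsg.BNPair ↥G1, P.B = (D.borelSubgroup K ⊓ G1).subgroupOf G1 ∧
      P.N = (D.monomialSubgroup K ⊓ G1).subgroupOf G1 ∧
      P.S = {x : ↥G1 | ∃ a < n1, (x : GL D.Idx K) = (s a : GL D.Idx K)} := by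
  have hBN := (Cfsg.Agent.S1040.result (F := K) D hD).2
  have hBV := (Cfsg.Agent.S1037.result (F := K) D hD).1
  have hUB : D.posUnipotent K ≤ D.borelSubgroup K := le_sup_left
  have hHB : D.diagonalSubgroup K ≤ D.borelSubgroup K := le_sup_right
  have hHN : D.diagonalSubgroup K ≤ D.monomialSubgroup K := le_sup_left
  -- membership in `H` of elements of `N` from the Weyl group
  have hH_of_theta : ∀ m : ↥(D.monomialSubgroup K), theta D hD C h31 m = 1 → (m : GL D.Idx K) ∈ D.diagonalSubgroup K :=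
    fun m hm => (theta_eq_one_iff D hD C h31 m).mp hm
  let B' : Subgroup ↥G1 := (D.borelSubgroup K ⊓ G1).subgroupOf G1
  let N' : Subgroup ↥G1 := (D.monomialSubgroup K ⊓ G1).subgroupOf G1
  let S' : Set ↥G1 := {x | ∃ a < n1, (x : GL D.Idx K) = (s a : GL D.Idx K)}
  have memB : ∀ x : ↥G1, x ∈ B' ↔ (x : GL D.Idx K) ∈ D.borelSubgroup K := by
    intro x
    rw [Subgroup.mem_subgroupOf, Subgroup.mem_inf]
    exact ⟨fun hx' => hx'.1, fun hx' => ⟨hx', x.2⟩⟩
  have memN : ∀ x : ↥G1, x ∈ N' ↔ (x : GL D.Idx K) ∈ D.monomialSubgroup K := by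
    intro x
    rw [Subgroup.mem_subgroupOf, Subgroup.mem_inf]
    exact ⟨fun hx' => hx'.1, fun hx' => ⟨hx', x.2⟩⟩
  have hS'N : S' ⊆ (N' : Set ↥G1) := by
    rintro x ⟨a, ha, hs⟩
    rw [SetLike.mem_coe, memN, hs]
    exact (s a).2
  refine ⟨{ B := B', N := N', S := S', sup_eq_top := ?_, conj_mem := ?_, subset := hS'N, sq_mem := ?_, inj := ?_,
            closure_sup := ?_, mul_mem_union := ?_, conj_ne := ?_ }, rfl, rfl, rfl⟩
  · -- sup_eq_top
    rw [eq_top_iff]
    rintro ⟨g, hg⟩ -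
    obtain ⟨u, hu, m, hmG, v, hv, e⟩ := spec_normal_form D hD hσ G1 hG1 hG1fix hU g hg
    have : (⟨g, hg⟩ : ↥G1) = ⟨u, hu.2⟩ * ⟨(m : GL D.Idx K), hmG⟩ * ⟨v, hv.2⟩ := Subtype.ext e
    rw [this]
    refine Subgroup.mul_mem _ (Subgroup.mul_mem _ (Subgroup.mem_sup_left ?_) (Subgroup.mem_sup_right ?_))
      (Subgroup.mem_sup_left ?_)
    · exact (memB _).mpr (hUB hu.1)
    · exact (memN _).mpr m.2
    · exact (memB _).mpr (hUB hv.1)
  · -- conj_mem
    intro n hn' t ht
    rw [memB]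
    have htH : (t : GL D.Idx K) ∈ D.diagonalSubgroup K := by
      rw [← hBN]
      exact ⟨(memB t).mp ht.1, (memN t).mp ht.2⟩
    have hnN := (memN n).mp hn'
    have h1 : (⟨(t : GL D.Idx K), hHN htH⟩ : ↥(D.monomialSubgroup K)) ∈ HN D K := by
      rw [Subgroup.mem_subgroupOf]; exact htH
    have h2 := hn.conj_mem _ h1 ⟨(n : GL D.Idx K), hnN⟩
    rw [Subgroup.mem_subgroupOf] at h2
    apply hHB
    simpa using h2
  · -- sq_mem
    rintro x ⟨a, ha, hs⟩
    rw [memB, Subgroup.coe_mul, hs]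
    apply hHB
    have := hH_of_theta (s a * s a) (by rw [map_mul, hsθ a ha, hsq a ha])
    simpa using this
  · -- inj
    rintro x ⟨a, ha, hs⟩ x' ⟨b, hb, hs'⟩ hmem
    have h1 : ((x⁻¹ * x' : ↥G1) : GL D.Idx K) ∈ D.borelSubgroup K := (memB _).mp hmem
    rw [Subgroup.coe_mul, Subgroup.coe_inv, hs, hs'] at h1
    have h2 : (((s a)⁻¹ * s b : ↥(D.monomialSubgroup K)) : GL D.Idx K) ∈
        D.borelSubgroup K ⊓ D.monomialSubgroup K := ⟨by simpa using h1, ((s a)⁻¹ * s b).2⟩
    rw [hBN, ← theta_eq_one_iff D hD C h31, map_mul, map_inv, hsθ a ha, hsθ b hb, inv_mul_eq_one] at h2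
    have hab := hdist a ha b hb h2
    subst hab
    exact Subtype.ext (hs.trans hs'.symm)
  · -- closure_sup
    apply le_antisymm
    · exact sup_le ((Subgroup.closure_le _).mpr hS'N) inf_le_right
    · intro n hn'
      have hnN := (memN n).mp hn'
      let nN' : ↥(D.monomialSubgroup K) := ⟨(n : GL D.Idx K), hnN⟩
      have hfixn : IsFix C π (theta D hD C h31 nN') :=
        spec_theta_isFix D hD C h31 hσ hOK G1 hG1 hG1fix nN' n.2
      obtain ⟨word, hword, hw⟩ := hrange _ hfixn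
      set m := specWord s word with hm
      have hmG := specWord_mem D G1 n1 s hsG word hword
      have hθ : theta D hD C h31 (m⁻¹ * nN') = 1 := by
        rw [map_mul, map_inv, theta_specWord D hD C h31 n1 J s hsθ word hword, hw, inv_mul_cancel]
      have hH := hH_of_theta _ hθ
      -- `m ∈ closure S'`
      have hmcl : ∀ word' : List ℕ, (∀ a ∈ word', a < n1) →
          ∀ hmem : ((specWord s word' : ↥(D.monomialSubgroup K)) : GL D.Idx K) ∈ G1,
          (⟨_, hmem⟩ : ↥G1) ∈ Subgroup.closure S' := by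
        intro word'
        induction word' with
        | nil =>
          intro _ hmem
          have : (⟨_, hmem⟩ : ↥G1) = 1 := Subtype.ext (by simp [specWord])
          rw [this]; exact Subgroup.one_mem _
        | cons a word' ih =>
          intro hw' hmem
          have ha := hw' a List.mem_cons_self
          have hw'' : ∀ b ∈ word', b < n1 := fun b hb => hw' b (List.mem_cons_of_mem _ hb)
          have hmem' := specWord_mem D G1 n1 s hsG word' hw''
          have e : (⟨_, hmem⟩ : ↥G1) = ⟨_, hsG a ha⟩ * ⟨_, hmem'⟩ := Subtype.ext (by simp [specWord])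
          rw [e]
          exact Subgroup.mul_mem _ (Subgroup.subset_closure ⟨a, ha, rfl⟩) (ih hw'' hmem')
      have e : n = ⟨_, hmG⟩ * ⟨((m⁻¹ * nN' : ↥(D.monomialSubgroup K)) : GL D.Idx K),
          Subgroup.mul_mem _ (Subgroup.inv_mem _ hmG) n.2⟩ := Subtype.ext (by
        simp only [Subgroup.coe_mul, Subgroup.coe_inv, nN']
        rw [hm]; group)
      rw [e]
      refine Subgroup.mul_mem _ (Subgroup.mem_sup_left (hmcl word hword hmG)) (Subgroup.mem_sup_right ?_)
      exact ⟨(memB _).mpr (hHB hH), (memN _).mpr (hHN hH)⟩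
  · -- mul_mem_union
    rintro x ⟨a, ha, hs⟩ n hn' b hb
    have hnN := (memN n).mp hn'
    have hbB := (memB b).mp hb
    obtain ⟨b1, hb1, b2, hb2, e⟩ := spec_bn_mul_mem D hD C h31 hσ hOK G1 hG1 hG1fix hU h42 h25 (J a) (hJ a ha)
      (fixSub_spec D C π hfs a ha) (s a) (hsθ a ha) (hsG a ha) ⟨(n : GL D.Idx K), hnN⟩ n.2
      (b : GL D.Idx K) ⟨hbB, b.2⟩
    rcases e with e | e
    · left
      rw [mem_doubleCoset]
      refine ⟨⟨b1, hb1.2⟩, (memB _).mpr hb1.1, ⟨b2, hb2.2⟩, (memB _).mpr hb2.1, ?_⟩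
      apply Subtype.ext
      simp only [Subgroup.coe_mul, hs]
      exact e
    · right
      rw [mem_doubleCoset]
      refine ⟨⟨b1, hb1.2⟩, (memB _).mpr hb1.1, ⟨b2, hb2.2⟩, (memB _).mpr hb2.1, ?_⟩
      apply Subtype.ext
      simp only [Subgroup.coe_mul, hs]
      exact e
  · -- conj_ne
    rintro x0 ⟨a, ha, hs⟩ heq
    obtain ⟨x, hx1, hxne⟩ := hx a ha
    have hxU : x ∈ D.posUnipotent K := by
      have hpos := posOK_of_mem D hD
      have hle : listSubgroup D K ((J a).map D.simple) ≤ D.posUnipotent K := by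
        unfold listSubgroup ChevalleyDatum.posUnipotent
        apply Subgroup.closure_mono
        rintro g ⟨r, t, hr, hg⟩
        obtain ⟨j, hj, rfl⟩ := List.mem_map.mp hr
        exact ⟨_, t, (simpleSign_spec D hD j (hJ a ha j hj)).1, hg⟩
      exact hle hx1.1
    have hxB : (⟨x, hx1.2⟩ : ↥G1) ∈ (B' : Set ↥G1) := (memB _).mpr (Subgroup.mem_sup_left hxU)
    have h1 : (x0 * ⟨x, hx1.2⟩ * x0 : ↥G1) ∈ (B' : Set ↥G1) := by
      rw [← heq]; exact ⟨_, hxB, rfl⟩
    have h2 : (x0 : GL D.Idx K) * x * (x0 : GL D.Idx K) ∈ D.borelSubgroup K := (memB _).mp h1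
    rw [hs] at h2
    -- `s * s ∈ H`
    have hss : ((s a * s a : ↥(D.monomialSubgroup K)) : GL D.Idx K) ∈ D.diagonalSubgroup K :=
      hH_of_theta _ (by rw [map_mul, hsθ a ha, hsq a ha])
    rw [Subgroup.coe_mul] at hss
    set sg' : GL D.Idx K := (s a : GL D.Idx K) with hsg'
    have h3 : sg' * x * sg'⁻¹ ∈ D.borelSubgroup K := by
      have : sg' * x * sg'⁻¹ = (sg' * x * sg') * (sg' * sg')⁻¹ := by group
      rw [this]
      exact Subgroup.mul_mem _ h2 (Subgroup.inv_mem _ (hHB hss))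
    have h4 : sg' * x * sg'⁻¹ ∈ D.negUnipotent K := by
      apply conj_listSubgroup_le_neg D hD C h31 (s a) ((J a).map D.simple) _ x hx1.1
      intro r hr
      obtain ⟨j, hj, rfl⟩ := List.mem_map.mp hr
      rw [hsθ a ha]
      exact ⟨simple_lt D (simpleOK_of_mem D hD) j (hJ a ha j hj), hnegJ a ha j hj⟩
    have h5 : sg' * x * sg'⁻¹ ∈ D.borelSubgroup K ⊓ D.negUnipotent K := ⟨h3, h4⟩
    rw [hBV, Subgroup.mem_bot] at h5
    apply hxne
    have : x = sg'⁻¹ * (sg' * x * sg'⁻¹) * sg' := by group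
    rw [this, h5]; group

include hD h31 hsG hsθ in
/-- a `(B, N)`-pair of `G¹` whose distinguished generators are the folded generators is irreducible as soon as
consecutive folded generators do not commute -/
theorem spec_irreducible (P : Cfsg.BNPair ↥G1) (hB : P.B = (D.borelSubgroup K ⊓ G1).subgroupOf G1)
    (hS : P.S = {x : ↥G1 | ∃ a < n1, (x : GL D.Idx K) = (s a : GL D.Idx K)})
    (hchain : ∀ a, a + 1 < n1 → gp C.M (J a) * gp C.M (J (a + 1)) ≠ gp C.M (J (a + 1)) * gp C.M (J a)) :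
    P.Irreducible := by
  have hBN := (Cfsg.Agent.S1040.result (F := K) D hD).2
  intro Jset hJS hne hcne
  -- the element of `G¹` attached to a class
  let sG : ∀ a, a < n1 → ↥G1 := fun a ha => ⟨_, hsG a ha⟩
  have hsGS : ∀ a (ha : a < n1), sG a ha ∈ P.S := by
    intro a ha; rw [hS]; exact ⟨a, ha, rfl⟩
  -- an element of `S` with the value of `sG a` is `sG a`
  have huniq : ∀ a (ha : a < n1) (x : ↥G1), (x : GL D.Idx K) = (s a : GL D.Idx K) → x = sG a ha :=
    fun a ha x hs => Subtype.ext hs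
  -- the commutator of two consecutive generators is not in `B`
  have hcomm : ∀ a b (ha : a < n1) (hb : b < n1),
      gp C.M (J a) * gp C.M (J b) ≠ gp C.M (J b) * gp C.M (J a) →
      sG a ha * sG b hb * (sG a ha)⁻¹ * (sG b hb)⁻¹ ∉ P.B := by
    intro a b ha hb hne' hmem
    rw [hB, Subgroup.mem_subgroupOf] at hmem
    have h1 : ((s a * s b * (s a)⁻¹ * (s b)⁻¹ :
        ↥(D.monomialSubgroup K)) : GL D.Idx K) ∈ D.borelSubgroup K ⊓ D.monomialSubgroup K :=
      ⟨by simpa [sG] using hmem.1, SetLike.coe_mem _⟩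
    rw [hBN, ← theta_eq_one_iff D hD C h31, map_mul, map_mul, map_mul, map_inv, map_inv,
      hsθ a ha, hsθ b hb] at h1
    apply hne'
    have : gp C.M (J a) * gp C.M (J b) = (gp C.M (J a) * gp C.M (J b) * (gp C.M (J a))⁻¹ * (gp C.M (J b))⁻¹) *
        (gp C.M (J b) * gp C.M (J a)) := by group
    rw [this, h1, one_mul]
  by_contra hno
  have hno' : ∀ x ∈ Jset, ∀ x' ∈ P.S \ Jset, x * x' * x⁻¹ * x'⁻¹ ∈ P.B := by
    intro x hs x' hs'
    by_contra h'
    exact hno ⟨x, hs, x', hs', h'⟩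
  -- the set of classes in `Jset` is closed under the steps of the chain
  have hup : ∀ a (ha : a + 1 < n1), sG a (by omega) ∈ Jset → sG (a + 1) ha ∈ Jset := by
    intro a ha hmem
    by_contra hnot
    exact hcomm a (a + 1) (by omega) ha (hchain a ha) (hno' _ hmem _ ⟨hsGS (a + 1) ha, hnot⟩)
  have hdown : ∀ a (ha : a + 1 < n1), sG (a + 1) ha ∈ Jset → sG a (by omega) ∈ Jset := by
    intro a ha hmem
    by_contra hnot
    exact hcomm (a + 1) a ha (by omega) (fun e => hchain a ha e.symm)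
      (hno' _ hmem _ ⟨hsGS a (by omega), hnot⟩)
  obtain ⟨s0, hs0⟩ := hne
  obtain ⟨a0, ha0, hs0v⟩ : ∃ a < n1, (s0 : GL D.Idx K) = (s a : GL D.Idx K) := by
    have := hJS hs0
    rw [hS] at this
    exact this
  have hs0' : sG a0 ha0 ∈ Jset := by rw [← huniq a0 ha0 s0 hs0v]; exact hs0
  -- everything below `a0`
  have hbelow : ∀ k, ∀ (hk : k ≤ a0), sG (a0 - k) (by omega) ∈ Jset := by
    intro k
    induction k with
    | zero => intro _; exact hs0'
    | succ k ih =>
      intro hk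
      have h1 := ih (by omega)
      have h2 : a0 - (k + 1) + 1 < n1 := by omega
      have h3 := hdown (a0 - (k + 1)) h2
      have e : a0 - (k + 1) + 1 = a0 - k := by omega
      have h4 : sG (a0 - (k + 1) + 1) h2 = sG (a0 - k) (by omega) := by
        apply Subtype.ext
        simp only [sG, e]
      rw [h4] at h3
      exact h3 h1
  have hzero : sG 0 (by omega) ∈ Jset := by
    have := hbelow a0 le_rfl
    have e : a0 - a0 = 0 := by omega
    have h4 : sG (a0 - a0) (by omega) = sG 0 (by omega) := by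
      apply Subtype.ext
      simp only [sG, e]
    rw [h4] at this
    exact this
  have hall : ∀ b (hb : b < n1), sG b hb ∈ Jset := by
    intro b
    induction b with
    | zero => intro _; exact hzero
    | succ b ih =>
      intro hb
      exact hup b hb (ih (by omega))
  obtain ⟨s1, hs1S, hs1J⟩ := hcne
  rw [hS] at hs1S
  obtain ⟨b, hb, hs1v⟩ := hs1S
  apply hs1J
  rw [huniq b hb s1 hs1v]
  exact hall b hb

include hD h31 hσ hOK h42 hG1 hG1fix hU hJ hsG hsθ hfs hrange hsq hdist hnegJ hx h25 in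
/-- simplicity of `G¹` by the criterion of Tits -/
theorem spec_simple (hn1 : 0 < n1)
    (hchain : ∀ a, a + 1 < n1 → gp C.M (J a) * gp C.M (J (a + 1)) ≠ gp C.M (J (a + 1)) * gp C.M (J a))
    (hsolv : Group.IsSolvable ↥(D.borelSubgroup K)) (hperf : commutator ↥G1 = ⊤)
    (hcore : ((D.borelSubgroup K ⊓ G1).subgroupOf G1).normalCore = ⊥) :
    IsSimpleGroup ↥G1 ∧ ¬ IsMulCommutative ↥G1 := by
  obtain ⟨P, hB, -, hS⟩ := spec_bnPair D hD C h31 hσ hOK h42 G1 hG1 hG1fix hU n1 J hJ s hsG hsθ hfs hrange hsq hdist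
    hnegJ hx h25
  have hirr : P.Irreducible := spec_irreducible D hD C h31 G1 n1 J s hsG hsθ P hB hS hchain
  have hnt : Nontrivial ↥G1 := by
    obtain ⟨x, hx1, hxne⟩ := hx 0 hn1
    exact ⟨⟨⟨x, hx1.2⟩, 1, fun e => hxne (congrArg Subtype.val e)⟩⟩
  have hsolvB : Group.IsSolvable P.B := by
    rw [hB]
    let φ : ↥((D.borelSubgroup K ⊓ G1).subgroupOf G1) →* ↥(D.borelSubgroup K) :=
      { toFun := fun x => ⟨((x : ↥G1) : GL D.Idx K), (Subgroup.mem_subgroupOf.mp x.2).1⟩
        map_one' := rfl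
        map_mul' := fun _ _ => rfl }
    have hφ : Function.Injective φ := by
      intro a b hab
      apply Subtype.ext
      apply Subtype.ext
      exact congrArg (fun g : ↥(D.borelSubgroup K) => (g : GL D.Idx K)) hab
    exact @Group.isSolvable_of_isSolvable_injective _ _ _ _ _ hφ hsolv
  refine ⟨@Cfsg.Agent.S0319.result _ _ hnt P hirr hsolvB hperf (by rw [hB]; exact hcore), ?_⟩
  intro hcomm
  obtain ⟨a, b, hab⟩ := hnt
  have hbot : commutator ↥G1 = ⊥ := by
    rw [commutator_def, Subgroup.commutator_eq_bot_iff_le_centralizer]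
    intro g _
    rw [Subgroup.mem_centralizer_iff]
    intro h' _
    exact hcomm.is_comm.comm h' g
  rw [hbot] at hperf
  have ha : a ∈ (⊤ : Subgroup ↥G1) := Subgroup.mem_top a
  have hb : b ∈ (⊤ : Subgroup ↥G1) := Subgroup.mem_top b
  rw [← hperf, Subgroup.mem_bot] at ha hb
  exact hab (ha.trans hb.symm)

end Pair

end Cfsg.Agent.Helper19.Twist
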