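import Cfsg.Agent.Helper18.Core
import Cfsg.Agent.Helper19.Twist.Sigma

set_option autoImplicit false
set_option maxRecDepth 100000
set_option linter.unusedSectionVars false

/-!
The elements of `H` are diagonal matrices `diag(1; χ)` with `χ` multiplicative in the root, hence
determined by the values of `χ` at the simple roots; `σ`-fixed elements have `χ ∘ π = f ∘ χ`.
-/

namespace Cfsg.Agent.Helper19.Twist

open Cfsg Cfsg.Lie Cfsg.Agent.Helper18 Cfsg.Agent.Helper40.GraphAut

/-- `coord u i` is the coefficient of the `i`-th simple root in the root `u` -/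
def coordOK (D : ChevalleyDatum) (coord : ℕ → ℕ → ℤ) : Bool :=
  (List.range D.nroots).all fun s => (List.range D.nroots).all fun u =>
    decide (pairing' D s u = ∑ i ∈ Finset.range D.rank, coord u i * pairing' D s (D.simple i))

theorem coordOK_spec {D : ChevalleyDatum} {coord : ℕ → ℕ → ℤ} (h : coordOK D coord = true) (s u : ℕ)
    (hs : s < D.nroots) (hu : u < D.nroots) :
    pairing' D s u = ∑ i ∈ Finset.range D.rank, coord u i * pairing' D s (D.simple i) := by
  unfold coordOK at h
  rw [List.all_eq_true] at h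
  have h1 := h s (List.mem_range.mpr hs)
  rw [List.all_eq_true] at h1
  exact of_decide_eq_true (h1 u (List.mem_range.mpr hu))

theorem zpow_finset_sum {F : Type*} [Field F] {t : F} (ht : t ≠ 0) (s : Finset ℕ) (a : ℕ → ℤ) :
    t ^ (∑ i ∈ s, a i) = ∏ i ∈ s, t ^ a i := by
  classical
  induction s using Finset.induction_on with
  | empty => simp
  | insert i s hi ih => rw [Finset.sum_insert hi, Finset.prod_insert hi, zpow_add₀ ht, ih]

section Char

variable {F : Type*} [Field F] (D : ChevalleyDatum)
  (hD : D ∈ [chevG2, chevB2, chevD4, chevF4, chevE6, chevE7, chevE8])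
  (coord : ℕ → ℕ → ℤ) (hc : coordOK D coord = true)

include hD hc in
/-- the elements of `H` are `diag(1; χ)` with `χ` multiplicative -/
theorem diag_char_mul (k : GL D.Idx F) (hk : k ∈ D.diagonalSubgroup F) :
    ∃ χ : ℕ → F, (∀ s, χ s ≠ 0) ∧
      (k : Matrix D.Idx D.Idx F) = Matrix.diagonal (Sum.elim (fun _ => (1 : F)) (fun s : Fin D.nroots => χ s.val)) ∧
      ∀ u < D.nroots, χ u = ∏ i ∈ Finset.range D.rank, χ (D.simple i) ^ coord u i := by
  unfold ChevalleyDatum.diagonalSubgroup at hk
  induction hk using Subgroup.closure_induction with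
  | mem g hg =>
    obtain ⟨s, t, hs, ht, hgm⟩ := hg
    refine ⟨fun u => t ^ pairing' D s u, fun u => zpow_ne_zero _ ht, ?_, fun u hu => ?_⟩
    · rw [hgm, hMat_eq_wDiag D hD s hs t ht]; rfl
    · simp only
      rw [coordOK_spec hc s u hs hu, zpow_finset_sum ht]
      apply Finset.prod_congr rfl
      intro i _
      rw [← zpow_mul, mul_comm]
  | one =>
    refine ⟨fun _ => 1, fun _ => one_ne_zero, ?_, fun u _ => by simp⟩
    rw [Units.val_one, ← Matrix.diagonal_one]
    congr 1
    funext j
    rcases j with a | s <;> rfl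
  | mul g g' _ _ ih ih' =>
    obtain ⟨χ, hχ, hd, hm⟩ := ih
    obtain ⟨χ', hχ', hd', hm'⟩ := ih'
    refine ⟨fun s => χ s * χ' s, fun s => mul_ne_zero (hχ s) (hχ' s), ?_, fun u hu => ?_⟩
    · rw [Units.val_mul, hd, hd', Matrix.diagonal_mul_diagonal]
      congr 1
      funext j
      rcases j with a | s <;> simp
    · simp only
      rw [hm u hu, hm' u hu, ← Finset.prod_mul_distrib]
      apply Finset.prod_congr rfl
      intro i _
      rw [mul_zpow]
  | inv g _ ih =>
    obtain ⟨χ, hχ, hd, hm⟩ := ih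
    refine ⟨fun s => (χ s)⁻¹, fun s => inv_ne_zero (hχ s), ?_, fun u hu => ?_⟩
    · have h1 : (g : Matrix D.Idx D.Idx F) *
          Matrix.diagonal (Sum.elim (fun _ => (1 : F)) (fun s : Fin D.nroots => (χ s.val)⁻¹)) = 1 := by
        rw [hd, Matrix.diagonal_mul_diagonal, ← Matrix.diagonal_one]
        congr 1
        funext j
        rcases j with a | s
        · simp
        · simp [hχ s.val]
      calc ((g⁻¹ : GL D.Idx F) : Matrix D.Idx D.Idx F)
          = ((g⁻¹ : GL D.Idx F) : Matrix D.Idx D.Idx F) * ((g : Matrix D.Idx D.Idx F) *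
              Matrix.diagonal (Sum.elim (fun _ => (1 : F)) (fun s : Fin D.nroots => (χ s.val)⁻¹))) := by
            rw [h1, mul_one]
        _ = _ := by rw [← mul_assoc, ← Units.val_mul, inv_mul_cancel, Units.val_one, one_mul]
    · simp only
      rw [hm u hu, ← Finset.prod_inv_distrib]
      apply Finset.prod_congr rfl
      intro i _
      rw [inv_zpow]

end Char

section Entry

variable {F : Type*} [Field F] (D : ChevalleyDatum)

/-- the diagonal entry of a matrix at the root `u` (`1` if out of range) -/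
def rootEntry (M : Matrix D.Idx D.Idx F) (u : ℕ) : F :=
  if h : u < D.nroots then M (Sum.inr ⟨u, h⟩) (Sum.inr ⟨u, h⟩) else 1

theorem rootEntry_diagonal (χ : ℕ → F) (u : ℕ) (hu : u < D.nroots) :
    rootEntry D (Matrix.diagonal (Sum.elim (fun _ => (1 : F)) (fun s : Fin D.nroots => χ s.val))) u = χ u := by
  unfold rootEntry
  rw [dif_pos hu, Matrix.diagonal_apply_eq]
  rfl

end Entry

section Sig

variable {K : Type*} [Field K] (D : ChevalleyDatum)
  (hD : D ∈ [chevG2, chevB2, chevD4, chevF4, chevE6, chevE7, chevE8])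
  (coord : ℕ → ℕ → ℤ) (hc : coordOK D coord = true)
  (ρ ρ' π π' : ℕ → ℕ) (ε : ℕ → ℤ) (hp : permsOK D ρ ρ' π π' ε = true) (f : K ≃+* K)

include hD hc in
/-- an element of `H` is determined by its diagonal entries at the simple roots -/
theorem diag_ext (k k' : GL D.Idx K) (hk : k ∈ D.diagonalSubgroup K) (hk' : k' ∈ D.diagonalSubgroup K)
    (h : ∀ i < D.rank, rootEntry D (k : Matrix D.Idx D.Idx K) (D.simple i) =
      rootEntry D (k' : Matrix D.Idx D.Idx K) (D.simple i)) : k = k' := by
  have hsim := simpleOK_of_mem D hD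
  obtain ⟨χ, -, hd, hm⟩ := diag_char_mul D hD coord hc k hk
  obtain ⟨χ', -, hd', hm'⟩ := diag_char_mul D hD coord hc k' hk'
  have hs : ∀ i < D.rank, χ (D.simple i) = χ' (D.simple i) := by
    intro i hi
    have := h i hi
    rw [hd, hd', rootEntry_diagonal D χ _ (simple_lt D hsim i hi),
      rootEntry_diagonal D χ' _ (simple_lt D hsim i hi)] at this
    exact this
  apply Units.ext
  rw [hd, hd']
  congr 1
  funext j
  rcases j with a | s
  · rfl
  · simp only [Sum.elim_inr]
    rw [hm s.val s.2, hm' s.val s.2]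
    apply Finset.prod_congr rfl
    intro i hi
    rw [hs i (Finset.mem_range.mp hi)]

include hD hp in
/-- the diagonal entries of a `σ`-fixed element of `H` -/
theorem rootEntry_sigma (k : GL D.Idx K) (hk : k ∈ D.diagonalSubgroup K)
    (hfix : sigmaGL D ρ ρ' π π' ε hp f k = k) (u : ℕ) (hu : u < D.nroots) :
    rootEntry D (k : Matrix D.Idx D.Idx K) (π u) = f (rootEntry D (k : Matrix D.Idx D.Idx K) u) := by
  obtain ⟨hp1, -⟩ := permsOK_spec hp
  have hπu := (hp1 u hu).1
  obtain ⟨χ, -, hd, -⟩ := diagonalSubgroup_char D hD k hk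
  have h1 := sigmaGL_diag D ρ ρ' π π' ε hp f k χ hd
  rw [hfix] at h1
  have e1 : rootEntry D (k : Matrix D.Idx D.Idx K) (π u) = f (χ (π' (π u))) := by
    rw [h1, rootEntry_diagonal D (fun s => f (χ (π' s))) _ hπu]
  rw [e1, (hp1 u hu).2.2.1, hd, rootEntry_diagonal D χ _ hu]

end Sig

end Cfsg.Agent.Helper19.Twist
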