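import Cfsg.Agent.Helper19.Twist.Torus
import Cfsg.Agent.Helper19.Twist.ClassElts

set_option autoImplicit false
set_option maxRecDepth 100000
set_option linter.unusedSectionVars false

/-!
Counting lemmas for the tori of the twisted groups: the fixed field, entries of `h_r(c)`.
-/

namespace Cfsg.Agent.Helper19.Twist

open Cfsg Cfsg.Lie Cfsg.Agent.Helper18 Cfsg.Agent.Helper40.GraphAut Cfsg.Agent.S1081

/-! ### generalities -/

theorem ncard_fixed {K : Type*} [Field K] [Fintype K] {q e : ℕ} (hq : 1 ≤ q)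
    (hK : Fintype.card K = q ^ e) :
    {s : K | s ≠ 0 ∧ s ^ q = s}.ncard = q - 1 := by
  classical
  have hset : {s : K | s ≠ 0 ∧ s ^ q = s} =
      (fun u : Kˣ => (u : K)) '' ((powMonoidHom (q - 1) : Kˣ →* Kˣ).ker : Set Kˣ) := by
    ext s
    simp only [Set.mem_ofPred_eq, Set.mem_image, SetLike.mem_coe, MonoidHom.mem_ker, powMonoidHom_apply]
    constructor
    · rintro ⟨h0, h1⟩
      refine ⟨Units.mk0 s h0, ?_, rfl⟩
      apply Units.ext
      rw [Units.val_pow_eq_pow_val, Units.val_mk0, Units.val_one]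
      have : s ^ (q - 1) * s = 1 * s := by rw [← pow_succ, Nat.sub_add_cancel hq, h1, one_mul]
      exact mul_right_cancel₀ h0 this
    · rintro ⟨u, hu, rfl⟩
      refine ⟨u.ne_zero, ?_⟩
      have := congrArg Units.val hu
      rw [Units.val_pow_eq_pow_val, Units.val_one] at this
      calc (u : K) ^ q = (u : K) ^ (q - 1 + 1) := by rw [Nat.sub_add_cancel hq]
        _ = (u : K) := by rw [pow_succ, this, one_mul]
  rw [hset, Set.ncard_image_of_injective _ Units.val_injective]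
  have h1 : ((powMonoidHom (q - 1) : Kˣ →* Kˣ).ker : Set Kˣ).ncard =
      Nat.card (powMonoidHom (q - 1) : Kˣ →* Kˣ).ker := (Nat.card_coe_set_eq _)
  rw [h1, IsCyclic.card_powMonoidHom_ker, Nat.card_units, Nat.card_eq_fintype_card, hK]
  apply Nat.gcd_eq_right
  exact Nat.sub_one_dvd_pow_sub_one q e

theorem ncard_ne_zero {K : Type*} [Field K] [Fintype K] : {s : K | s ≠ 0}.ncard = Fintype.card K - 1 := by
  classical
  have : {s : K | s ≠ 0} = ({0} : Set K)ᶜ := by ext s; simp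
  rw [this, Set.ncard_compl, Set.ncard_singleton, Nat.card_eq_fintype_card]

theorem coprime_aux (q : ℕ) (hq : 2 ≤ q) : Nat.Coprime (2 * q - 2) (q ^ 2 + q - 3) := by
  obtain ⟨m, rfl⟩ : ∃ m, q = m + 2 := ⟨q - 2, by omega⟩
  have e1 : 2 * (m + 2) - 2 = 2 * (m + 1) := by omega
  have e2 : (m + 2) ^ 2 + (m + 2) - 3 = m ^ 2 + 5 * m + 3 := by
    have : (m + 2) ^ 2 + (m + 2) = m ^ 2 + 5 * m + 3 + 3 := by ring
    omega
  rw [e1, e2]
  have hodd : Nat.Coprime 2 (m ^ 2 + 5 * m + 3) := by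
    rw [Nat.coprime_two_left]
    have : Even (m ^ 2 + 5 * m) := by
      have : m ^ 2 + 5 * m = m * (m + 1) + 4 * m := by ring
      rw [this]
      exact (Nat.even_mul_succ_self m).add ⟨2 * m, by ring⟩
    exact this.add_odd (by decide)
  have h2 : Nat.Coprime (m + 1) (m ^ 2 + 5 * m + 3) := by
    have h3 : Nat.Coprime (m + 1) ((m + 4) * (m + 1) - 1) := by
      have hpos : 1 ≤ (m + 4) * (m + 1) := by nlinarith
      rw [Nat.coprime_iff_gcd_eq_one]
      have hd : Nat.gcd (m + 1) ((m + 4) * (m + 1) - 1) ∣ 1 := by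
        have d1 : Nat.gcd (m + 1) ((m + 4) * (m + 1) - 1) ∣ (m + 4) * (m + 1) :=
          Dvd.dvd.mul_left (Nat.gcd_dvd_left _ _) _
        have d2 : Nat.gcd (m + 1) ((m + 4) * (m + 1) - 1) ∣ (m + 4) * (m + 1) - 1 := Nat.gcd_dvd_right _ _
        have := Nat.dvd_sub d1 d2
        rwa [Nat.sub_sub_self hpos] at this
      exact Nat.dvd_one.mp hd
    have e : m ^ 2 + 5 * m + 3 = (m + 4) * (m + 1) - 1 := by
      have : m ^ 2 + 5 * m + 3 + 1 = (m + 4) * (m + 1) := by ring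
      omega
    rw [e]; exact h3
  exact Nat.Coprime.mul_left hodd h2

theorem eq_one_of_pows {K : Type*} [Field K] {q : ℕ} (hq : 2 ≤ q) (b : K) (hb : b ≠ 0)
    (h1 : b ^ (2 * q) = b ^ 2) (h2 : b ^ (q ^ 2 + q + 1) = b ^ 4) : b = 1 := by
  have e1 : b ^ (2 * q - 2) = 1 := by
    have : b ^ (2 * q - 2) * b ^ 2 = 1 * b ^ 2 := by
      rw [← pow_add, Nat.sub_add_cancel (by omega), h1, one_mul]
    exact mul_right_cancel₀ (pow_ne_zero 2 hb) this
  have e2 : b ^ (q ^ 2 + q - 3) = 1 := by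
    have h4 : 4 ≤ q ^ 2 + q + 1 := by nlinarith
    have : b ^ (q ^ 2 + q - 3) * b ^ 4 = 1 * b ^ 4 := by
      rw [← pow_add, one_mul, ← h2]
      congr 1
      omega
    exact mul_right_cancel₀ (pow_ne_zero 4 hb) this
  have e3 := pow_gcd_eq_one.mpr ⟨e1, e2⟩
  rw [Nat.Coprime.gcd_eq_one (coprime_aux q hq), pow_one] at e3
  exact e3

section Entries

variable {K : Type*} [Field K] (D : ChevalleyDatum)
  (hD : D ∈ [chevG2, chevB2, chevD4, chevF4, chevE6, chevE7, chevE8])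
include hD

theorem rootEntry_hG (r u : ℕ) (hr : r < D.nroots) (hu : u < D.nroots) (c : K) (hc : c ≠ 0) :
    rootEntry D ((hG D K r c : GL D.Idx K) : Matrix D.Idx D.Idx K) u = c ^ pairing' D r u := by
  unfold hG
  rw [hWordGL_val D hD, hMat_eq_wDiag D hD r hr c hc]
  unfold wDiag
  exact rootEntry_diagonal D (fun s => c ^ pairing' D r s) u hu

theorem hG_mem (r : ℕ) (hr : r < D.nroots) (c : K) (hc : c ≠ 0) : hG D K r c ∈ D.diagonalSubgroup K :=
  hWordGL_mem_diagonalSubgroup D hD r hr c hc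

theorem rootEntry_mul (k k' : GL D.Idx K) (hk : k ∈ D.diagonalSubgroup K) (hk' : k' ∈ D.diagonalSubgroup K)
    (u : ℕ) :
    rootEntry D ((k * k' : GL D.Idx K) : Matrix D.Idx D.Idx K) u =
      rootEntry D (k : Matrix D.Idx D.Idx K) u * rootEntry D (k' : Matrix D.Idx D.Idx K) u := by
  obtain ⟨χ, -, hd, -⟩ := diagonalSubgroup_char D hD k hk
  obtain ⟨χ', -, hd', -⟩ := diagonalSubgroup_char D hD k' hk'
  by_cases hu : u < D.nroots
  · rw [Units.val_mul, hd, hd', Matrix.diagonal_mul_diagonal]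
    unfold rootEntry
    rw [dif_pos hu, dif_pos hu, dif_pos hu, Matrix.diagonal_apply_eq, Matrix.diagonal_apply_eq,
      Matrix.diagonal_apply_eq]
  · unfold rootEntry
    rw [dif_neg hu, dif_neg hu, dif_neg hu, one_mul]

theorem rootEntry_ne_zero (k : GL D.Idx K) (hk : k ∈ D.diagonalSubgroup K) (u : ℕ) :
    rootEntry D (k : Matrix D.Idx D.Idx K) u ≠ 0 := by
  obtain ⟨χ, hχ, hd, -⟩ := diagonalSubgroup_char D hD k hk
  by_cases hu : u < D.nroots
  · rw [hd, rootEntry_diagonal D χ u hu]; exact hχ u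
  · unfold rootEntry
    rw [dif_neg hu]; exact one_ne_zero

end Entries

end Cfsg.Agent.Helper19.Twist
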