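import Cfsg.Agent.Helper19.Twist.TwBN
import Cfsg.Agent.Helper19.Twist.OrdProd
import Cfsg.Agent.S1037
import Cfsg.Agent.S1040

/-!
The `(B, N)`-pair of a group `G¹` of `σ`-fixed points of a Chevalley group, with `B¹ = B ∩ G¹` and
`N¹ = N ∩ G¹`, assembled from the double coset axiom and the covering of `TwBN`.
-/

set_option autoImplicit false
set_option maxRecDepth 100000
set_option linter.unusedSectionVars false

namespace Cfsg.Agent.Helper19.Twist

open Cfsg Cfsg.Lie Cfsg.Agent.Helper18 Cfsg.Agent.Helper19.Cox Cfsg.Agent.Helper19.Poinc DoubleCoset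
open Cfsg.Agent.Helper40.GraphAut

section Pair

variable {K : Type*} [Field K] (D : ChevalleyDatum)
  (hD : D ∈ [chevG2, chevB2, chevD4, chevF4, chevE6, chevE7, chevE8]) (C : Cert D)
  (h31 : NConjHyp D K) [hn : (HN D K).Normal]
  (ρ ρ' π π' : ℕ → ℕ) (ε : ℕ → ℤ) (hp : permsOK D ρ ρ' π π' ε = true) (f : K ≃+* K)
  (h : allOK D ρ ρ' π π' ε = true) (htw : twistOK D π ε (hlfOf D) = true) (hiso : isoOK D π π' = true)
  (hOK : rootInjOK D = true) (h42 : H42 D K) (h45 : H45 D K)
  (G1 : Subgroup (GL D.Idx K)) (hG1fix : G1 ≤ Fix D ρ ρ' π π' ε hp f)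
  (hU : D.posUnipotent K ⊓ Fix D ρ ρ' π π' ε hp f ≤ G1) (hG1 : G1 ≤ D.group K)
  (n1 : ℕ) (J : ℕ → List ℕ)
  (hJ : ∀ a < n1, ∀ j ∈ J a, j < D.rank)
  (hsG : ∀ a < n1, ((sList D K (J a) : ↥(D.monomialSubgroup K)) : GL D.Idx K) ∈ G1)

/-- the product of the class representatives along a word -/
noncomputable def sWord (D : ChevalleyDatum) (K : Type*) [Field K] (J : ℕ → List ℕ) (word : List ℕ) :
    ↥(D.monomialSubgroup K) := (word.map fun a => sList D K (J a)).prod

include hD hJ in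
theorem theta_sWord (word : List ℕ) (hw : ∀ a ∈ word, a < n1) :
    theta D hD C h31 (sWord D K J word) = gp C.M (word.flatMap J) := by
  induction word with
  | nil => simp [sWord, gp]
  | cons a word ih =>
    have : sWord D K J (a :: word) = sList D K (J a) * sWord D K J word := by simp [sWord]
    rw [this, map_mul, theta_sList D hD C h31 (J a) (hJ a (hw a List.mem_cons_self)),
      ih (fun b hb => hw b (List.mem_cons_of_mem _ hb)), List.flatMap_cons, gp_append]

include hsG in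
theorem sWord_mem (word : List ℕ) (hw : ∀ a ∈ word, a < n1) :
    ((sWord D K J word : ↥(D.monomialSubgroup K)) : GL D.Idx K) ∈ G1 := by
  induction word with
  | nil => simp [sWord]
  | cons a word ih =>
    have : sWord D K J (a :: word) = sList D K (J a) * sWord D K J word := by simp [sWord]
    rw [this, Subgroup.coe_mul]
    exact Subgroup.mul_mem _ (hsG a (hw a List.mem_cons_self)) (ih (fun b hb => hw b (List.mem_cons_of_mem _ hb)))

include hD in
/-- conjugation by a representative of `w` maps the root subgroups of roots made negative into `V` -/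
theorem conj_listSubgroup_le_neg (n : ↥(D.monomialSubgroup K)) (P : List ℕ)
    (hP : ∀ r ∈ P, r < D.nroots ∧ phi C.M C.Mx C.hI C.hB C.hMx (theta D hD C h31 n) r < hlfOf D)
    (x : GL D.Idx K) (hx : x ∈ listSubgroup D K P) :
    (n : GL D.Idx K) * x * (n : GL D.Idx K)⁻¹ ∈ D.negUnipotent K := by
  have htri := triOK_of_mem D hD
  have hpos := posOK_of_mem D hD
  unfold listSubgroup at hx
  induction hx using Subgroup.closure_induction with
  | mem y hy =>
    obtain ⟨r, t, hr, hy⟩ := hy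
    have e : y = xGL D K r t := Units.ext (by rw [hy, xGL_val D _ htri])
    obtain ⟨hr1, hr2⟩ := hP r hr
    obtain ⟨hlt, t', e1⟩ := conj_rep D hD C h31 _ n (theta_spec D hD C h31 n) r hr1 t
    rw [e, e1]
    exact rootSubgroup_le_negUnipotent D hD _ ((isNegRoot_iff D _ hpos _).mpr ⟨hr2, hlt⟩)
      (xGL_mem_rootSubgroup D hD _ _)
  | one => simp
  | mul a b _ _ ha hb =>
    have : (n : GL D.Idx K) * (a * b) * (n : GL D.Idx K)⁻¹ =
        ((n : GL D.Idx K) * a * (n : GL D.Idx K)⁻¹) * ((n : GL D.Idx K) * b * (n : GL D.Idx K)⁻¹) := by group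
    rw [this]; exact Subgroup.mul_mem _ ha hb
  | inv a _ ha =>
    have : (n : GL D.Idx K) * a⁻¹ * (n : GL D.Idx K)⁻¹ = ((n : GL D.Idx K) * a * (n : GL D.Idx K)⁻¹)⁻¹ := by group
    rw [this]; exact Subgroup.inv_mem _ ha

variable (hfs : fixSubOK C.tabs D.rank D.nroots n1 J π = true)
  (hrange : ∀ w, IsFix C π w → ∃ word : List ℕ, (∀ a ∈ word, a < n1) ∧ w = gp C.M (word.flatMap J))
  (hsq : ∀ a < n1, gp C.M (J a) * gp C.M (J a) = 1)
  (hdist : ∀ a < n1, ∀ b < n1, gp C.M (J a) = gp C.M (J b) → a = b)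
  (hnegJ : ∀ a < n1, ∀ j ∈ J a, phi C.M C.Mx C.hI C.hB C.hMx (gp C.M (J a)) (D.simple j) < hlfOf D)
  (hx : ∀ a < n1, ∃ x ∈ listSubgroup D K ((J a).map D.simple) ⊓ G1, x ≠ 1)
  (h25 : CommHyp D K)

include hD h31 h htw hiso hOK h42 h45 hG1fix hU hG1 hJ hsG hfs hrange hsq hdist hnegJ hx h25 in
/-- the `(B, N)`-pair of `G¹` -/
theorem twisted_bnPair :
    ∃ P : Cfsg.BNPair ↥G1, P.B = (D.borelSubgroup K ⊓ G1).subgroupOf G1 ∧
      P.N = (D.monomialSubgroup K ⊓ G1).subgroupOf G1 := by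
  have hBN := (Cfsg.Agent.S1040.result (F := K) D hD).2
  have hBV := (Cfsg.Agent.S1037.result (F := K) D hD).1
  have hHB : D.diagonalSubgroup K ≤ D.borelSubgroup K := le_sup_right
  have hHN : D.diagonalSubgroup K ≤ D.monomialSubgroup K := le_sup_left
  -- membership in `H` of elements of `N` from the Weyl group
  have hH_of_theta : ∀ m : ↥(D.monomialSubgroup K), theta D hD C h31 m = 1 → (m : GL D.Idx K) ∈ D.diagonalSubgroup K :=
    fun m hm => (theta_eq_one_iff D hD C h31 m).mp hm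
  have hrep : ∀ w, IsFix C π w → ∃ n' : ↥(D.monomialSubgroup K), theta D hD C h31 n' = w ∧ (n' : GL D.Idx K) ∈ G1 := by
    intro w hw
    obtain ⟨word, hword, rfl⟩ := hrange w hw
    exact ⟨sWord D K J word, theta_sWord D hD C h31 n1 J hJ word hword, sWord_mem D G1 n1 J hsG word hword⟩
  let B' : Subgroup ↥G1 := (D.borelSubgroup K ⊓ G1).subgroupOf G1
  let N' : Subgroup ↥G1 := (D.monomialSubgroup K ⊓ G1).subgroupOf G1
  let S' : Set ↥G1 := {s | ∃ a < n1, (s : GL D.Idx K) = (sList D K (J a) : GL D.Idx K)}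
  have memB : ∀ x : ↥G1, x ∈ B' ↔ (x : GL D.Idx K) ∈ D.borelSubgroup K := by
    intro x
    rw [Subgroup.mem_subgroupOf, Subgroup.mem_inf]
    exact ⟨fun hx' => hx'.1, fun hx' => ⟨hx', x.2⟩⟩
  have memN : ∀ x : ↥G1, x ∈ N' ↔ (x : GL D.Idx K) ∈ D.monomialSubgroup K := by
    intro x
    rw [Subgroup.mem_subgroupOf, Subgroup.mem_inf]
    exact ⟨fun hx' => hx'.1, fun hx' => ⟨hx', x.2⟩⟩
  have hS'N : S' ⊆ (N' : Set ↥G1) := by
    rintro s ⟨a, ha, hs⟩
    rw [SetLike.mem_coe, memN, hs]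
    exact (sList D K (J a)).2
  refine ⟨{ B := B', N := N', S := S', sup_eq_top := ?_, conj_mem := ?_, subset := hS'N, sq_mem := ?_, inj := ?_,
            closure_sup := ?_, mul_mem_union := ?_, conj_ne := ?_ }, rfl, rfl⟩
  · -- sup_eq_top
    rw [eq_top_iff]
    rintro ⟨g, hg⟩ -
    obtain ⟨b1, hb1, n, hn', b2, hb2, e⟩ := twisted_cover D hD C h31 ρ ρ' π π' ε hp f h htw hiso hOK h42 h45 G1
      hG1fix hU hG1 hrep g hg
    have : (⟨g, hg⟩ : ↥G1) = ⟨b1, hb1.2⟩ * ⟨n, hn'.2⟩ * ⟨b2, hb2.2⟩ := Subtype.ext e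
    rw [this]
    refine Subgroup.mul_mem _ (Subgroup.mul_mem _ (Subgroup.mem_sup_left ?_) (Subgroup.mem_sup_right ?_))
      (Subgroup.mem_sup_left ?_)
    · exact (memB _).mpr hb1.1
    · exact (memN _).mpr hn'.1
    · exact (memB _).mpr hb2.1
  · -- conj_mem
    intro n hn' t ht
    rw [memB]
    have htH : (t : GL D.Idx K) ∈ D.diagonalSubgroup K := by
      rw [← hBN]
      exact ⟨(memB t).mp ht.1, (memN t).mp ht.2⟩
    have hnN := (memN n).mp hn'
    have h1 : (⟨(t : GL D.Idx K), hHN htH⟩ : ↥(D.monomialSubgroup K)) ∈ HN D K := by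
      rw [Subgroup.mem_subgroupOf]; exact htH
    have h2 := hn.conj_mem _ h1 ⟨(n : GL D.Idx K), hnN⟩
    rw [Subgroup.mem_subgroupOf] at h2
    apply hHB
    simpa using h2
  · -- sq_mem
    rintro s ⟨a, ha, hs⟩
    rw [memB, Subgroup.coe_mul, hs]
    apply hHB
    have := hH_of_theta (sList D K (J a) * sList D K (J a)) (by
      rw [map_mul, theta_sList D hD C h31 (J a) (hJ a ha), hsq a ha])
    simpa using this
  · -- inj
    rintro s ⟨a, ha, hs⟩ s' ⟨b, hb, hs'⟩ hmem
    have h1 : ((s⁻¹ * s' : ↥G1) : GL D.Idx K) ∈ D.borelSubgroup K := (memB _).mp hmem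
    rw [Subgroup.coe_mul, Subgroup.coe_inv, hs, hs'] at h1
    have h2 : (((sList D K (J a))⁻¹ * sList D K (J b) : ↥(D.monomialSubgroup K)) : GL D.Idx K) ∈
        D.borelSubgroup K ⊓ D.monomialSubgroup K := ⟨by simpa using h1, ((sList D K (J a))⁻¹ * sList D K (J b)).2⟩
    rw [hBN, ← theta_eq_one_iff D hD C h31, map_mul, map_inv, theta_sList D hD C h31 (J a) (hJ a ha),
      theta_sList D hD C h31 (J b) (hJ b hb), inv_mul_eq_one] at h2
    have hab := hdist a ha b hb h2
    subst hab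
    exact Subtype.ext (hs.trans hs'.symm)
  · -- closure_sup
    apply le_antisymm
    · exact sup_le ((Subgroup.closure_le _).mpr hS'N) inf_le_right
    · intro n hn'
      have hnN := (memN n).mp hn'
      let nN' : ↥(D.monomialSubgroup K) := ⟨(n : GL D.Idx K), hnN⟩
      have hfixn : IsFix C π (theta D hD C h31 nN') :=
        theta_isFix D hD C h31 ρ ρ' π π' ε hp f h hOK nN' (hG1fix n.2)
      obtain ⟨word, hword, hw⟩ := hrange _ hfixn
      set m := sWord D K J word with hm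
      have hmG := sWord_mem D G1 n1 J hsG word hword
      have hθ : theta D hD C h31 (m⁻¹ * nN') = 1 := by
        rw [map_mul, map_inv, theta_sWord D hD C h31 n1 J hJ word hword, hw, inv_mul_cancel]
      have hH := hH_of_theta _ hθ
      -- `m ∈ closure S'`
      have hmcl : ∀ word' : List ℕ, (∀ a ∈ word', a < n1) →
          ∀ hmem : ((sWord D K J word' : ↥(D.monomialSubgroup K)) : GL D.Idx K) ∈ G1,
          (⟨_, hmem⟩ : ↥G1) ∈ Subgroup.closure S' := by
        intro word'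
        induction word' with
        | nil =>
          intro _ hmem
          have : (⟨_, hmem⟩ : ↥G1) = 1 := Subtype.ext (by simp [sWord])
          rw [this]; exact Subgroup.one_mem _
        | cons a word' ih =>
          intro hw' hmem
          have ha := hw' a List.mem_cons_self
          have hw'' : ∀ b ∈ word', b < n1 := fun b hb => hw' b (List.mem_cons_of_mem _ hb)
          have hmem' := sWord_mem D G1 n1 J hsG word' hw''
          have e : (⟨_, hmem⟩ : ↥G1) = ⟨_, hsG a ha⟩ * ⟨_, hmem'⟩ := Subtype.ext (by simp [sWord])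
          rw [e]
          exact Subgroup.mul_mem _ (Subgroup.subset_closure ⟨a, ha, rfl⟩) (ih hw'' hmem')
      have e : n = ⟨_, hmG⟩ * ⟨((m⁻¹ * nN' : ↥(D.monomialSubgroup K)) : GL D.Idx K),
          Subgroup.mul_mem _ (Subgroup.inv_mem _ hmG) n.2⟩ := Subtype.ext (by
        simp only [Subgroup.coe_mul, Subgroup.coe_inv, nN']
        rw [hm]; group)
      rw [e]
      refine Subgroup.mul_mem _ (Subgroup.mem_sup_left (hmcl word hword hmG)) (Subgroup.mem_sup_right ?_)
      exact ⟨(memB _).mpr (hHB hH), (memN _).mpr (hHN hH)⟩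
  · -- mul_mem_union
    rintro s ⟨a, ha, hs⟩ n hn' b hb
    have hnN := (memN n).mp hn'
    have hbB := (memB b).mp hb
    obtain ⟨b1, hb1, b2, hb2, e⟩ := twisted_bn_mul_mem D hD C h31 ρ ρ' π π' ε hp f h htw hiso hOK h42 h45 G1
      hG1fix hU hG1 h25 (J a) (hJ a ha) (fixSub_spec D C π hfs a ha) (hsG a ha) ⟨(n : GL D.Idx K), hnN⟩ n.2
      (b : GL D.Idx K) ⟨hbB, b.2⟩
    rcases e with e | e
    · left
      rw [mem_doubleCoset]
      refine ⟨⟨b1, hb1.2⟩, (memB _).mpr hb1.1, ⟨b2, hb2.2⟩, (memB _).mpr hb2.1, ?_⟩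
      apply Subtype.ext
      simp only [Subgroup.coe_mul, hs]
      exact e
    · right
      rw [mem_doubleCoset]
      refine ⟨⟨b1, hb1.2⟩, (memB _).mpr hb1.1, ⟨b2, hb2.2⟩, (memB _).mpr hb2.1, ?_⟩
      apply Subtype.ext
      simp only [Subgroup.coe_mul, hs]
      exact e
  · -- conj_ne
    rintro s ⟨a, ha, hs⟩ heq
    obtain ⟨x, hx1, hxne⟩ := hx a ha
    have hxU : x ∈ D.posUnipotent K := by
      have hpos := posOK_of_mem D hD
      have hle : listSubgroup D K ((J a).map D.simple) ≤ D.posUnipotent K := by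
        unfold listSubgroup ChevalleyDatum.posUnipotent
        apply Subgroup.closure_mono
        rintro g ⟨r, t, hr, hg⟩
        obtain ⟨j, hj, rfl⟩ := List.mem_map.mp hr
        exact ⟨_, t, (simpleSign_spec D hD j (hJ a ha j hj)).1, hg⟩
      exact hle hx1.1
    have hxB : (⟨x, hx1.2⟩ : ↥G1) ∈ (B' : Set ↥G1) := (memB _).mpr (Subgroup.mem_sup_left hxU)
    have h1 : (s * ⟨x, hx1.2⟩ * s : ↥G1) ∈ (B' : Set ↥G1) := by
      rw [← heq]; exact ⟨_, hxB, rfl⟩
    have h2 : (s : GL D.Idx K) * x * (s : GL D.Idx K) ∈ D.borelSubgroup K := (memB _).mp h1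
    rw [hs] at h2
    -- `s * s ∈ H`
    have hss : ((sList D K (J a) * sList D K (J a) : ↥(D.monomialSubgroup K)) : GL D.Idx K) ∈ D.diagonalSubgroup K :=
      hH_of_theta _ (by rw [map_mul, theta_sList D hD C h31 (J a) (hJ a ha), hsq a ha])
    rw [Subgroup.coe_mul] at hss
    set sg' : GL D.Idx K := (sList D K (J a) : GL D.Idx K) with hsg'
    have h3 : sg' * x * sg'⁻¹ ∈ D.borelSubgroup K := by
      have : sg' * x * sg'⁻¹ = (sg' * x * sg') * (sg' * sg')⁻¹ := by group
      rw [this]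
      exact Subgroup.mul_mem _ h2 (Subgroup.inv_mem _ (hHB hss))
    have h4 : sg' * x * sg'⁻¹ ∈ D.negUnipotent K := by
      apply conj_listSubgroup_le_neg D hD C h31 (sList D K (J a)) ((J a).map D.simple) _ x hx1.1
      intro r hr
      obtain ⟨j, hj, rfl⟩ := List.mem_map.mp hr
      rw [theta_sList D hD C h31 (J a) (hJ a ha)]
      exact ⟨simple_lt D (simpleOK_of_mem D hD) j (hJ a ha j hj), hnegJ a ha j hj⟩
    have h5 : sg' * x * sg'⁻¹ ∈ D.borelSubgroup K ⊓ D.negUnipotent K := ⟨h3, h4⟩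
    rw [hBV, Subgroup.mem_bot] at h5
    apply hxne
    have : x = sg'⁻¹ * (sg' * x * sg'⁻¹) * sg' := by group
    rw [this, h5]; group

end Pair

end Cfsg.Agent.Helper19.Twist
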