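import Cfsg.Agent.Helper19.Twist.WeylN
import Cfsg.Agent.Helper19.Poinc.Bruhat
import Cfsg.Agent.Helper36.BruhatUnique

/-!
The normal form `g = b n u` of the elements of a Chevalley group which are fixed by a graph-field
automorphism `σ`: the Weyl group component commutes with the symmetry, and, for a representative
`n` fixed by `σ`, the components `b` and `u` are fixed by `σ`.
-/

set_option autoImplicit false
set_option maxRecDepth 100000
set_option linter.unusedSectionVars false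

namespace Cfsg.Agent.Helper19.Twist

open Cfsg Cfsg.Lie Cfsg.Agent.Helper18 Cfsg.Agent.Helper19.Cox Cfsg.Agent.Helper19.Poinc
open Cfsg.Agent.Helper40.GraphAut

section TwB

variable {K : Type*} [Field K] (D : ChevalleyDatum)
  (hD : D ∈ [chevG2, chevB2, chevD4, chevF4, chevE6, chevE7, chevE8]) (C : Cert D)
  (h31 : NConjHyp D K) [hn : (HN D K).Normal]
  (ρ ρ' π π' : ℕ → ℕ) (ε : ℕ → ℤ) (hp : permsOK D ρ ρ' π π' ε = true) (f : K ≃+* K)
  (h : allOK D ρ ρ' π π' ε = true) (htw : twistOK D π ε (hlfOf D) = true) (hiso : isoOK D π π' = true)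
  (hOK : rootInjOK D = true)

include hD h htw in
/-- `σ` maps `U_n⁻` into `U_{σ n}⁻` -/
theorem sigmaGL_UnegN (n u : GL D.Idx K) (hu : u ∈ UnegN D K n) :
    sigmaGL D ρ ρ' π π' ε hp f u ∈ UnegN D K (sigmaGL D ρ ρ' π π' ε hp f n) := by
  have htri := triOK_of_mem D hD
  have hpos := posOK_of_mem D hD
  obtain ⟨hp1, -⟩ := permsOK_spec hp
  unfold UnegN at hu
  induction hu using Subgroup.closure_induction with
  | mem x hx =>
    obtain ⟨r, t, hr, hle, hx⟩ := hx
    have hr' := (isPosRoot_iff D _ hpos r).mp hr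
    have e : x = xGL D K r t := Units.ext (by rw [hx, xGL_val D _ htri])
    rw [e, sigmaGL_xGL D ρ ρ' π π' ε hp f hD h r hr'.2]
    apply Subgroup.subset_closure
    have hπ : π r < D.nroots := (hp1 r hr'.2).1
    refine ⟨π r, ((ε r : ℤ) : K) * f t, ?_, ?_, xGL_val D _ htri _ _⟩
    · rw [isPosRoot_iff D _ hpos]
      exact ⟨((twistOK_spec htw r hr'.2).1).mp hr'.1, hπ⟩
    · rintro z ⟨y, hy, rfl⟩
      obtain ⟨s, rfl⟩ := (mem_rootSubgroup_iff D hD (π r) hπ y).mp hy
      -- `x_{π r}(s) = σ (x_r(s'))`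
      have hε : ((ε r : ℤ) : K) * ((ε r : ℤ) : K) = 1 := by
        rcases (hp1 r hr'.2).2.2.2.2 with e' | e' <;> rw [e'] <;> simp
      have e2 : xGL D K (π r) s = sigmaGL D ρ ρ' π π' ε hp f (xGL D K r (f.symm (((ε r : ℤ) : K) * s))) := by
        rw [sigmaGL_xGL D ρ ρ' π π' ε hp f hD h r hr'.2, RingEquiv.apply_symm_apply, ← mul_assoc, hε, one_mul]
      have e3 : (MulAut.conj (sigmaGL D ρ ρ' π π' ε hp f n)).toMonoidHom (xGL D K (π r) s) =
          sigmaGL D ρ ρ' π π' ε hp f ((MulAut.conj n).toMonoidHom (xGL D K r (f.symm (((ε r : ℤ) : K) * s)))) := by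
        rw [e2]
        simp [MulAut.conj_apply]
      rw [e3]
      apply sigmaGL_negUnipotent D ρ ρ' π π' ε hp f hD h htw
      exact hle ⟨_, xGL_mem_rootSubgroup D hD _ _, rfl⟩
  | one => rw [map_one]; exact Subgroup.one_mem _
  | mul a b _ _ ha hb => rw [map_mul]; exact Subgroup.mul_mem _ ha hb
  | inv a _ ha => rw [map_inv]; exact Subgroup.inv_mem _ ha

include hD h hOK in
/-- if `σ n` and `n` have the same image in the Weyl group, that image commutes with the symmetry -/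
theorem theta_isFix' (n n' : ↥(D.monomialSubgroup K))
    (hσ : sigmaGL D ρ ρ' π π' ε hp f (n : GL D.Idx K) = n')
    (hθ : theta D hD C h31 n' = theta D hD C h31 n) :
    IsFix C π (theta D hD C h31 n) := by
  have htri := triOK_of_mem D hD
  obtain ⟨hp1, -⟩ := permsOK_spec hp
  intro r hr
  set w := theta D hD C h31 n with hw
  have hspec := theta_spec D hD C h31 n
  have hspec' := theta_spec D hD C h31 n'
  rw [hθ] at hspec'
  obtain ⟨hlt, t', e1⟩ := conj_rep D hD C h31 w n hspec r hr 1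
  have hπr : π r < D.nroots := (hp1 r hr).1
  obtain ⟨hlt2, t'', e2⟩ := conj_rep D hD C h31 w n' hspec' (π r) hπr (((ε r : ℤ) : K) * f 1)
  have e3 := congrArg (sigmaGL D ρ ρ' π π' ε hp f) e1
  rw [map_mul, map_mul, map_inv, hσ, sigmaGL_xGL D ρ ρ' π π' ε hp f hD h r hr,
    sigmaGL_xGL D ρ ρ' π π' ε hp f hD h _ hlt, e2] at e3
  have hne : t'' ≠ 0 := by
    intro h0
    rw [h0] at e3
    have e4 : sigmaGL D ρ ρ' π π' ε hp f (xGL D K (phi C.M C.Mx C.hI C.hB C.hMx w r) t') = 1 := by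
      rw [sigmaGL_xGL D ρ ρ' π π' ε hp f hD h _ hlt, ← e3]
      apply Units.ext
      rw [xGL_val D _ htri, Units.val_one]
      exact (Cfsg.Agent.S1024.result D hD _ hlt2 0).mpr rfl
    have e5 : xGL D K (phi C.M C.Mx C.hI C.hB C.hMx w r) t' = 1 :=
      (MulEquiv.map_eq_one_iff _).mp e4
    rw [← e1] at e5
    have e6 : xGL D K r (1 : K) = 1 := by
      have : xGL D K r (1 : K) = (n : GL D.Idx K)⁻¹ * ((n : GL D.Idx K) * xGL D K r 1 * (n : GL D.Idx K)⁻¹) *
          (n : GL D.Idx K) := by group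
      rw [this, e5]; group
    have e7 := congrArg (fun g : GL D.Idx K => (g : Matrix D.Idx D.Idx K)) e6
    simp only [xGL_val D _ htri, Units.val_one] at e7
    exact one_ne_zero ((Cfsg.Agent.S1024.result D hD r hr (1 : K)).mp e7)
  exact xGL_root_inj D _ htri hOK _ _ hlt2 ((hp1 _ hlt).1) t'' _ hne e3

include hD in
theorem UnegW_le_pos (w : C.M.Group) : UnegW D C K w ≤ D.posUnipotent K := by
  have htri := triOK_of_mem D hD
  have hpos := posOK_of_mem D hD
  unfold UnegW ChevalleyDatum.posUnipotent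
  apply Subgroup.closure_mono
  rintro x ⟨r, t, hr, -, rfl⟩
  exact ⟨r, t, (isPosRoot_iff D _ hpos r).mpr hr, xGL_val D _ htri r t⟩

variable (h42 : H42 D K) (h45 : H45 D K)

include hD h htw hiso hOK h42 h45 in
/-- the normal form of an element fixed by `σ` -/
theorem fixed_normal_form (g : GL D.Idx K) (hg : g ∈ D.group K)
    (hfix : sigmaGL D ρ ρ' π π' ε hp f g = g) :
    ∃ w : C.M.Group, IsFix C π w ∧ ∀ n' : ↥(D.monomialSubgroup K), theta D hD C h31 n' = w →
      sigmaGL D ρ ρ' π π' ε hp f (n' : GL D.Idx K) = n' →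
      ∃ b ∈ D.borelSubgroup K ⊓ Fix D ρ ρ' π π' ε hp f, ∃ u ∈ UnegW D C K w ⊓ Fix D ρ ρ' π π' ε hp f,
        g = b * n' * u := by
  have huniq := Cfsg.Agent.Helper36.bruhat_normal_form_unique_of_bn (F := K) D hD h42
  obtain ⟨w, n, hnw, hgn⟩ := DC_cover D hD C h31 h42 ⟨g, hg⟩
  obtain ⟨b, hb, u, hu, e⟩ := bruhat_exists_aux D hD C h31 h45 w n hnw g hgn
  have huN : u ∈ UnegN D K (n : GL D.Idx K) := UnegW_le D hD C h31 w n hnw hu
  have hθn : theta D hD C h31 n = w := theta_eq_of_mk D hD C h31 n w hnw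
  -- apply `σ`
  have e' : g = sigmaGL D ρ ρ' π π' ε hp f b * sigmaGL D ρ ρ' π π' ε hp f (n : GL D.Idx K) *
      sigmaGL D ρ ρ' π π' ε hp f u := by
    rw [← map_mul, ← map_mul, ← e, hfix]
  have hσn := sigmaGL_monomialSubgroup D ρ ρ' π π' ε hp f hD h htw hiso _ n.2
  have hσb := sigmaGL_borelSubgroup D ρ ρ' π π' ε hp f hD h htw hiso _ hb
  have hσu := sigmaGL_UnegN D hD ρ ρ' π π' ε hp f h htw _ _ huN
  have h1 := (huniq b _ n _ u _ hb hσb n.2 hσn huN hσu (e.symm.trans e')).1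
  -- `θ (σ n) = θ n`
  let n₁ : ↥(D.monomialSubgroup K) := ⟨_, hσn⟩
  have hθ1 : theta D hD C h31 n₁ = theta D hD C h31 n := by
    have : theta D hD C h31 (n⁻¹ * n₁) = 1 := by
      rw [theta_eq_one_iff]
      exact h1
    rw [map_mul, map_inv, inv_mul_eq_one] at this
    exact this.symm
  have hfixw : IsFix C π w := by
    rw [← hθn]
    exact theta_isFix' D hD C h31 ρ ρ' π π' ε hp f h hOK n n₁ rfl hθ1
  refine ⟨w, hfixw, ?_⟩
  intro n' hn' hσn'
  -- replace `n` by `n'`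
  have h2 : ((n * n'⁻¹ : ↥(D.monomialSubgroup K)) : GL D.Idx K) ∈ D.diagonalSubgroup K := by
    rw [← theta_eq_one_iff D hD C h31, map_mul, map_inv, hθn, hn', mul_inv_cancel]
  set h₂ : GL D.Idx K := (n : GL D.Idx K) * (n' : GL D.Idx K)⁻¹ with hh₂
  have h2' : h₂ ∈ D.diagonalSubgroup K := by simpa using h2
  have hb' : b * h₂ ∈ D.borelSubgroup K := Subgroup.mul_mem _ hb (Subgroup.mem_sup_right h2')
  have e2 : g = b * h₂ * n' * u := by rw [e, hh₂]; group
  have hnw' : (QuotientGroup.mk n' : ↥(D.monomialSubgroup K) ⧸ HN D K) = psiC D hD C h31 w := by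
    rw [theta_spec D hD C h31 n', hn']
  have huN' : u ∈ UnegN D K (n' : GL D.Idx K) := UnegW_le D hD C h31 w n' hnw' hu
  have e2' : g = sigmaGL D ρ ρ' π π' ε hp f (b * h₂) * (n' : GL D.Idx K) * sigmaGL D ρ ρ' π π' ε hp f u := by
    have := congrArg (sigmaGL D ρ ρ' π π' ε hp f) e2
    rw [hfix, map_mul, map_mul, hσn'] at this
    exact this
  have hσb' := sigmaGL_borelSubgroup D ρ ρ' π π' ε hp f hD h htw hiso _ hb'
  have hσu' := sigmaGL_UnegN D hD ρ ρ' π π' ε hp f h htw _ _ huN'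
  rw [hσn'] at hσu'
  obtain ⟨e3, e4⟩ := (huniq (b * h₂) _ n' n' u _ hb' hσb' n'.2 n'.2 huN' hσu' (e2.symm.trans e2')).2 rfl
  exact ⟨b * h₂, ⟨hb', e3.symm⟩, u, ⟨hu, e4.symm⟩, e2⟩

end TwB

end Cfsg.Agent.Helper19.Twist
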