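import Cfsg.Agent.Helper19.Twist.TwBruhat
import Cfsg.Agent.S1036

/-!
Counting a group `G¹` of `σ`-fixed points of a Chevalley group which contains `U^σ` and a set of
`σ`-fixed representatives of the `σ`-fixed part of the Weyl group:
`|G¹| = |B ∩ G¹| · ∑_w |(U_w⁻)^σ|` and `|B ∩ G¹| = |U ∩ G¹| · |H ∩ G¹|`.
-/

set_option autoImplicit false
set_option maxRecDepth 100000
set_option linter.unusedSectionVars false

namespace Cfsg.Agent.Helper19.Twist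

open Cfsg Cfsg.Lie Cfsg.Agent.Helper18 Cfsg.Agent.Helper19.Cox Cfsg.Agent.Helper19.Poinc
open Cfsg.Agent.Helper40.GraphAut

section TwC

variable {K : Type*} [Field K] [Fintype K] (D : ChevalleyDatum)
  (hD : D ∈ [chevG2, chevB2, chevD4, chevF4, chevE6, chevE7, chevE8]) (C : Cert D)
  (h31 : NConjHyp D K) [hn : (HN D K).Normal]
  (ρ ρ' π π' : ℕ → ℕ) (ε : ℕ → ℤ) (hp : permsOK D ρ ρ' π π' ε = true) (f : K ≃+* K)
  (h : allOK D ρ ρ' π π' ε = true) (htw : twistOK D π ε (hlfOf D) = true) (hiso : isoOK D π π' = true)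
  (hOK : rootInjOK D = true)
  (G1 : Subgroup (GL D.Idx K)) (hG1fix : G1 ≤ Fix D ρ ρ' π π' ε hp f)
  (hU : D.posUnipotent K ⊓ Fix D ρ ρ' π π' ε hp f ≤ G1)

include hD h htw hiso hG1fix hU in
/-- `B ∩ G¹ = (U ∩ G¹)(H ∩ G¹)`, counted -/
theorem card_borel_inf :
    Nat.card ↥(D.borelSubgroup K ⊓ G1) = Nat.card ↥(D.posUnipotent K ⊓ G1) * Nat.card ↥(D.diagonalSubgroup K ⊓ G1) := by
  obtain ⟨hnorm, hUH⟩ := Cfsg.Agent.S1036.result (F := K) D hD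
  rw [← Nat.card_prod]
  symm
  have hmem : ∀ p : ↥(D.posUnipotent K ⊓ G1) × ↥(D.diagonalSubgroup K ⊓ G1),
      (p.1 : GL D.Idx K) * (p.2 : GL D.Idx K) ∈ D.borelSubgroup K ⊓ G1 := fun p =>
    ⟨Subgroup.mul_mem _ (Subgroup.mem_sup_left p.1.2.1) (Subgroup.mem_sup_right p.2.2.1),
      Subgroup.mul_mem _ p.1.2.2 p.2.2.2⟩
  apply Nat.card_congr
  refine Equiv.ofBijective (fun p => ⟨(p.1 : GL D.Idx K) * (p.2 : GL D.Idx K), hmem p⟩) ⟨?_, ?_⟩
  · rintro ⟨⟨u, hu⟩, ⟨k, hk⟩⟩ ⟨⟨u', hu'⟩, ⟨k', hk'⟩⟩ e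
    have e1 : u * k = u' * k' := congrArg Subtype.val e
    have e2 : u'⁻¹ * u = k' * k⁻¹ := by
      have : u'⁻¹ * u = u'⁻¹ * (u * k) * k⁻¹ := by group
      rw [this, e1]; group
    have h1 : u'⁻¹ * u ∈ D.posUnipotent K ⊓ D.diagonalSubgroup K :=
      ⟨Subgroup.mul_mem _ (Subgroup.inv_mem _ hu'.1) hu.1, by
        rw [e2]; exact Subgroup.mul_mem _ hk'.1 (Subgroup.inv_mem _ hk.1)⟩
    rw [hUH, Subgroup.mem_bot] at h1
    have h2 : u = u' := by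
      have : u = u' * (u'⁻¹ * u) := by group
      rw [this, h1, mul_one]
    subst h2
    have h3 : k = k' := mul_left_cancel e1
    subst h3
    rfl
  · rintro ⟨b, hb, hbG⟩
    have hb' : b ∈ ((D.posUnipotent K ⊔ D.diagonalSubgroup K : Subgroup (GL D.Idx K)) : Set (GL D.Idx K)) := hb
    rw [Subgroup.coe_mul_of_right_le_normalizer_left _ _ hnorm] at hb'
    obtain ⟨u, hu, k, hk, rfl⟩ := hb'
    have hfix : sigmaGL D ρ ρ' π π' ε hp f (u * k) = u * k := hG1fix hbG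
    rw [map_mul] at hfix
    have hσu := sigmaGL_posUnipotent D ρ ρ' π π' ε hp f hD h htw u hu
    have hσk := sigmaGL_diagonalSubgroup D ρ ρ' π π' ε hp f hD hiso k hk
    set u' := sigmaGL D ρ ρ' π π' ε hp f u with hu'
    set k' := sigmaGL D ρ ρ' π π' ε hp f k with hk'
    have e2 : u⁻¹ * u' = k * k'⁻¹ := by
      have : u⁻¹ * u' = u⁻¹ * (u' * k') * k'⁻¹ := by group
      rw [this, hfix]; group
    have h1 : u⁻¹ * u' ∈ D.posUnipotent K ⊓ D.diagonalSubgroup K :=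
      ⟨Subgroup.mul_mem _ (Subgroup.inv_mem _ hu) hσu, by
        rw [e2]; exact Subgroup.mul_mem _ hk (Subgroup.inv_mem _ hσk)⟩
    rw [hUH, Subgroup.mem_bot] at h1
    have h2 : u' = u := by
      have : u' = u * (u⁻¹ * u') := by group
      rw [this, h1, mul_one]
    have huG : u ∈ G1 := hU ⟨hu, h2⟩
    have hkG : k ∈ G1 := by
      have : k = u⁻¹ * (u * k) := by group
      rw [this]
      exact Subgroup.mul_mem _ (Subgroup.inv_mem _ huG) hbG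
    exact ⟨(⟨u, hu, huG⟩, ⟨k, hk, hkG⟩), rfl⟩

variable (h42 : H42 D K) (h45 : H45 D K) (hG1 : G1 ≤ D.group K)
  {I : Type*} [Fintype I] (rep : I → ↥(D.monomialSubgroup K))
  (hrepG : ∀ i, ((rep i : ↥(D.monomialSubgroup K)) : GL D.Idx K) ∈ G1)
  (hinj : Function.Injective (fun i => theta D hD C h31 (rep i)))
  (hsurj : ∀ w, IsFix C π w → ∃ i, theta D hD C h31 (rep i) = w)

include hD h htw hiso hOK hG1fix hU h42 h45 hG1 hrepG hinj hsurj in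
/-- `|G¹| = |B ∩ G¹| · ∑_w |(U_w⁻)^σ|` -/
theorem card_twisted_sum :
    Nat.card ↥G1 = Nat.card ↥(D.borelSubgroup K ⊓ G1) *
      ∑ i, Nat.card ↥(UnegW D C K (theta D hD C h31 (rep i)) ⊓ Fix D ρ ρ' π π' ε hp f) := by
  have huniq := Cfsg.Agent.Helper36.bruhat_normal_form_unique_of_bn (F := K) D hD h42
  rw [Finset.mul_sum]
  have e1 : ∀ i, Nat.card ↥(D.borelSubgroup K ⊓ G1) *
      Nat.card ↥(UnegW D C K (theta D hD C h31 (rep i)) ⊓ Fix D ρ ρ' π π' ε hp f) =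
      Nat.card (↥(D.borelSubgroup K ⊓ G1) × ↥(UnegW D C K (theta D hD C h31 (rep i)) ⊓ Fix D ρ ρ' π π' ε hp f)) :=
    fun i => (Nat.card_prod _ _).symm
  simp_rw [e1]
  rw [← Nat.card_sigma]
  symm
  have hUG : ∀ i, ∀ u ∈ UnegW D C K (theta D hD C h31 (rep i)) ⊓ Fix D ρ ρ' π π' ε hp f, u ∈ G1 := by
    intro i u hu
    exact hU ⟨UnegW_le_pos D hD C _ hu.1, hu.2⟩
  have hmem : ∀ p : (Σ i, ↥(D.borelSubgroup K ⊓ G1) ×
      ↥(UnegW D C K (theta D hD C h31 (rep i)) ⊓ Fix D ρ ρ' π π' ε hp f)),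
      (p.2.1 : GL D.Idx K) * (rep p.1 : GL D.Idx K) * (p.2.2 : GL D.Idx K) ∈ G1 := fun p =>
    Subgroup.mul_mem _ (Subgroup.mul_mem _ p.2.1.2.2 (hrepG p.1)) (hUG p.1 _ p.2.2.2)
  apply Nat.card_congr
  refine Equiv.ofBijective (fun p => ⟨(p.2.1 : GL D.Idx K) * (rep p.1 : GL D.Idx K) * (p.2.2 : GL D.Idx K), hmem p⟩)
    ⟨?_, ?_⟩
  · rintro ⟨i, ⟨b, hb⟩, ⟨u, hu⟩⟩ ⟨j, ⟨b', hb'⟩, ⟨u', hu'⟩⟩ e
    have e2 : b * (rep i : GL D.Idx K) * u = b' * (rep j : GL D.Idx K) * u' := congrArg Subtype.val e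
    have huN : u ∈ UnegN D K (rep i : GL D.Idx K) :=
      UnegW_le D hD C h31 _ (rep i) (theta_spec D hD C h31 (rep i)) hu.1
    have huN' : u' ∈ UnegN D K (rep j : GL D.Idx K) :=
      UnegW_le D hD C h31 _ (rep j) (theta_spec D hD C h31 (rep j)) hu'.1
    obtain ⟨h1, h2⟩ := huniq b b' (rep i) (rep j) u u' hb.1 hb'.1 (rep i).2 (rep j).2 huN huN' e2
    have hij : i = j := by
      apply hinj
      have : theta D hD C h31 ((rep i)⁻¹ * rep j) = 1 := by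
        rw [theta_eq_one_iff]
        exact h1
      rw [map_mul, map_inv, inv_mul_eq_one] at this
      exact this
    subst hij
    obtain ⟨rfl, rfl⟩ := h2 rfl
    rfl
  · rintro ⟨g, hg⟩
    obtain ⟨w, hw, hform⟩ := fixed_normal_form D hD C h31 ρ ρ' π π' ε hp f h htw hiso hOK h42 h45 g (hG1 hg)
      (hG1fix hg)
    obtain ⟨i, rfl⟩ := hsurj w hw
    obtain ⟨b, hb, u, hu, e⟩ := hform (rep i) rfl (hG1fix (hrepG i))
    have huG := hUG i u hu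
    have hbG : b ∈ G1 := by
      have : b = g * u⁻¹ * (rep i : GL D.Idx K)⁻¹ := by rw [e]; group
      rw [this]
      exact Subgroup.mul_mem _ (Subgroup.mul_mem _ hg (Subgroup.inv_mem _ huG)) (Subgroup.inv_mem _ (hrepG i))
    refine ⟨⟨i, ⟨b, hb.1, hbG⟩, ⟨u, hu⟩⟩, ?_⟩
    apply Subtype.ext
    exact e.symm

end TwC

end Cfsg.Agent.Helper19.Twist
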