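import Cfsg.Agent.Helper19.Twist.TwBNPair
import Cfsg.Agent.Helper19.Twist.OrdD4
import Cfsg.Agent.S0319

/-!
The `(B, N)`-pair of a group `G¹` of `σ`-fixed points with its set of distinguished generators made explicit,
and its irreducibility when consecutive folded generators do not commute.
-/

set_option autoImplicit false
set_option maxRecDepth 100000
set_option linter.unusedSectionVars false

namespace Cfsg.Agent.Helper19.Twist

open Cfsg Cfsg.Lie Cfsg.Agent.Helper18 Cfsg.Agent.Helper19.Cox Cfsg.Agent.Helper19.Poinc DoubleCoset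
open Cfsg.Agent.Helper40.GraphAut

/-- consecutive folded generators do not commute -/
def chainOK (T : List ℕ) (n d n1 : ℕ) (J : ℕ → List ℕ) : Bool :=
  (List.range n1).all fun a => decide (n1 ≤ a + 1) ||
    (List.range d).any fun x => actW T n d (J a ++ J (a + 1)) x != actW T n d (J (a + 1) ++ J a) x

theorem chain_spec {D : ChevalleyDatum} (C : Cert D) (n1 : ℕ) (J : ℕ → List ℕ)
    (hc : chainOK C.tabs D.rank D.nroots n1 J = true) (a : ℕ) (ha : a + 1 < n1) :
    gp C.M (J a) * gp C.M (J (a + 1)) ≠ gp C.M (J (a + 1)) * gp C.M (J a) := by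
  unfold chainOK at hc
  rw [List.all_eq_true] at hc
  have h1 := hc a (List.mem_range.mpr (by omega))
  rw [Bool.or_eq_true, decide_eq_true_eq] at h1
  rcases h1 with h1 | h1
  · omega
  · rw [List.any_eq_true] at h1
    obtain ⟨x, -, hx⟩ := h1
    intro e
    rw [← gp_append, ← gp_append] at e
    exact absurd (actW_eq_of_gp C _ _ e x) (bne_iff_ne.mp hx)

section Pair

variable {K : Type*} [Field K] (D : ChevalleyDatum)
  (hD : D ∈ [chevG2, chevB2, chevD4, chevF4, chevE6, chevE7, chevE8]) (C : Cert D)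
  (h31 : NConjHyp D K) [hn : (HN D K).Normal]
  (ρ ρ' π π' : ℕ → ℕ) (ε : ℕ → ℤ) (hp : permsOK D ρ ρ' π π' ε = true) (f : K ≃+* K)
  (h : allOK D ρ ρ' π π' ε = true) (htw : twistOK D π ε (hlfOf D) = true) (hiso : isoOK D π π' = true)
  (hOK : rootInjOK D = true) (h42 : H42 D K) (h45 : H45 D K)
  (G1 : Subgroup (GL D.Idx K)) (hG1fix : G1 ≤ Fix D ρ ρ' π π' ε hp f)
  (hU : D.posUnipotent K ⊓ Fix D ρ ρ' π π' ε hp f ≤ G1) (hG1 : G1 ≤ D.group K)
  (n1 : ℕ) (J : ℕ → List ℕ)
  (hJ : ∀ a < n1, ∀ j ∈ J a, j < D.rank)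
  (hsG : ∀ a < n1, ((sList D K (J a) : ↥(D.monomialSubgroup K)) : GL D.Idx K) ∈ G1)

variable (hfs : fixSubOK C.tabs D.rank D.nroots n1 J π = true)
  (hrange : ∀ w, IsFix C π w → ∃ word : List ℕ, (∀ a ∈ word, a < n1) ∧ w = gp C.M (word.flatMap J))
  (hsq : ∀ a < n1, gp C.M (J a) * gp C.M (J a) = 1)
  (hdist : ∀ a < n1, ∀ b < n1, gp C.M (J a) = gp C.M (J b) → a = b)
  (hnegJ : ∀ a < n1, ∀ j ∈ J a, phi C.M C.Mx C.hI C.hB C.hMx (gp C.M (J a)) (D.simple j) < hlfOf D)
  (hx : ∀ a < n1, ∃ x ∈ listSubgroup D K ((J a).map D.simple) ⊓ G1, x ≠ 1)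
  (h25 : CommHyp D K)

include hD h31 h htw hiso hOK h42 h45 hG1fix hU hG1 hJ hsG hfs hrange hsq hdist hnegJ hx h25 in
/-- the `(B, N)`-pair of `G¹`, with its distinguished generators -/
theorem twisted_bnPair_S :
    ∃ P : Cfsg.BNPair ↥G1, P.B = (D.borelSubgroup K ⊓ G1).subgroupOf G1 ∧
      P.N = (D.monomialSubgroup K ⊓ G1).subgroupOf G1 ∧
      P.S = {s : ↥G1 | ∃ a < n1, (s : GL D.Idx K) = (sList D K (J a) : GL D.Idx K)} := by
  have hBN := (Cfsg.Agent.S1040.result (F := K) D hD).2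
  have hBV := (Cfsg.Agent.S1037.result (F := K) D hD).1
  have hHB : D.diagonalSubgroup K ≤ D.borelSubgroup K := le_sup_right
  have hHN : D.diagonalSubgroup K ≤ D.monomialSubgroup K := le_sup_left
  -- membership in `H` of elements of `N` from the Weyl group
  have hH_of_theta : ∀ m : ↥(D.monomialSubgroup K), theta D hD C h31 m = 1 → (m : GL D.Idx K) ∈ D.diagonalSubgroup K :=
    fun m hm => (theta_eq_one_iff D hD C h31 m).mp hm
  have hrep : ∀ w, IsFix C π w → ∃ n' : ↥(D.monomialSubgroup K), theta D hD C h31 n' = w ∧ (n' : GL D.Idx K) ∈ G1 := by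
    intro w hw
    obtain ⟨word, hword, rfl⟩ := hrange w hw
    exact ⟨sWord D K J word, theta_sWord D hD C h31 n1 J hJ word hword, sWord_mem D G1 n1 J hsG word hword⟩
  let B' : Subgroup ↥G1 := (D.borelSubgroup K ⊓ G1).subgroupOf G1
  let N' : Subgroup ↥G1 := (D.monomialSubgroup K ⊓ G1).subgroupOf G1
  let S' : Set ↥G1 := {s | ∃ a < n1, (s : GL D.Idx K) = (sList D K (J a) : GL D.Idx K)}
  have memB : ∀ x : ↥G1, x ∈ B' ↔ (x : GL D.Idx K) ∈ D.borelSubgroup K := by
    intro x
    rw [Subgroup.mem_subgroupOf, Subgroup.mem_inf]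
    exact ⟨fun hx' => hx'.1, fun hx' => ⟨hx', x.2⟩⟩
  have memN : ∀ x : ↥G1, x ∈ N' ↔ (x : GL D.Idx K) ∈ D.monomialSubgroup K := by
    intro x
    rw [Subgroup.mem_subgroupOf, Subgroup.mem_inf]
    exact ⟨fun hx' => hx'.1, fun hx' => ⟨hx', x.2⟩⟩
  have hS'N : S' ⊆ (N' : Set ↥G1) := by
    rintro s ⟨a, ha, hs⟩
    rw [SetLike.mem_coe, memN, hs]
    exact (sList D K (J a)).2
  refine ⟨{ B := B', N := N', S := S', sup_eq_top := ?_, conj_mem := ?_, subset := hS'N, sq_mem := ?_, inj := ?_,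
            closure_sup := ?_, mul_mem_union := ?_, conj_ne := ?_ }, rfl, rfl, rfl⟩
  · -- sup_eq_top
    rw [eq_top_iff]
    rintro ⟨g, hg⟩ -
    obtain ⟨b1, hb1, n, hn', b2, hb2, e⟩ := twisted_cover D hD C h31 ρ ρ' π π' ε hp f h htw hiso hOK h42 h45 G1
      hG1fix hU hG1 hrep g hg
    have : (⟨g, hg⟩ : ↥G1) = ⟨b1, hb1.2⟩ * ⟨n, hn'.2⟩ * ⟨b2, hb2.2⟩ := Subtype.ext e
    rw [this]
    refine Subgroup.mul_mem _ (Subgroup.mul_mem _ (Subgroup.mem_sup_left ?_) (Subgroup.mem_sup_right ?_))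
      (Subgroup.mem_sup_left ?_)
    · exact (memB _).mpr hb1.1
    · exact (memN _).mpr hn'.1
    · exact (memB _).mpr hb2.1
  · -- conj_mem
    intro n hn' t ht
    rw [memB]
    have htH : (t : GL D.Idx K) ∈ D.diagonalSubgroup K := by
      rw [← hBN]
      exact ⟨(memB t).mp ht.1, (memN t).mp ht.2⟩
    have hnN := (memN n).mp hn'
    have h1 : (⟨(t : GL D.Idx K), hHN htH⟩ : ↥(D.monomialSubgroup K)) ∈ HN D K := by
      rw [Subgroup.mem_subgroupOf]; exact htH
    have h2 := hn.conj_mem _ h1 ⟨(n : GL D.Idx K), hnN⟩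
    rw [Subgroup.mem_subgroupOf] at h2
    apply hHB
    simpa using h2
  · -- sq_mem
    rintro s ⟨a, ha, hs⟩
    rw [memB, Subgroup.coe_mul, hs]
    apply hHB
    have := hH_of_theta (sList D K (J a) * sList D K (J a)) (by
      rw [map_mul, theta_sList D hD C h31 (J a) (hJ a ha), hsq a ha])
    simpa using this
  · -- inj
    rintro s ⟨a, ha, hs⟩ s' ⟨b, hb, hs'⟩ hmem
    have h1 : ((s⁻¹ * s' : ↥G1) : GL D.Idx K) ∈ D.borelSubgroup K := (memB _).mp hmem
    rw [Subgroup.coe_mul, Subgroup.coe_inv, hs, hs'] at h1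
    have h2 : (((sList D K (J a))⁻¹ * sList D K (J b) : ↥(D.monomialSubgroup K)) : GL D.Idx K) ∈
        D.borelSubgroup K ⊓ D.monomialSubgroup K := ⟨by simpa using h1, ((sList D K (J a))⁻¹ * sList D K (J b)).2⟩
    rw [hBN, ← theta_eq_one_iff D hD C h31, map_mul, map_inv, theta_sList D hD C h31 (J a) (hJ a ha),
      theta_sList D hD C h31 (J b) (hJ b hb), inv_mul_eq_one] at h2
    have hab := hdist a ha b hb h2
    subst hab
    exact Subtype.ext (hs.trans hs'.symm)
  · -- closure_sup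
    apply le_antisymm
    · exact sup_le ((Subgroup.closure_le _).mpr hS'N) inf_le_right
    · intro n hn'
      have hnN := (memN n).mp hn'
      let nN' : ↥(D.monomialSubgroup K) := ⟨(n : GL D.Idx K), hnN⟩
      have hfixn : IsFix C π (theta D hD C h31 nN') :=
        theta_isFix D hD C h31 ρ ρ' π π' ε hp f h hOK nN' (hG1fix n.2)
      obtain ⟨word, hword, hw⟩ := hrange _ hfixn
      set m := sWord D K J word with hm
      have hmG := sWord_mem D G1 n1 J hsG word hword
      have hθ : theta D hD C h31 (m⁻¹ * nN') = 1 := by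
        rw [map_mul, map_inv, theta_sWord D hD C h31 n1 J hJ word hword, hw, inv_mul_cancel]
      have hH := hH_of_theta _ hθ
      -- `m ∈ closure S'`
      have hmcl : ∀ word' : List ℕ, (∀ a ∈ word', a < n1) →
          ∀ hmem : ((sWord D K J word' : ↥(D.monomialSubgroup K)) : GL D.Idx K) ∈ G1,
          (⟨_, hmem⟩ : ↥G1) ∈ Subgroup.closure S' := by
        intro word'
        induction word' with
        | nil =>
          intro _ hmem
          have : (⟨_, hmem⟩ : ↥G1) = 1 := Subtype.ext (by simp [sWord])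
          rw [this]; exact Subgroup.one_mem _
        | cons a word' ih =>
          intro hw' hmem
          have ha := hw' a List.mem_cons_self
          have hw'' : ∀ b ∈ word', b < n1 := fun b hb => hw' b (List.mem_cons_of_mem _ hb)
          have hmem' := sWord_mem D G1 n1 J hsG word' hw''
          have e : (⟨_, hmem⟩ : ↥G1) = ⟨_, hsG a ha⟩ * ⟨_, hmem'⟩ := Subtype.ext (by simp [sWord])
          rw [e]
          exact Subgroup.mul_mem _ (Subgroup.subset_closure ⟨a, ha, rfl⟩) (ih hw'' hmem')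
      have e : n = ⟨_, hmG⟩ * ⟨((m⁻¹ * nN' : ↥(D.monomialSubgroup K)) : GL D.Idx K),
          Subgroup.mul_mem _ (Subgroup.inv_mem _ hmG) n.2⟩ := Subtype.ext (by
        simp only [Subgroup.coe_mul, Subgroup.coe_inv, nN']
        rw [hm]; group)
      rw [e]
      refine Subgroup.mul_mem _ (Subgroup.mem_sup_left (hmcl word hword hmG)) (Subgroup.mem_sup_right ?_)
      exact ⟨(memB _).mpr (hHB hH), (memN _).mpr (hHN hH)⟩
  · -- mul_mem_union
    rintro s ⟨a, ha, hs⟩ n hn' b hb
    have hnN := (memN n).mp hn'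
    have hbB := (memB b).mp hb
    obtain ⟨b1, hb1, b2, hb2, e⟩ := twisted_bn_mul_mem D hD C h31 ρ ρ' π π' ε hp f h htw hiso hOK h42 h45 G1
      hG1fix hU hG1 h25 (J a) (hJ a ha) (fixSub_spec D C π hfs a ha) (hsG a ha) ⟨(n : GL D.Idx K), hnN⟩ n.2
      (b : GL D.Idx K) ⟨hbB, b.2⟩
    rcases e with e | e
    · left
      rw [mem_doubleCoset]
      refine ⟨⟨b1, hb1.2⟩, (memB _).mpr hb1.1, ⟨b2, hb2.2⟩, (memB _).mpr hb2.1, ?_⟩
      apply Subtype.ext
      simp only [Subgroup.coe_mul, hs]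
      exact e
    · right
      rw [mem_doubleCoset]
      refine ⟨⟨b1, hb1.2⟩, (memB _).mpr hb1.1, ⟨b2, hb2.2⟩, (memB _).mpr hb2.1, ?_⟩
      apply Subtype.ext
      simp only [Subgroup.coe_mul, hs]
      exact e
  · -- conj_ne
    rintro s ⟨a, ha, hs⟩ heq
    obtain ⟨x, hx1, hxne⟩ := hx a ha
    have hxU : x ∈ D.posUnipotent K := by
      have hpos := posOK_of_mem D hD
      have hle : listSubgroup D K ((J a).map D.simple) ≤ D.posUnipotent K := by
        unfold listSubgroup ChevalleyDatum.posUnipotent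
        apply Subgroup.closure_mono
        rintro g ⟨r, t, hr, hg⟩
        obtain ⟨j, hj, rfl⟩ := List.mem_map.mp hr
        exact ⟨_, t, (simpleSign_spec D hD j (hJ a ha j hj)).1, hg⟩
      exact hle hx1.1
    have hxB : (⟨x, hx1.2⟩ : ↥G1) ∈ (B' : Set ↥G1) := (memB _).mpr (Subgroup.mem_sup_left hxU)
    have h1 : (s * ⟨x, hx1.2⟩ * s : ↥G1) ∈ (B' : Set ↥G1) := by
      rw [← heq]; exact ⟨_, hxB, rfl⟩
    have h2 : (s : GL D.Idx K) * x * (s : GL D.Idx K) ∈ D.borelSubgroup K := (memB _).mp h1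
    rw [hs] at h2
    -- `s * s ∈ H`
    have hss : ((sList D K (J a) * sList D K (J a) : ↥(D.monomialSubgroup K)) : GL D.Idx K) ∈ D.diagonalSubgroup K :=
      hH_of_theta _ (by rw [map_mul, theta_sList D hD C h31 (J a) (hJ a ha), hsq a ha])
    rw [Subgroup.coe_mul] at hss
    set sg' : GL D.Idx K := (sList D K (J a) : GL D.Idx K) with hsg'
    have h3 : sg' * x * sg'⁻¹ ∈ D.borelSubgroup K := by
      have : sg' * x * sg'⁻¹ = (sg' * x * sg') * (sg' * sg')⁻¹ := by group
      rw [this]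
      exact Subgroup.mul_mem _ h2 (Subgroup.inv_mem _ (hHB hss))
    have h4 : sg' * x * sg'⁻¹ ∈ D.negUnipotent K := by
      apply conj_listSubgroup_le_neg D hD C h31 (sList D K (J a)) ((J a).map D.simple) _ x hx1.1
      intro r hr
      obtain ⟨j, hj, rfl⟩ := List.mem_map.mp hr
      rw [theta_sList D hD C h31 (J a) (hJ a ha)]
      exact ⟨simple_lt D (simpleOK_of_mem D hD) j (hJ a ha j hj), hnegJ a ha j hj⟩
    have h5 : sg' * x * sg'⁻¹ ∈ D.borelSubgroup K ⊓ D.negUnipotent K := ⟨h3, h4⟩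
    rw [hBV, Subgroup.mem_bot] at h5
    apply hxne
    have : x = sg'⁻¹ * (sg' * x * sg'⁻¹) * sg' := by group
    rw [this, h5]; group


include hD h31 hJ hsG in
/-- a `(B, N)`-pair of `G¹` whose distinguished generators are the folded generators is irreducible as soon as
consecutive folded generators do not commute -/
theorem twisted_irreducible (P : Cfsg.BNPair ↥G1) (hB : P.B = (D.borelSubgroup K ⊓ G1).subgroupOf G1)
    (hS : P.S = {s : ↥G1 | ∃ a < n1, (s : GL D.Idx K) = (sList D K (J a) : GL D.Idx K)})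
    (hchain : ∀ a, a + 1 < n1 → gp C.M (J a) * gp C.M (J (a + 1)) ≠ gp C.M (J (a + 1)) * gp C.M (J a)) :
    P.Irreducible := by
  have hBN := (Cfsg.Agent.S1040.result (F := K) D hD).2
  intro Jset hJS hne hcne
  -- the element of `G¹` attached to a class
  let sG : ∀ a, a < n1 → ↥G1 := fun a ha => ⟨_, hsG a ha⟩
  have hsGS : ∀ a (ha : a < n1), sG a ha ∈ P.S := by
    intro a ha; rw [hS]; exact ⟨a, ha, rfl⟩
  -- an element of `S` with the value of `sG a` is `sG a`
  have huniq : ∀ a (ha : a < n1) (s : ↥G1), (s : GL D.Idx K) = (sList D K (J a) : GL D.Idx K) → s = sG a ha :=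
    fun a ha s hs => Subtype.ext hs
  -- the commutator of two consecutive generators is not in `B`
  have hcomm : ∀ a b (ha : a < n1) (hb : b < n1),
      gp C.M (J a) * gp C.M (J b) ≠ gp C.M (J b) * gp C.M (J a) →
      sG a ha * sG b hb * (sG a ha)⁻¹ * (sG b hb)⁻¹ ∉ P.B := by
    intro a b ha hb hne' hmem
    rw [hB, Subgroup.mem_subgroupOf] at hmem
    have h1 : ((sList D K (J a) * sList D K (J b) * (sList D K (J a))⁻¹ * (sList D K (J b))⁻¹ :
        ↥(D.monomialSubgroup K)) : GL D.Idx K) ∈ D.borelSubgroup K ⊓ D.monomialSubgroup K :=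
      ⟨by simpa [sG] using hmem.1, SetLike.coe_mem _⟩
    rw [hBN, ← theta_eq_one_iff D hD C h31, map_mul, map_mul, map_mul, map_inv, map_inv,
      theta_sList D hD C h31 (J a) (hJ a ha), theta_sList D hD C h31 (J b) (hJ b hb)] at h1
    apply hne'
    have : gp C.M (J a) * gp C.M (J b) = (gp C.M (J a) * gp C.M (J b) * (gp C.M (J a))⁻¹ * (gp C.M (J b))⁻¹) *
        (gp C.M (J b) * gp C.M (J a)) := by group
    rw [this, h1, one_mul]
  by_contra hno
  have hno' : ∀ s ∈ Jset, ∀ s' ∈ P.S \ Jset, s * s' * s⁻¹ * s'⁻¹ ∈ P.B := by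
    intro s hs s' hs'
    by_contra h'
    exact hno ⟨s, hs, s', hs', h'⟩
  -- the set of classes in `Jset` is closed under the steps of the chain
  have hup : ∀ a (ha : a + 1 < n1), sG a (by omega) ∈ Jset → sG (a + 1) ha ∈ Jset := by
    intro a ha hmem
    by_contra hnot
    exact hcomm a (a + 1) (by omega) ha (hchain a ha) (hno' _ hmem _ ⟨hsGS (a + 1) ha, hnot⟩)
  have hdown : ∀ a (ha : a + 1 < n1), sG (a + 1) ha ∈ Jset → sG a (by omega) ∈ Jset := by
    intro a ha hmem
    by_contra hnot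
    exact hcomm (a + 1) a ha (by omega) (fun e => hchain a ha e.symm)
      (hno' _ hmem _ ⟨hsGS a (by omega), hnot⟩)
  obtain ⟨s0, hs0⟩ := hne
  obtain ⟨a0, ha0, hs0v⟩ : ∃ a < n1, (s0 : GL D.Idx K) = (sList D K (J a) : GL D.Idx K) := by
    have := hJS hs0
    rw [hS] at this
    exact this
  have hs0' : sG a0 ha0 ∈ Jset := by rw [← huniq a0 ha0 s0 hs0v]; exact hs0
  -- everything below `a0`
  have hbelow : ∀ k, ∀ (hk : k ≤ a0), sG (a0 - k) (by omega) ∈ Jset := by
    intro k
    induction k with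
    | zero => intro _; exact hs0'
    | succ k ih =>
      intro hk
      have h1 := ih (by omega)
      have h2 : a0 - (k + 1) + 1 < n1 := by omega
      have h3 := hdown (a0 - (k + 1)) h2
      have e : a0 - (k + 1) + 1 = a0 - k := by omega
      have h4 : sG (a0 - (k + 1) + 1) h2 = sG (a0 - k) (by omega) := by
        apply Subtype.ext
        simp only [sG, e]
      rw [h4] at h3
      exact h3 h1
  have hzero : sG 0 (by omega) ∈ Jset := by
    have := hbelow a0 le_rfl
    have e : a0 - a0 = 0 := by omega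
    have h4 : sG (a0 - a0) (by omega) = sG 0 (by omega) := by
      apply Subtype.ext
      simp only [sG, e]
    rw [h4] at this
    exact this
  have hall : ∀ b (hb : b < n1), sG b hb ∈ Jset := by
    intro b
    induction b with
    | zero => intro _; exact hzero
    | succ b ih =>
      intro hb
      exact hup b hb (ih (by omega))
  obtain ⟨s1, hs1S, hs1J⟩ := hcne
  rw [hS] at hs1S
  obtain ⟨b, hb, hs1v⟩ := hs1S
  apply hs1J
  rw [huniq b hb s1 hs1v]
  exact hall b hb

include hD h31 h htw hiso hOK h42 h45 hG1fix hU hG1 hJ hsG hfs hrange hsq hdist hnegJ hx h25 in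
/-- simplicity of `G¹` by the criterion of Tits -/
theorem twisted_simple (hn1 : 0 < n1)
    (hchain : ∀ a, a + 1 < n1 → gp C.M (J a) * gp C.M (J (a + 1)) ≠ gp C.M (J (a + 1)) * gp C.M (J a))
    (hsolv : Group.IsSolvable ↥(D.borelSubgroup K)) (hperf : commutator ↥G1 = ⊤)
    (hcore : ((D.borelSubgroup K ⊓ G1).subgroupOf G1).normalCore = ⊥) :
    IsSimpleGroup ↥G1 ∧ ¬ IsMulCommutative ↥G1 := by
  obtain ⟨P, hB, -, hS⟩ := twisted_bnPair_S D hD C h31 ρ ρ' π π' ε hp f h htw hiso hOK h42 h45 G1 hG1fix hU hG1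
    n1 J hJ hsG hfs hrange hsq hdist hnegJ hx h25
  have hirr : P.Irreducible := twisted_irreducible D hD C h31 G1 n1 J hJ hsG P hB hS hchain
  have hnt : Nontrivial ↥G1 := by
    obtain ⟨x, hx1, hxne⟩ := hx 0 hn1
    exact ⟨⟨⟨x, hx1.2⟩, 1, fun e => hxne (congrArg Subtype.val e)⟩⟩
  have hsolvB : Group.IsSolvable P.B := by
    rw [hB]
    let φ : ↥((D.borelSubgroup K ⊓ G1).subgroupOf G1) →* ↥(D.borelSubgroup K) :=
      { toFun := fun x => ⟨((x : ↥G1) : GL D.Idx K), (Subgroup.mem_subgroupOf.mp x.2).1⟩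
        map_one' := rfl
        map_mul' := fun _ _ => rfl }
    have hφ : Function.Injective φ := by
      intro a b hab
      apply Subtype.ext
      apply Subtype.ext
      exact congrArg (fun g : ↥(D.borelSubgroup K) => (g : GL D.Idx K)) hab
    exact @Group.isSolvable_of_isSolvable_injective _ _ _ _ _ hφ hsolv
  refine ⟨@Cfsg.Agent.S0319.result _ _ hnt P hirr hsolvB hperf (by rw [hB]; exact hcore), ?_⟩
  intro hcomm
  obtain ⟨a, b, hab⟩ := hnt
  have hbot : commutator ↥G1 = ⊥ := by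
    rw [commutator_def, Subgroup.commutator_eq_bot_iff_le_centralizer]
    intro g _
    rw [Subgroup.mem_centralizer_iff]
    intro h' _
    exact hcomm.is_comm.comm h' g
  rw [hbot] at hperf
  have ha : a ∈ (⊤ : Subgroup ↥G1) := Subgroup.mem_top a
  have hb : b ∈ (⊤ : Subgroup ↥G1) := Subgroup.mem_top b
  rw [← hperf, Subgroup.mem_bot] at ha hb
  exact hab (ha.trans hb.symm)

end Pair

end Cfsg.Agent.Helper19.Twist
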