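import Cfsg.Agent.Helper19.Twist.UFix
import Cfsg.Agent.Helper19.Twist.TorusD4
import Cfsg.Agent.Helper19.Twist.FoldData
import Cfsg.Agent.Helper40.UDataD4
import Cfsg.Agent.S1031
import Cfsg.Agent.S1038

/-!
`U ∩ ³D₄(q) = U^σ` has `q¹²` elements.
-/

set_option autoImplicit false
set_option maxRecDepth 100000
set_option linter.unusedSectionVars false

namespace Cfsg.Agent.Helper19.Twist

open Cfsg Cfsg.Lie Cfsg.Agent.Helper18 Cfsg.Agent.Helper40.GraphAut Cfsg.Agent.Helper40.UProd
  Cfsg.Agent.Helper40.UData Cfsg.Agent.S1081 Cfsg.Agent.Helper19.Cox Cfsg.Agent.Helper19.Poinc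

/-- a class-adapted grading of `D₄` -/
def phiTD4 : ℕ → ℤ := fun r => 100 * coordD4 r 0 + 1000 * coordD4 r 1 + 101 * coordD4 r 2 + 102 * coordD4 r 3

/-- the classes of positive roots of `D₄` under triality, in the order of `phiTD4` -/
def ClD4 : List (List ℕ) := [[18, 13, 12], [14], [19, 16, 15], [21, 20, 17], [22], [23]]

theorem gradeOK'_D4 : gradeOK' chevD4 phiTD4 witD4 = true := by decide +kernel
theorem closedOK_D4 : closedOK chevD4 phiTD4 ClD4.flatten = true := by decide +kernel
theorem classOK_D4 : classOK chevD4 pi1 ClD4 = true := by decide +kernel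
theorem cycOK_D4 : ClD4.all (cycOK piInv1 eps1 3) = true := by decide +kernel
theorem closedOK_D4_each : ClD4.all (fun S => closedOK chevD4 phiTD4 S) = true := by decide +kernel
theorem classOK_D4_each : ClD4.all (fun S => classOK chevD4 pi1 [S]) = true := by decide +kernel
theorem nodup_D4 : ClD4.flatten.Nodup := by decide +kernel

theorem mem_ClD4_iff (r : ℕ) : r ∈ ClD4.flatten ↔ chevD4.IsPosRoot r := by
  rw [isPosRoot_iff chevD4 _ (posOK_of_mem chevD4 memD4)]
  have h1 : ∀ r < 24, (r ∈ ClD4.flatten ↔ 12 ≤ r) := by decide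
  by_cases hr : r < 24
  · rw [h1 r hr]
    constructor
    · intro h; exact ⟨h, hr⟩
    · intro h; exact h.1
  · constructor
    · intro h
      have : ∀ x ∈ ClD4.flatten, x < 24 := by decide
      exact absurd (this r h) hr
    · intro h
      exact absurd h.2 hr

theorem listSubgroup_ClD4 (K : Type*) [Field K] : listSubgroup chevD4 K ClD4.flatten = chevD4.posUnipotent K := by
  unfold listSubgroup ChevalleyDatum.posUnipotent
  congr 1
  ext g
  constructor
  · rintro ⟨r, t, hr, hg⟩
    exact ⟨r, t, (mem_ClD4_iff r).mp hr, hg⟩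
  · rintro ⟨r, t, hr, hg⟩
    exact ⟨r, t, (mem_ClD4_iff r).mpr hr, hg⟩

section

variable {K : Type*} [Field K] [Fintype K] {q : ℕ} (f : K ≃+* K) (hf : ∀ t, f t = t ^ q)

include hf in
theorem ncard_fix_field {e : ℕ} (hq : 1 ≤ q) (hK : Fintype.card K = q ^ e) : {a : K | f a = a}.ncard = q := by
  have : {a : K | f a = a} = insert 0 {s : K | s ≠ 0 ∧ s ^ q = s} := by
    ext a
    simp only [Set.mem_ofPred_eq, Set.mem_insert_iff, hf]
    constructor
    · intro h
      by_cases ha : a = 0
      · left; exact ha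
      · right; exact ⟨ha, h⟩
    · rintro (rfl | ⟨-, h⟩)
      · rw [zero_pow (by omega)]
      · exact h
  rw [this, Set.ncard_insert_of_notMem (by simp) (Set.toFinite _), ncard_fixed hq hK]
  omega

include hf in
theorem frob3 (hK : Fintype.card K = q ^ 3) (x : K) : f (f (f x)) = x := by
  rw [hf, hf, hf, ← pow_mul, ← pow_mul]
  have : q * (q * q) = Fintype.card K := by rw [hK]; ring
  rw [this, FiniteField.pow_card]

include hf in
/-- `|U^σ| = q¹²` -/
theorem card_U_fix_D4 (hq : 1 ≤ q) (hK : Fintype.card K = q ^ 3) :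
    Nat.card ↥(chevD4.posUnipotent K ⊓ FixD4 f) = q ^ 12 := by
  have h1 := ncard_fix_listSubgroup (K := K) memD4 gradeOK'_D4 rho1 rhoInv1 pi1 piInv1 eps1 permsOK_D4 f allOK1 ClD4
    (closedOK_spec closedOK_D4) classOK_D4
  rw [listSubgroup_ClD4] at h1
  unfold FixD4
  rw [h1, ncard_TS_classes piInv1 eps1 f (ncard_fix_field f hf hq hK) hK (by omega) (fun _ => frob3 f hf hK) ClD4
    nodup_D4 cycOK_D4]
  rfl

end

end Cfsg.Agent.Helper19.Twist
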