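import Cfsg.Agent.Helper19.Twist.UD4
import Cfsg.Agent.Helper40.UDataE6

/-!
`U^σ` for `²E₆(q)` has `q³⁶` elements.
-/

set_option autoImplicit false
set_option maxRecDepth 100000
set_option linter.unusedSectionVars false

namespace Cfsg.Agent.Helper19.Twist

open Cfsg Cfsg.Lie Cfsg.Agent.Helper18 Cfsg.Agent.Helper40.GraphAut Cfsg.Agent.Helper40.UProd
  Cfsg.Agent.Helper40.UData Cfsg.Agent.S1081 Cfsg.Agent.Helper19.Cox Cfsg.Agent.Helper19.Poinc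

/-- coordinates of the roots of `E₆` in the simple roots -/
def coordE6 : ℕ → ℕ → ℤ := fun u i =>
  (([
    [-1, -2, -2, -3, -2, -1], [-1, -1, -2, -3, -2, -1], [-1, -1, -2, -2, -2, -1], [-1, -1, -2, -2, -1, -1],
    [-1, -1, -2, -2, -1, 0], [-1, -1, -1, -2, -2, -1], [-1, -1, -1, -2, -1, -1], [-1, -1, -1, -2, -1, 0], [-1,
    -1, -1, -1, -1, -1], [-1, -1, -1, -1, -1, 0], [-1, -1, -1, -1, 0, 0], [-1, 0, -1, -1, -1, -1], [-1, 0, -1,
    -1, -1, 0], [-1, 0, -1, -1, 0, 0], [-1, 0, -1, 0, 0, 0], [-1, 0, 0, 0, 0, 0], [0, -1, -1, -2, -2, -1], [0,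
    -1, -1, -2, -1, -1], [0, -1, -1, -2, -1, 0], [0, -1, -1, -1, -1, -1], [0, -1, -1, -1, -1, 0], [0, -1, -1,
    -1, 0, 0], [0, -1, 0, -1, -1, -1], [0, -1, 0, -1, -1, 0], [0, -1, 0, -1, 0, 0], [0, -1, 0, 0, 0, 0], [0, 0,
    -1, -1, -1, -1], [0, 0, -1, -1, -1, 0], [0, 0, -1, -1, 0, 0], [0, 0, -1, 0, 0, 0], [0, 0, 0, -1, -1, -1],
    [0, 0, 0, -1, -1, 0], [0, 0, 0, -1, 0, 0], [0, 0, 0, 0, -1, -1], [0, 0, 0, 0, -1, 0], [0, 0, 0, 0, 0, -1],
    [0, 0, 0, 0, 0, 1], [0, 0, 0, 0, 1, 0], [0, 0, 0, 0, 1, 1], [0, 0, 0, 1, 0, 0], [0, 0, 0, 1, 1, 0], [0, 0,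
    0, 1, 1, 1], [0, 0, 1, 0, 0, 0], [0, 0, 1, 1, 0, 0], [0, 0, 1, 1, 1, 0], [0, 0, 1, 1, 1, 1], [0, 1, 0, 0,
    0, 0], [0, 1, 0, 1, 0, 0], [0, 1, 0, 1, 1, 0], [0, 1, 0, 1, 1, 1], [0, 1, 1, 1, 0, 0], [0, 1, 1, 1, 1, 0],
    [0, 1, 1, 1, 1, 1], [0, 1, 1, 2, 1, 0], [0, 1, 1, 2, 1, 1], [0, 1, 1, 2, 2, 1], [1, 0, 0, 0, 0, 0], [1, 0,
    1, 0, 0, 0], [1, 0, 1, 1, 0, 0], [1, 0, 1, 1, 1, 0], [1, 0, 1, 1, 1, 1], [1, 1, 1, 1, 0, 0], [1, 1, 1, 1,
    1, 0], [1, 1, 1, 1, 1, 1], [1, 1, 1, 2, 1, 0], [1, 1, 1, 2, 1, 1], [1, 1, 1, 2, 2, 1], [1, 1, 2, 2, 1, 0],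
    [1, 1, 2, 2, 1, 1], [1, 1, 2, 2, 2, 1], [1, 1, 2, 3, 2, 1], [1, 2, 2, 3, 2, 1]] : List (List ℤ)).getD u []).getD i 0

/-- a class-adapted grading of `E₆` -/
def phiTE6 : ℕ → ℤ := fun r => 100 * coordE6 r 0 + 100000 * coordE6 r 1 + 1000 * coordE6 r 2 + 10000 * coordE6 r 3 +
  1002 * coordE6 r 4 + 101 * coordE6 r 5

/-- the classes of positive roots of `E₆` under the graph automorphism, in the order of `phiTE6` -/
def ClE6 : List (List ℕ) := [[56, 36], [42, 37], [57, 38], [39], [43, 40], [58, 41], [44], [59, 45], [60], [46], [47],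
  [50, 48], [61, 49], [51], [62, 52], [63], [53], [64, 54], [65], [67, 55], [68, 66], [69], [70], [71]]

theorem gradeOK'_E6 : gradeOK' chevE6 phiTE6 witE6 = true := by decide +kernel
theorem closedOK_E6 : closedOK chevE6 phiTE6 ClE6.flatten = true := by decide +kernel
theorem classOK_E6 : classOK chevE6 pi0 ClE6 = true := by decide +kernel
theorem cycOK_E6 : ClE6.all (cycOK piInv0 eps0 2) = true := by decide +kernel
theorem closedOK_E6_each : ClE6.all (fun S => closedOK chevE6 phiTE6 S) = true := by decide +kernel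
theorem classOK_E6_each : ClE6.all (fun S => classOK chevE6 pi0 [S]) = true := by decide +kernel
theorem nodup_E6 : ClE6.flatten.Nodup := by decide +kernel

theorem mem_ClE6_iff (r : ℕ) : r ∈ ClE6.flatten ↔ chevE6.IsPosRoot r := by
  rw [isPosRoot_iff chevE6 _ (posOK_of_mem chevE6 memE6)]
  have h1 : ∀ r < 72, (r ∈ ClE6.flatten ↔ 36 ≤ r) := by decide +kernel
  by_cases hr : r < 72
  · rw [h1 r hr]
    constructor
    · intro h; exact ⟨h, hr⟩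
    · intro h; exact h.1
  · constructor
    · intro h
      have : ∀ x ∈ ClE6.flatten, x < 72 := by decide +kernel
      exact absurd (this r h) hr
    · intro h
      exact absurd h.2 hr

theorem listSubgroup_ClE6 (K : Type*) [Field K] : listSubgroup chevE6 K ClE6.flatten = chevE6.posUnipotent K := by
  unfold listSubgroup ChevalleyDatum.posUnipotent
  congr 1
  ext g
  constructor
  · rintro ⟨r, t, hr, hg⟩
    exact ⟨r, t, (mem_ClE6_iff r).mp hr, hg⟩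
  · rintro ⟨r, t, hr, hg⟩
    exact ⟨r, t, (mem_ClE6_iff r).mpr hr, hg⟩

section

variable {K : Type*} [Field K] [Fintype K] {q : ℕ} (f : K ≃+* K) (hf : ∀ t, f t = t ^ q)

include hf in
theorem frob2 (hK : Fintype.card K = q ^ 2) (x : K) : f (f x) = x := by
  rw [hf, hf, ← pow_mul]
  have : q * q = Fintype.card K := by rw [hK]; ring
  rw [this, FiniteField.pow_card]

include hf in
/-- `|U^σ| = q³⁶` -/
theorem card_U_fix_E6 (hq : 1 ≤ q) (hK : Fintype.card K = q ^ 2) :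
    Nat.card ↥(chevE6.posUnipotent K ⊓ FixE6 f) = q ^ 36 := by
  have h1 := ncard_fix_listSubgroup (K := K) memE6 gradeOK'_E6 rho0 rhoInv0 pi0 piInv0 eps0 permsOK_E6 f allOK0 ClE6
    (closedOK_spec closedOK_E6) classOK_E6
  rw [listSubgroup_ClE6] at h1
  unfold FixE6
  rw [h1, ncard_TS_classes piInv0 eps0 f (ncard_fix_field f hf hq hK) hK (fun _ => frob2 f hf hK) (by omega) ClE6
    nodup_E6 cycOK_E6]
  rfl

end

end Cfsg.Agent.Helper19.Twist
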