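import Cfsg.Agent.Helper19.Twist.CountTS
import Cfsg.Agent.Helper19.Twist.WeylN

/-!
The fixed points of `σ` on `U` (or on the subgroup of a closed list of classes) lie in any subgroup
containing the fixed points of each class; the fixed points of a class are obtained from those of
a simple class by conjugation with a `σ`-fixed element of `N`.
-/

set_option autoImplicit false
set_option maxRecDepth 100000
set_option linter.unusedSectionVars false

namespace Cfsg.Agent.Helper19.Twist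

open Cfsg Cfsg.Lie Cfsg.Agent.Helper18 Cfsg.Agent.Helper40.GraphAut Cfsg.Agent.Helper40.UProd
  Cfsg.Agent.Helper19.Cox Cfsg.Agent.Helper19.Poinc

/-- decidable form of `ClosedList` -/
def closedOK (D : ChevalleyDatum) (φ : ℕ → ℤ) (P : List ℕ) : Bool :=
  decide (P.Pairwise (fun a b => φ a < φ b)) && P.all (fun r => decide (D.IsPosRoot r)) &&
  P.all fun r => P.all fun s => (D.commTerms r s).all fun c => P.contains c.1

theorem closedOK_spec {D : ChevalleyDatum} {φ : ℕ → ℤ} {P : List ℕ} (h : closedOK D φ P = true) :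
    ClosedList D φ P := by
  unfold closedOK at h
  simp only [Bool.and_eq_true, decide_eq_true_eq, List.all_eq_true, List.contains_iff_mem] at h
  exact ⟨h.1.1, h.1.2, fun r hr s hs c hc => h.2 r hr s hs c hc⟩

section

variable {K : Type*} [Field K] {D : ChevalleyDatum}
  (hD : D ∈ [chevG2, chevB2, chevD4, chevF4, chevE6, chevE7, chevE8])
  {φ : ℕ → ℤ} {wit : ℕ → ℕ × ℕ} (hg : gradeOK' D φ wit = true)
  (ρ ρ' π π' : ℕ → ℕ) (ε : ℕ → ℤ) (hp : permsOK D ρ ρ' π π' ε = true) (f : K ≃+* K)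
  (h : allOK D ρ ρ' π π' ε = true)

include hD hg h in
/-- `σ`-fixed ordered products over a list of classes lie in a subgroup containing the fixed points
of each class -/
theorem pwG_mem_of_classes (G1 : Subgroup (GL D.Idx K)) {k : ℕ} (Cl : List (List ℕ)) (hnd : Cl.flatten.Nodup)
    (hcyc : Cl.all (cycOK π' ε k) = true)
    (hcls : ∀ S ∈ Cl, ClosedList D φ S ∧ classOK D π [S] = true ∧
      listSubgroup D K S ⊓ Fix D ρ ρ' π π' ε hp f ≤ G1)
    (t : ℕ → K) (ht : t ∈ TS π' ε f Cl.flatten) : pwG D K Cl.flatten t ∈ G1 := by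
  induction Cl generalizing t with
  | nil => rw [List.flatten_nil, pwG_nil]; exact one_mem _
  | cons S Cl ih =>
    rw [List.all_cons, Bool.and_eq_true] at hcyc
    rw [List.flatten_cons, List.nodup_append] at hnd
    have hstab : ∀ r ∈ Cl.flatten, π' r ∈ Cl.flatten := by
      intro r hr
      rw [List.mem_flatten] at hr ⊢
      obtain ⟨S', hS', hrS'⟩ := hr
      have := List.all_eq_true.mp hcyc.2 S' hS'
      exact ⟨S', hS', cycOK_stable π' ε this r hrS'⟩
    have hdisj : ∀ r ∈ S, r ∉ Cl.flatten := fun r hr hr' => hnd.2.2 r hr r hr' rfl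
    rw [List.flatten_cons, TS_append π' ε f S Cl.flatten hdisj (cycOK_stable π' ε hcyc.1) hstab] at ht
    obtain ⟨⟨t1, t2⟩, ⟨ht1, ht2⟩, rfl⟩ := ht
    simp only at ht1 ht2
    rw [List.flatten_cons, pwG_append]
    have e1 : pwG D K S (t1 + t2) = pwG D K S t1 := by
      apply pwG_congr
      intro r hr
      rw [Pi.add_apply, ht2.1 r (hdisj r hr), add_zero]
    have e2 : pwG D K Cl.flatten (t1 + t2) = pwG D K Cl.flatten t2 := by
      apply pwG_congr
      intro r hr
      rw [Pi.add_apply, ht1.1 r (fun hc => hdisj r hc hr), zero_add]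
    rw [e1, e2]
    obtain ⟨hS1, hS2, hS3⟩ := hcls S List.mem_cons_self
    refine mul_mem (hS3 ⟨pwG_mem_listSubgroup hD S t1, ?_⟩)
      (ih hnd.2.1 hcyc.2 (fun S' hS' => hcls S' (List.mem_cons_of_mem _ hS')) t2 ht2)
    have hflat : [S].flatten = S := by simp
    have := (pwG_mem_Fix_iff hD hg ρ ρ' π π' ε hp f h [S] (by rw [hflat]; exact hS1) hS2 t1
      (by rw [hflat]; exact ht1.1)).mpr (by rw [hflat]; exact ht1)
    rw [hflat] at this
    exact this

include hD hg h in
/-- the fixed points of `σ` on the subgroup of a closed list of classes -/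
theorem fix_le_of_classes (G1 : Subgroup (GL D.Idx K)) {k : ℕ} (Cl : List (List ℕ)) (hnd : Cl.flatten.Nodup)
    (hcyc : Cl.all (cycOK π' ε k) = true) (hP : ClosedList D φ Cl.flatten) (hcl : classOK D π Cl = true)
    (hcls : ∀ S ∈ Cl, ClosedList D φ S ∧ classOK D π [S] = true ∧
      listSubgroup D K S ⊓ Fix D ρ ρ' π π' ε hp f ≤ G1) :
    listSubgroup D K Cl.flatten ⊓ Fix D ρ ρ' π π' ε hp f ≤ G1 := by
  intro g hgm
  have h1 : g ∈ ((listSubgroup D K Cl.flatten ⊓ Fix D ρ ρ' π π' ε hp f : Subgroup (GL D.Idx K)) :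
      Set (GL D.Idx K)) := hgm
  rw [fix_listSubgroup_eq hD hg ρ ρ' π π' ε hp f h Cl hP hcl] at h1
  obtain ⟨t, ht, rfl⟩ := h1
  exact pwG_mem_of_classes hD hg ρ ρ' π π' ε hp f h G1 Cl hnd hcyc hcls t ht

end

section Conj

variable {K : Type*} [Field K] [Fintype K] {D : ChevalleyDatum}
  (hD : D ∈ [chevG2, chevB2, chevD4, chevF4, chevE6, chevE7, chevE8]) (C : Cert D)
  (h31 : NConjHyp D K) [hn : (HN D K).Normal]
  (ρ ρ' π π' : ℕ → ℕ) (ε : ℕ → ℤ) (hp : permsOK D ρ ρ' π π' ε = true) (f : K ≃+* K)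

include hD in
/-- conjugation by an element of `N` carries the subgroup of a list of roots into that of its image -/
theorem conj_listSubgroup_le (n : ↥(D.monomialSubgroup K)) (J S : List ℕ) (hJlt : ∀ r ∈ J, r < D.nroots)
    (hmap : ∀ r ∈ J, phi C.M C.Mx C.hI C.hB C.hMx (theta D hD C h31 n) r ∈ S) :
    (listSubgroup D K J).map (MulAut.conj (n : GL D.Idx K)).toMonoidHom ≤ listSubgroup D K S := by
  have htri := triOK_of_mem D hD
  unfold listSubgroup
  rw [MonoidHom.map_closure, Subgroup.closure_le]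
  rintro y ⟨x, ⟨r, t, hr, hx⟩, rfl⟩
  have e : x = xGL D K r t := Units.ext (by rw [hx, xGL_val D _ htri])
  obtain ⟨hlt, t', e1⟩ := conj_rep D hD C h31 _ n (theta_spec D hD C h31 n) r (hJlt r hr) t
  have e2 : (MulAut.conj (n : GL D.Idx K)).toMonoidHom x =
      xGL D K (phi C.M C.Mx C.hI C.hB C.hMx (theta D hD C h31 n) r) t' := by
    rw [e]; exact e1
  rw [e2]
  apply Subgroup.subset_closure
  exact ⟨_, t', hmap r hr, xGL_val D _ htri _ _⟩

include hD in
/-- the fixed points of a class are in `G1` if those of a class conjugate to it under `N ∩ G1 ∩ Fix` are -/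
theorem class_fix_le_of_conj (G1 : Subgroup (GL D.Idx K)) (n : ↥(D.monomialSubgroup K))
    (hn1 : (n : GL D.Idx K) ∈ G1) (hnfix : sigmaGL D ρ ρ' π π' ε hp f (n : GL D.Idx K) = n)
    (J S : List ℕ) (hJlt : ∀ r ∈ J, r < D.nroots)
    (hmap : ∀ r ∈ J, phi C.M C.Mx C.hI C.hB C.hMx (theta D hD C h31 n) r ∈ S)
    (hJ : listSubgroup D K J ⊓ Fix D ρ ρ' π π' ε hp f ≤ G1)
    (hcard : Nat.card ↥(listSubgroup D K S ⊓ Fix D ρ ρ' π π' ε hp f) ≤
      Nat.card ↥(listSubgroup D K J ⊓ Fix D ρ ρ' π π' ε hp f)) :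
    listSubgroup D K S ⊓ Fix D ρ ρ' π π' ε hp f ≤ G1 := by
  set A := listSubgroup D K J ⊓ Fix D ρ ρ' π π' ε hp f with hA
  set B := listSubgroup D K S ⊓ Fix D ρ ρ' π π' ε hp f with hB
  set c := (MulAut.conj (n : GL D.Idx K)).toMonoidHom with hc
  have hle : A.map c ≤ B ⊓ G1 := by
    rintro y ⟨g, hgA, rfl⟩
    have hgA' : g ∈ listSubgroup D K J ⊓ Fix D ρ ρ' π π' ε hp f := hgA
    refine ⟨⟨?_, ?_⟩, ?_⟩
    · exact conj_listSubgroup_le hD C h31 n J S hJlt hmap ⟨g, hgA'.1, rfl⟩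
    · have hgf : sigmaGL D ρ ρ' π π' ε hp f g = g := (mem_Fix D ρ ρ' π π' ε hp f g).mp hgA'.2
      apply (mem_Fix D ρ ρ' π π' ε hp f _).mpr
      show sigmaGL D ρ ρ' π π' ε hp f ((n : GL D.Idx K) * g * (n : GL D.Idx K)⁻¹) = _
      rw [map_mul, map_mul, map_inv, hnfix, hgf]
      rfl
    · show (n : GL D.Idx K) * g * (n : GL D.Idx K)⁻¹ ∈ G1
      exact mul_mem (mul_mem hn1 (hJ hgA')) (inv_mem hn1)
  have hinj : Function.Injective c := (MulAut.conj (n : GL D.Idx K)).injective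
  have h1 : Nat.card ↥(A.map c) = Nat.card ↥A := Subgroup.card_map_of_injective hinj
  have h2 : Nat.card ↥(A.map c) ≤ Nat.card ↥(B ⊓ G1) := Subgroup.card_le_of_le hle
  have h3 : B ⊓ G1 = B := by
    apply Subgroup.eq_of_le_of_card_ge inf_le_left
    omega
  rw [← h3]
  exact inf_le_right

end Conj

end Cfsg.Agent.Helper19.Twist
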